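/-
Hermitian spaces over four elements.
-/
import Cfsg.Agent.Lib.ThreeTrans.UnitaryClass

set_option autoImplicit false
set_option linter.unusedSectionVars false

namespace CfsgThreeTrans.Polar

open Matrix CfsgLib CfsgLib.UnitaryTransvection CfsgLib.UnitarySimple
open CfsgUniqueTT.Unitary (two_zero add_self vadd_self cube norm_one fixed norm_fix h_zero_right h_zero_left)

universe v

variable {F : Type v} [Field F] [Fintype F] [DecidableEq F] {n : ℕ} (hF : Fintype.card F = 2 ^ 2)

local notation "σ" => frob hF
local notation "h" => Cfsg.hermForm n F 2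

/-- An element of trace one. -/
noncomputable def om : F := (exists_trace_one hF).choose

include hF

theorem frob_sq (x : F) : σ x = x * x := by rw [frob_apply, sq]

theorem frob_om : σ (om hF) = om hF + 1 := by
  have := (exists_trace_one hF).choose_spec
  show σ (exists_trace_one hF).choose = (exists_trace_one hF).choose + 1
  linear_combination this - (exists_trace_one hF).choose * two_zero hF

theorem om_sq : om hF * om hF = om hF + 1 := by rw [← frob_sq hF, frob_om]

theorem om_ne_zero : om hF ≠ 0 := fun e => one_ne_zero (α := F) (by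
  have := frob_om hF
  rw [e, map_zero, zero_add] at this
  exact this.symm)

theorem om_ne_one : om hF ≠ 1 := fun e => one_ne_zero (α := F) (by
  have := frob_om hF
  rw [e, map_one, add_self hF] at this
  exact this)

theorem om_add_one_ne : om hF + 1 ≠ 0 := fun e => om_ne_one hF (by linear_combination e - two_zero hF)

theorem four (a : F) : a = 0 ∨ a = 1 ∨ a = om hF ∨ a = om hF + 1 := by
  have hall : ({0, 1, om hF, om hF + 1} : Finset F) = Finset.univ := by
    refine Finset.eq_univ_of_card _ ?_
    have h1 : (om hF + 1 : F) ≠ 1 := fun e => om_ne_zero hF (by linear_combination e)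
    have h2 : om hF + 1 ≠ om hF := fun e => one_ne_zero (α := F) (by linear_combination e)
    rw [Finset.card_insert_of_notMem, Finset.card_insert_of_notMem, Finset.card_pair h2.symm, hF] <;>
      simp [om_ne_zero hF, (om_ne_zero hF).symm, om_ne_one hF, (om_ne_one hF).symm, h1.symm, (om_add_one_ne hF).symm]
  have := Finset.mem_univ a
  rw [← hall] at this
  simpa using this

/-- Elements outside the prime field have trace one. -/
theorem trace_one {a : F} (h0 : a ≠ 0) (h1 : a ≠ 1) : a + σ a = 1 := by
  rcases four hF a with rfl | rfl | rfl | rfl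
  · exact absurd rfl h0
  · exact absurd rfl h1
  · rw [frob_om]; linear_combination om hF * two_zero hF
  · rw [map_add, frob_om, map_one]; linear_combination (om hF + 1) * two_zero hF

theorem trace_zero {a : F} (ha : a + σ a = 0) : a = 0 ∨ a = 1 := by
  by_contra hne
  push Not at hne
  rw [trace_one hF hne.1 hne.2] at ha
  exact one_ne_zero ha

theorem trace_cases (a : F) : a + σ a = 0 ∨ a + σ a = 1 := by
  by_cases h0 : a = 0
  · exact Or.inl (by rw [h0, map_zero, add_zero])
  by_cases h1 : a = 1
  · exact Or.inl (by rw [h1, map_one, add_self hF])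
  exact Or.inr (trace_one hF h0 h1)

theorem eq_of_add {a b : F} (e : a + b = 0) : a = b := by linear_combination e - b * two_zero hF

theorem diag_cases (u : Fin n → F) : h u u = 0 ∨ h u u = 1 := fixed hF (h_swap hF u u)

theorem diag_add (x y : Fin n → F) : h (x + y) (x + y) = h x x + h y y + (h x y + σ (h x y)) := by
  rw [h_add_left, h_add_right hF, h_add_right hF, h_swap hF x y]; ring

theorem diag_smul {a : F} (ha : a ≠ 0) (x : Fin n → F) : h (a • x) (a • x) = h x x := by
  rw [h_smul_left, h_smul_right hF, ← mul_assoc, norm_one hF ha, one_mul]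

theorem ne_zero_of_h {x y : Fin n → F} (e : h x y ≠ 0) : x ≠ 0 := fun hx => e (by rw [hx, h_zero_left hF])

theorem h_comm_zero {x y : Fin n → F} (e : h x y = 0) : h y x = 0 := by rw [← h_swap hF x y, e, map_zero]

/-- An isotropic vector dual to an isotropic one. -/
theorem iso_dual {u : Fin n → F} (hu0 : u ≠ 0) (hu : h u u = 0) : ∃ x, h x x = 0 ∧ h x u = 1 := by
  obtain ⟨y, hy, hy'⟩ := exists_partner hF hu0
  rcases diag_cases hF y with e | e
  · exact ⟨y, e, hy'⟩
  · refine ⟨y + om hF • u, ?_, by rw [h_add_left, h_smul_left, hu, hy', mul_zero, add_zero]⟩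
    rw [diag_add hF, diag_smul hF (om_ne_zero hF), hu, e, h_smul_right hF, hy', mul_one, frob_frob hF, add_zero,
      frob_om]
    linear_combination (1 + om hF) * two_zero hF

/-- An isotropic vector with prescribed value at a non-isotropic one. -/
theorem iso_value (hn : 2 ≤ n) {w : Fin n → F} (hw : h w w = 1) {e : F} (he : e ≠ 0) :
    ∃ u, h u u = 0 ∧ h w u = e := by
  suffices ∃ u, h u u = 0 ∧ h w u ≠ 0 by
    obtain ⟨u, hu, hwu⟩ := this
    refine ⟨σ (e / h w u) • u, ?_, ?_⟩
    · rw [diag_smul hF ((map_ne_zero _).mpr (div_ne_zero he hwu)), hu]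
    · rw [h_smul_right hF, frob_frob hF, div_mul_cancel₀ e hwu]
  obtain ⟨u0, hu0, hu⟩ := exists_isotropic hF hn
  by_contra hno
  push Not at hno
  obtain ⟨x, hx, hxu⟩ := iso_dual hF hu0 hu
  have hwx := hno x hx
  have hwu := hno u0 hu
  have := hno (x + om hF • u0 + w) (by
    rw [diag_add hF, hw, diag_add hF, diag_smul hF (om_ne_zero hF), hu, hx, h_smul_right hF, hxu, h_add_left,
      h_smul_left, h_comm_zero hF hwx, h_comm_zero hF hwu, mul_one, mul_zero, add_zero, map_zero, frob_frob hF,
      frob_om]
    linear_combination (1 + om hF) * two_zero hF)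
  rw [h_add_right hF, h_add_right hF, h_smul_right hF, hwx, hwu, hw, mul_zero, zero_add, zero_add] at this
  exact one_ne_zero this

/-- Isotropic vectors separate. -/
theorem eq_zero_of_iso (hn : 2 ≤ n) {w : Fin n → F} (hw : ∀ x, h x x = 0 → h x w = 0) : w = 0 := by
  by_contra h0
  rcases diag_cases hF w with e | e
  · obtain ⟨x, hx, hxw⟩ := iso_dual hF h0 e
    exact one_ne_zero (hxw.symm.trans (hw x hx))
  · obtain ⟨x, hx, hwx⟩ := iso_value hF hn e one_ne_zero
    rw [h_comm_zero hF (hw x hx)] at hwx
    exact zero_ne_one hwx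

theorem eq_of_iso (hn : 2 ≤ n) {w w' : Fin n → F} (hw : ∀ x, h x x = 0 → h x w = h x w') : w = w' :=
  sub_eq_zero.mp (eq_zero_of_iso hF hn fun x hx => by rw [h_sub_right hF, hw x hx, sub_self])

/-- A vector with value one at `u` whose value at a non-isotropic `w` has trace one. -/
theorem exists_witness {u w : Fin n → F} (hu0 : u ≠ 0) (hu : h u u = 0) (hw : h w w = 1) :
    ∃ x, h x x = 0 ∧ h x u = 1 ∧ h w x ≠ 0 ∧ h w x ≠ 1 := by
  obtain ⟨x0, hx0, hxu⟩ := iso_dual hF hu0 hu
  have hux : h u x0 = 1 := by rw [← h_swap hF x0 u, hxu, map_one]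
  have split : ∀ a : F, a ≠ 0 → a ≠ 1 → a + σ a = 1 := fun a => trace_one hF
  suffices ∃ x, h x x = 0 ∧ h x u = 1 ∧ h w x + σ (h w x) = 1 by
    obtain ⟨x, h1, h2, h3⟩ := this
    refine ⟨x, h1, h2, fun e => ?_, fun e => ?_⟩
    · rw [e, map_zero, add_zero] at h3; exact zero_ne_one h3
    · rw [e, map_one, add_self hF] at h3; exact zero_ne_one h3
  set g := h w u with hg
  set k := h w x0 with hk
  rcases trace_cases hF k with e0 | e0
  swap
  · exact ⟨x0, hx0, hxu, e0⟩
  rcases trace_cases hF g with e1 | e1
  swap
  · refine ⟨x0 + u, ?_, ?_, ?_⟩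
    · rw [diag_add hF, hx0, hu, hxu, map_one]; linear_combination two_zero hF
    · rw [h_add_left, hxu, hu, add_zero]
    · rw [h_add_right hF, ← hk, ← hg, map_add]; linear_combination e0 + e1
  -- the component of `w` orthogonal to both
  set z := w + g • x0 + k • u with hz
  have hgσ : σ g = g := by linear_combination e1 - g * two_zero hF
  have hkσ : σ k = k := by linear_combination e0 - k * two_zero hF
  have hzu : h z u = 0 := by
    rw [hz, h_add_left, h_add_left, h_smul_left, h_smul_left, hxu, hu, ← hg]
    linear_combination g * two_zero hF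
  have hzx : h z x0 = 0 := by
    rw [hz, h_add_left, h_add_left, h_smul_left, h_smul_left, hux, hx0, ← hk]
    linear_combination k * two_zero hF
  have hwz : h w z = h w w := by
    rw [hz, h_add_right hF, h_add_right hF, h_smul_right hF, h_smul_right hF, ← hg, ← hk, hgσ, hkσ]
    linear_combination g * k * two_zero hF
  have hzz : h z z = 1 := by
    nth_rewrite 1 [hz]
    rw [h_add_left, h_add_left, h_smul_left, h_smul_left, hwz, hw, h_comm_zero hF hzu, h_comm_zero hF hzx]
    ring
  rcases fixed hF hgσ with hg0 | hg1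
  · refine ⟨x0 + om hF • u + om hF • z, ?_, ?_, ?_⟩
    · rw [diag_add hF, diag_add hF, diag_smul hF (om_ne_zero hF), diag_smul hF (om_ne_zero hF), hx0, hu, hzz,
        h_add_left, h_smul_left, h_smul_right hF, h_smul_right hF, h_smul_right hF, hxu, h_comm_zero hF hzx,
        h_comm_zero hF hzu, mul_zero, mul_zero, mul_one, add_zero, map_zero, frob_frob hF, frob_om]
      linear_combination (1 + om hF) * two_zero hF
    · rw [h_add_left, h_add_left, h_smul_left, h_smul_left, hxu, hu, hzu]; ring
    · rw [h_add_right hF, h_add_right hF, h_smul_right hF, h_smul_right hF, ← hk, ← hg, hwz, hw, hg0, frob_om,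
        mul_zero, add_zero, mul_one, map_add, map_add, hkσ, frob_om, map_one]
      linear_combination (k + om hF + 1) * two_zero hF
  · refine ⟨x0 + om hF • u + z, ?_, ?_, ?_⟩
    · rw [diag_add hF, diag_add hF, diag_smul hF (om_ne_zero hF), hx0, hu, hzz, h_add_left, h_smul_left,
        h_smul_right hF, hxu, h_comm_zero hF hzx, h_comm_zero hF hzu, mul_zero, mul_one, add_zero, map_zero,
        frob_frob hF, frob_om]
      linear_combination (1 + om hF) * two_zero hF
    · rw [h_add_left, h_add_left, h_smul_left, hxu, hu, hzu]; ring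
    · rw [h_add_right hF, h_add_right hF, h_smul_right hF, ← hk, ← hg, hwz, hw, hg1, frob_om,
        mul_one, map_add, map_add, map_add, hkσ, frob_om, map_one]
      linear_combination (k + om hF + 2) * two_zero hF

/-- The space extended by a hyperbolic pair. -/
noncomputable def big (l : F) (w : Fin n → F) (m : F) : Fin (n + 2) → F :=
  Fin.cons (l + m * om hF) (Fin.cons (l + m * (om hF + 1)) w)

theorem h_big (l l' m m' : F) (w w' : Fin n → F) :
    Cfsg.hermForm (n + 2) F 2 (big hF l w m) (big hF l' w' m') = l * σ m' + m * σ l' + h w w' := by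
  simp only [Cfsg.hermForm, big, Fin.sum_univ_succ, Fin.cons_zero, Fin.cons_succ, ← frob_apply hF, map_add,
    map_mul, map_one, frob_om]
  linear_combination (l * σ l' + l * σ m' * (om hF + 1) + m * σ l' * om hF + m * σ m' * (om hF + 1) ^ 2) * two_zero hF

theorem big_add (l l' m m' : F) (w w' : Fin n → F) :
    big hF l w m + big hF l' w' m' = big hF (l + l') (w + w') (m + m') := by
  funext i
  refine Fin.cases ?_ (fun i => Fin.cases ?_ (fun i => ?_) i) i <;> simp [big] <;> ring

theorem big_smul (a l m : F) (w : Fin n → F) : a • big hF l w m = big hF (a * l) (a • w) (a * m) := by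
  funext i
  refine Fin.cases ?_ (fun i => Fin.cases ?_ (fun i => ?_) i) i <;> simp [big] <;> ring

theorem big_inj {l l' m m' : F} {w w' : Fin n → F} (e : big hF l w m = big hF l' w' m') :
    l = l' ∧ w = w' ∧ m = m' := by
  have e0 := congrFun e 0
  have e1 := congrFun e 1
  simp only [big, Fin.cons_zero] at e0
  rw [show (1 : Fin (n + 2)) = Fin.succ 0 from rfl] at e1
  simp only [big, Fin.cons_succ, Fin.cons_zero] at e1
  have hm : m = m' := by linear_combination e1 - e0
  subst hm
  exact ⟨add_right_cancel e0, funext fun i => by simpa [big] using congrFun e i.succ.succ, rfl⟩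

theorem big_surj (x : Fin (n + 2) → F) : ∃ l w m, x = big hF l w m := by
  refine ⟨x 0 + (x 0 + x 1) * om hF, fun i => x i.succ.succ, x 0 + x 1, funext fun i => ?_⟩
  refine Fin.cases ?_ (fun i => Fin.cases ?_ (fun i => ?_) i) i <;> simp [big]
  · linear_combination -((x 0 + x 1) * om hF) * two_zero hF
  · linear_combination -(x 0 + (x 0 + x 1) * om hF) * two_zero hF

end CfsgThreeTrans.Polar
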