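/-
Lines of the polar space on a class of 3-transpositions in which commuting pairs have twins.
-/
import Cfsg.Agent.Lib.ThreeTrans.Rank3

set_option autoImplicit false

namespace CfsgThreeTrans.Polar

open Cfsg CfsgLib CfsgThreeTrans

universe u

variable {G : Type u} [Group G] {D : Set G}

/-- The members commuting with all common partners of `a` and `b`. -/
def line (D : Set G) (a b : G) : Set G :=
  {z | z ∈ D ∧ ∀ u ∈ D, Commute u a → Commute u b → Commute u z}

/-- A primitive class in which every commuting pair lies on a line with a third member. -/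
structure IsPolar (D : Set G) : Prop where
  cls : IsThreeTranspositionClass D
  prim : IsPrimitiveUnderConj D
  pair : ∃ a ∈ D, ∃ b ∈ D, a ≠ b ∧ Commute a b
  third : ∀ a ∈ D, ∀ b ∈ Ds D a, ∃ c ∈ line D a b, c ≠ a ∧ c ≠ b

theorem left_mem {a b : G} (ha : a ∈ D) : a ∈ line D a b := ⟨ha, fun _ _ h _ => h⟩

theorem right_mem {a b : G} (hb : b ∈ D) : b ∈ line D a b := ⟨hb, fun _ _ _ h => h⟩

theorem line_swap (a b : G) : line D a b = line D b a :=
  Set.ext fun _ => and_congr_right fun _ => ⟨fun h u hu h1 h2 => h u hu h2 h1, fun h u hu h1 h2 => h u hu h2 h1⟩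

theorem cj_line_mem (hD : IsThreeTranspositionClass D) (g : G) {a b z : G} (h : z ∈ line D a b) :
    g * z * g⁻¹ ∈ line D (g * a * g⁻¹) (g * b * g⁻¹) := by
  refine ⟨cls_conj hD g h.1, fun u hu h1 h2 => ?_⟩
  rw [← cj_inv g u] at h1 h2 ⊢
  rw [commute_cj_iff] at h1 h2 ⊢
  exact h.2 _ (cls_conj hD _ hu) h1 h2

/-- Conjugation by a member. -/
theorem commute_conj_iff (hD : IsThreeTranspositionSet D) {r u v : G} (hr : r ∈ D) :
    Commute (r * u * r) (r * v * r) ↔ Commute u v := by
  have h := commute_cj_iff (x := u) (y := v) r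
  rwa [inv_self hD hr] at h

theorem Ds_symm {a b : G} (ha : a ∈ D) (h : b ∈ Ds D a) : a ∈ Ds D b := ⟨ha, h.2.1.symm, h.2.2.symm⟩

/-- Two members of a line commute. -/
theorem line_commute {a b z w : G} (hb : b ∈ Ds D a) (ha : a ∈ D) (hz : z ∈ line D a b) (hw : w ∈ line D a b) :
    Commute z w :=
  hw.2 z hz.1 (hz.2 a ha (Commute.refl a) hb.2.2).symm (hz.2 b hb.1 hb.2.2.symm (Commute.refl b)).symm

theorem swap_pair (hD : IsThreeTranspositionSet D) {x e z : G} (hx : x ∈ D) (he : e ∈ D) (hz : z ∈ D)
    (hxe : Commute x e) (hxz : ¬ Commute x z) (hez : ¬ Commute e z) :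
    (z * x * e * z) * x * (z * x * e * z)⁻¹ = e ∧ (z * x * e * z) * e * (z * x * e * z)⁻¹ = x := by
  have bx := braid hD hx hz hxz
  have be := braid hD he hz hez
  have cx := mul_mul_cancel_self (mul_self hD hx)
  have ce := mul_mul_cancel_self (mul_self hD he)
  have cz := mul_mul_cancel_self (mul_self hD hz)
  have fxe : x * e * x = e := by rw [hxe.eq, mul_assoc, mul_self hD hx, mul_one]
  have fex : e * x * e = x := by rw [hxe.symm.eq, mul_assoc, mul_self hD he, mul_one]
  have hinv : (z * x * e * z)⁻¹ = z * e * x * z := by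
    simp only [mul_inv_rev, inv_self hD hx, inv_self hD he, inv_self hD hz, mul_assoc]
  rw [hinv]
  constructor
  · calc z * x * e * z * x * (z * e * x * z) = z * x * e * (z * x * z) * e * x * z := by simp only [mul_assoc]
      _ = z * (x * e * x) * z * (x * e * x) * z := by rw [← bx]; simp only [mul_assoc]
      _ = z * (e * z * e) * z := by rw [fxe]; simp only [mul_assoc]
      _ = e := by rw [be]; simp only [mul_assoc, cz, mul_self hD hz, mul_one]
  · calc z * x * e * z * e * (z * e * x * z) = z * (e * x) * (z * e * z) * (x * e) * z := by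
          rw [← hxe.eq]
          simp only [mul_assoc]
          rw [← mul_assoc e x, ← hxe.eq, mul_assoc x e]
      _ = z * (e * x * e) * z * (e * x * e) * z := by rw [← be]; simp only [mul_assoc]
      _ = z * (x * z * x) * z := by rw [fex]; simp only [mul_assoc]
      _ = x := by rw [bx]; simp only [mul_assoc, cz, mul_self hD hz, mul_one]

variable [Finite G]

theorem pair_conj (h : IsPolar D) {a b c d : G} (ha : a ∈ D) (hb : b ∈ Ds D a) (hc : c ∈ D) (hd : d ∈ Ds D c) :
    ∃ g : G, g * a * g⁻¹ = c ∧ g * b * g⁻¹ = d := by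
  obtain ⟨g, rfl⟩ := cls_exists_conj h.cls ha hc
  have hb' : g * b * g⁻¹ ∈ Ds D (g * a * g⁻¹) :=
    ⟨cls_conj h.cls g hb.1, fun e => hb.2.1 (cj_injective g e), (commute_cj_iff g).mpr hb.2.2⟩
  obtain ⟨k, hk, hk'⟩ := rank_three_near h.cls h.prim h.pair (cls_conj h.cls g ha) _ hb' d hd
  exact ⟨k * g, by rw [← cj_cj, hk.eq, mul_inv_cancel_right], by rw [← cj_cj, hk']⟩

/-- A member commuting with two points of a line commutes with all of them. -/
theorem mem_of_two (h : IsPolar D) {a b z w : G} (ha : a ∈ D) (hb : b ∈ Ds D a) (hz : z ∈ line D a b)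
    (hw : w ∈ line D a b) (hzw : z ≠ w) {u : G} (hu : u ∈ D) (h1 : Commute u z) (h2 : Commute u w) :
    Commute u a ∧ Commute u b := by
  have hzw' : w ∈ Ds D z := ⟨hw.1, hzw.symm, line_commute hb ha hz hw⟩
  obtain ⟨g, hga, hgb⟩ := pair_conj h ha hb hz.1 hzw'
  set A := {y | y ∈ D ∧ Commute y a ∧ Commute y b}
  set B := {y | y ∈ D ∧ Commute y z ∧ Commute y w}
  have himg : (fun y => g * y * g⁻¹) '' A = B := by
    ext y
    constructor
    · rintro ⟨y, hy, rfl⟩
      exact ⟨cls_conj h.cls g hy.1, hga ▸ (commute_cj_iff g).mpr hy.2.1, hgb ▸ (commute_cj_iff g).mpr hy.2.2⟩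
    · intro hy
      refine ⟨g⁻¹ * y * g⁻¹⁻¹, ⟨cls_conj h.cls _ hy.1, (commute_cj_iff g).mp ?_, (commute_cj_iff g).mp ?_⟩, cj_inv g y⟩
      · rw [cj_inv, hga]; exact hy.2.1
      · rw [cj_inv, hgb]; exact hy.2.2
  have hsub : A ⊆ B := fun y hy => ⟨hy.1, hz.2 y hy.1 hy.2.1 hy.2.2, hw.2 y hy.1 hy.2.1 hy.2.2⟩
  have heq : A = B := Set.eq_of_subset_of_ncard_le hsub (by
    rw [← himg, Set.ncard_image_of_injective _ (cj_injective g)])
  have : u ∈ A := heq ▸ ⟨hu, h1, h2⟩
  exact this.2

theorem commute_line (h : IsPolar D) {a b z w v : G} (ha : a ∈ D) (hb : b ∈ Ds D a) (hz : z ∈ line D a b)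
    (hw : w ∈ line D a b) (hzw : z ≠ w) (hv : v ∈ line D a b) {u : G} (hu : u ∈ D) (h1 : Commute u z)
    (h2 : Commute u w) : Commute u v :=
  hv.2 u hu (mem_of_two h ha hb hz hw hzw hu h1 h2).1 (mem_of_two h ha hb hz hw hzw hu h1 h2).2

/-- A line is determined by two of its points. -/
theorem line_eq (h : IsPolar D) {a b z w : G} (ha : a ∈ D) (hb : b ∈ Ds D a) (hz : z ∈ line D a b)
    (hw : w ∈ line D a b) (hzw : z ≠ w) : line D z w = line D a b :=
  Set.ext fun v => ⟨fun hv => ⟨hv.1, fun u hu h1 h2 => hv.2 u hu (hz.2 u hu h1 h2) (hw.2 u hu h1 h2)⟩,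
    fun hv => ⟨hv.1, fun _ hu h1 h2 => commute_line h ha hb hz hw hzw hv hu h1 h2⟩⟩

/-- A conjugation exchanging two points of a line stabilises it. -/
theorem cj_mem_of_swap (h : IsPolar D) {a b x e f g : G} (ha : a ∈ D) (hb : b ∈ Ds D a) (hx : x ∈ line D a b)
    (he : e ∈ line D a b) (hxe : x ≠ e) (hf : f ∈ line D a b) (h1 : g * x * g⁻¹ = e) (h2 : g * e * g⁻¹ = x) :
    g * f * g⁻¹ ∈ line D a b := by
  have hl := line_eq h ha hb hx he hxe
  rw [← hl] at hf ⊢
  have := cj_line_mem h.cls g hf
  rwa [h1, h2, line_swap] at this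

/-- Three points of a line missed by `z` give a fourth missed point and a point commuting with `z`. -/
theorem fifth (h : IsPolar D) {a b x e f z d : G} (ha : a ∈ D) (hb : b ∈ Ds D a) (hx : x ∈ line D a b)
    (he : e ∈ line D a b) (hf : f ∈ line D a b) (hxe : x ≠ e) (hxf : x ≠ f) (hef : e ≠ f) (hz : z ∈ D)
    (hzx : ¬ Commute z x) (hze : ¬ Commute z e) (hzf : ¬ Commute z f) (hd : d ∈ D) (hdx : Commute d x)
    (hdz : Commute d z) (hde : ¬ Commute d e) :
    ∃ g ∈ line D a b, Commute z g ∧
      g = (d * e * f * d) * ((z * x * e * z) * f * (z * x * e * z)⁻¹) * (d * e * f * d)⁻¹ := by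
  have hD := h.cls.1
  have cxe := line_commute hb ha hx he
  have cxf := line_commute hb ha hx hf
  have cef := line_commute hb ha he hf
  have hdf : ¬ Commute d f := fun hc => hde (commute_line h ha hb hx hf hxf he hd hdx hc)
  have mx := mul_self hD hx.1
  have me := mul_self hD he.1
  have mf := mul_self hD hf.1
  have mz := mul_self hD hz
  have md := mul_self hD hd
  have cx := mul_mul_cancel_self mx
  have ce := mul_mul_cancel_self me
  have cf := mul_mul_cancel_self mf
  have cz := mul_mul_cancel_self mz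
  have cd := mul_mul_cancel_self md
  have bxz : x * z * x = z * x * z := braid hD hx.1 hz fun hc => hzx hc.symm
  have bez : e * z * e = z * e * z := braid hD he.1 hz fun hc => hze hc.symm
  have bfz : f * z * f = z * f * z := braid hD hf.1 hz fun hc => hzf hc.symm
  have ik : (z * x * e * z)⁻¹ = z * e * x * z := by
    simp only [mul_inv_rev, inv_self hD hx.1, inv_self hD he.1, inv_self hD hz, mul_assoc]
  have ij : (d * e * f * d)⁻¹ = d * f * e * d := by
    simp only [mul_inv_rev, inv_self hD hf.1, inv_self hD he.1, inv_self hD hd, mul_assoc]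
  obtain ⟨kx, ke⟩ := swap_pair hD hx.1 he.1 hz cxe (fun hc => hzx hc.symm) (fun hc => hze hc.symm)
  obtain ⟨je, jf⟩ := swap_pair hD he.1 hf.1 hd cef (fun hc => hde hc.symm) (fun hc => hdf hc.symm)
  set k := z * x * e * z with hk
  set j := d * e * f * d with hj
  set p := k * f * k⁻¹ with hp
  have hpl : p ∈ line D a b := cj_mem_of_swap h ha hb hx he hxe hf kx ke
  have hpl' : j * p * j⁻¹ ∈ line D a b := cj_mem_of_swap h ha hb he hf hef hpl je jf
  refine ⟨_, hpl', ?_, rfl⟩
  -- the fourth point is not `x`, so it does not commute with `d`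
  have hpx : p ≠ x := fun hc => hef (cj_injective k (ke.trans hc.symm))
  have hpd : ¬ Commute p d := fun hc => hde (commute_line h ha hb hx hpl hpx.symm he hd hdx hc.symm)
  set u := f * (e * d * e) * f with hu
  have hue : e * d * e ∈ D := by
    have := cls_conj h.cls e hd; rwa [inv_self hD he.1] at this
  have huD : u ∈ D := by
    have := cls_conj h.cls f hue; rwa [inv_self hD hf.1] at this
  have hux : Commute u x := by
    have h1 : Commute (e * d * e) x := (cxe.symm.mul_left hdx).mul_left cxe.symm
    exact (cxf.symm.mul_left h1).mul_left cxf.symm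
  have huz : ¬ Commute u z := fun hc => hpd (by
    -- undo the conjugation by `k`
    have h1 : Commute (e * d * e) (f * z * f) := by
      have := (commute_conj_iff hD hf.1).mpr hc
      simpa only [hu, mul_assoc, cf, mf, mul_one] using this
    have h2 : Commute (z * (e * d * e) * z) f := by
      have := (commute_conj_iff hD hz).mpr (bfz ▸ h1)
      simpa only [mul_assoc, cz, mz, mul_one] using this
    have hkd : k * d * k⁻¹ = z * (e * d * e) * z := by
      rw [ik, hk]
      calc z * x * e * z * d * (z * e * x * z) = z * x * e * (z * d * z) * e * x * z := by simp only [mul_assoc]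
        _ = z * (x * (e * d * e) * x) * z := by
            rw [hdz.symm.eq, mul_assoc d z z, mz, mul_one]; simp only [mul_assoc]
        _ = z * (e * d * e) * z := by
            have h1 : Commute x (e * d * e) := (cxe.mul_right hdx.symm).mul_right cxe
            rw [h1.eq, mul_assoc _ x x, mx, mul_one]
    have h3 : Commute (k * d * k⁻¹) f := hkd ▸ h2
    have h4 := (commute_cj_iff k).mpr h3.symm
    have e1 : k * (k * d * k⁻¹) * k⁻¹ = d := by
      have kk : k * k = 1 := by
        rw [hk]
        calc z * x * e * z * (z * x * e * z) = z * x * (e * x) * e * z := by simp only [mul_assoc, cz]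
          _ = z * x * (x * e) * e * z := by rw [cxe.eq]
          _ = 1 := by simp only [mul_assoc, cx, ce, mz]
      rw [cj_cj, kk, one_mul, inv_one, mul_one]
    rwa [e1] at h4)
  have buz : u * z * u = z * u * z := braid hD huD hz huz
  -- conjugating the commuting pair `u, x` four times
  have s1 : Commute (z * u * z) (z * x * z) := (commute_conj_iff hD hz).mpr hux
  rw [← buz, ← bxz] at s1
  have cu := mul_mul_cancel_self (mul_self hD huD)
  have s2 : Commute z (u * (x * z * x) * u) := by
    have := (commute_conj_iff hD huD).mpr s1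
    simpa only [mul_assoc, cu, mul_self hD huD, mul_one] using this
  have s3 : Commute (f * z * f) (f * (u * (x * z * x) * u) * f) := (commute_conj_iff hD hf.1).mpr s2
  have s4 := (commute_conj_iff hD hz).mpr s3
  have l1 : z * (f * z * f) * z = f := by rw [bfz]; simp only [mul_assoc, cz, mz, mul_one]
  have hr : z * (f * (u * (x * z * x) * u) * f) * z = k * (j⁻¹ * z * j⁻¹⁻¹) * k⁻¹ := by
    rw [inv_inv, ij, ik, hk, hj]
    have h1 : Commute x (e * d * e) := (cxe.mul_right hdx.symm).mul_right cxe
    have fu : f * u = (e * d * e) * f := by simp only [hu, mul_assoc, cf]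
    have uf : u * f = f * (e * d * e) := by simp only [hu, mul_assoc, mf, mul_one]
    have hef' : Commute e f := cef
    have m1 : z * e * f * z * f * e * z = e * f * z * f * e := by
      calc z * e * f * z * f * e * z = z * e * (f * z * f) * e * z := by simp only [mul_assoc]
        _ = (z * e * z) * f * (z * e * z) := by rw [bfz]; simp only [mul_assoc]
        _ = e * z * (e * f * e) * z * e := by rw [← bez]; simp only [mul_assoc]
        _ = e * (z * f * z) * e := by
            rw [hef'.eq, mul_assoc f e e, me, mul_one]; simp only [mul_assoc]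
        _ = e * f * z * f * e := by rw [← bfz]; simp only [mul_assoc]
    calc z * (f * (u * (x * z * x) * u) * f) * z = z * ((f * u) * (x * z * x) * (u * f)) * z := by
          simp only [mul_assoc]
      _ = z * (((e * d * e) * f * x) * z * (x * f * (e * d * e))) * z := by rw [fu, uf]; simp only [mul_assoc]
      _ = z * ((x * (e * d * e) * f) * z * (f * (e * d * e) * x)) * z := by
          rw [show (e * d * e) * f * x = x * (e * d * e) * f by
                rw [mul_assoc, cxf.symm.eq, ← mul_assoc, ← h1.eq],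
            show x * f * (e * d * e) = f * (e * d * e) * x by
                rw [cxf.eq, mul_assoc, h1.eq, ← mul_assoc]]
      _ = z * x * e * d * (e * f * z * f * e) * d * e * x * z := by simp only [mul_assoc]
      _ = z * x * e * (d * z) * e * f * z * f * e * (z * d) * e * x * z := by
          rw [← m1]; simp only [mul_assoc]
      _ = z * x * e * z * d * e * f * z * f * e * d * (z * e * x * z) := by
          rw [hdz.eq, ← hdz.eq]
          simp only [mul_assoc]
          rw [← mul_assoc d z (e * _), hdz.eq, mul_assoc z d]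
      _ = z * x * e * z * (d * f * e * d * z * (d * e * f * d)) * (z * e * x * z) := by
          have e1 : d * e * f * z * f * e * d = d * f * e * d * z * (d * e * f * d) := by
            have e2 : d * z * d = z := by rw [hdz.eq, mul_assoc, md, mul_one]
            have e3 : f * e = e * f := hef'.eq.symm
            calc d * e * f * z * f * e * d = d * (f * e) * z * (e * f) * d := by
                  rw [e3]; simp only [mul_assoc]; rw [← mul_assoc f e d, e3, mul_assoc]
              _ = d * (f * e) * (d * z * d) * (e * f) * d := by rw [e2]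
              _ = _ := by simp only [mul_assoc]
          rw [← e1]; simp only [mul_assoc]
  rw [l1, hr] at s4
  have s5 : Commute f (k * (j⁻¹ * z * j⁻¹⁻¹) * k⁻¹) := s4
  have s6 := (commute_cj_iff k).mpr s5
  have kk : k * k = 1 := by
    rw [hk]
    calc z * x * e * z * (z * x * e * z) = z * x * (e * x) * e * z := by simp only [mul_assoc, cz]
      _ = z * x * (x * e) * e * z := by rw [cxe.eq]
      _ = 1 := by simp only [mul_assoc, cx, ce, mz]
  rw [cj_cj, kk, one_mul, inv_one, mul_one] at s6
  have s7 := (commute_cj_iff j).mpr s6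
  rw [cj_inv] at s7
  exact s7.symm

theorem exists_common (h : IsPolar D) {x z : G} (hx : x ∈ D) (hz : z ∈ D) (hxz : ¬ Commute x z) :
    ∃ w ∈ Ds D x, Commute w z := by
  obtain ⟨v, y, hv, hy, hxy, hyv, hxv⟩ :
      ∃ v y, v ∈ D ∧ y ∈ D ∧ Commute x y ∧ Commute y v ∧ ¬ Commute x v := by
    by_contra hno
    push Not at hno
    have hsub := eq_cls_of_closed h.cls h.prim h.pair (S := {u | u ∈ D ∧ Commute x u}) hx ⟨hx, Commute.refl x⟩
      (fun u hu v hv hc => ⟨hv, hno v u hv hu.1 hu.2 hc⟩)
    exact hxz (hsub hz).2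
  obtain ⟨g, hg, hgv⟩ := rank_three_far h.cls h.prim h.pair hx v hv hxv z hz hxz
  have hgx : g * x * g⁻¹ = x := by rw [hg.eq, mul_inv_cancel_right]
  have hyx : y ≠ x := fun e => hxv (e ▸ hyv)
  refine ⟨g * y * g⁻¹, ⟨cls_conj h.cls g hy, fun e => hyx (cj_injective g (e.trans hgx.symm)), ?_⟩, ?_⟩
  · have := (commute_cj_iff g).mpr hxy; rwa [hgx] at this
  · have := (commute_cj_iff g).mpr hyv; rwa [hgv] at this

/-- Every member commutes with some point of every line. -/
theorem exists_proj (h : IsPolar D) {a b : G} (ha : a ∈ D) (hb : b ∈ Ds D a) {z : G} (hz : z ∈ D) :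
    ∃ p ∈ line D a b, Commute z p := by
  by_contra hno
  push Not at hno
  have hD := h.cls.1
  have kill : ∀ e ∈ Ds D a, (∀ l ∈ line D a e, ¬ Commute z l) → ∀ d ∈ D, Commute d a → Commute d z →
      Commute d e := by
    intro e he hm d hd h1 h2
    by_contra hde
    obtain ⟨f, hf, hfa, hfe⟩ := h.third a ha e he
    obtain ⟨g, hg, hzg, -⟩ := fifth h ha he (left_mem ha) (right_mem he.1) hf he.2.1.symm hfa.symm hfe.symm hz
      (hm a (left_mem ha)) (hm e (right_mem he.1)) (hm f hf) hd h1 h2 hde
    exact hm g hg hzg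
  have step : ∀ e ∈ Ds D a, (∀ l ∈ line D a e, ¬ Commute z l) → ∀ y ∈ Ds D a, ¬ Commute e y →
      (y * e * y ∈ Ds D a ∧ ∀ l ∈ line D a (y * e * y), ¬ Commute z l) := by
    intro e he hm y hy hey
    have hyy : y * (y * e * y) * y = e := by
      simp only [mul_assoc, mul_mul_cancel_self (mul_self hD hy.1), mul_self hD hy.1, mul_one]
    have hya : y * a * y = a := by rw [hy.2.2.symm.eq, mul_assoc, mul_self hD hy.1, mul_one]
    have hmem : y * e * y ∈ Ds D a := by
      refine ⟨by have := cls_conj h.cls y he.1; rwa [inv_self hD hy.1] at this, fun e' => he.2.1 ?_, ?_⟩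
      · rw [← hyy, e', hya]
      · have := (commute_conj_iff hD hy.1).mpr he.2.2; rwa [hya] at this
    refine ⟨hmem, fun l hl hzl => ?_⟩
    have hl' : y * l * y ∈ line D a e := by
      have := cj_line_mem h.cls y hl
      rwa [inv_self hD hy.1, hya, hyy] at this
    have hll : y * (y * l * y) * y = l := by
      simp only [mul_assoc, mul_mul_cancel_self (mul_self hD hy.1), mul_self hD hy.1, mul_one]
    set m := y * l * y
    by_cases hma : m = a
    · rw [hma, hya] at hll
      exact hm a (left_mem ha) (hll ▸ hzl)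
    have hme : Commute l e := kill e he hm l hl.1 (by
      rw [← hll]; exact hya ▸ (commute_conj_iff hD hy.1).mpr (hl'.2 a ha (Commute.refl a) he.2.2).symm) hzl.symm
    have hym : ¬ Commute y m := fun hc =>
      hey (commute_line h ha he (left_mem ha) hl' (Ne.symm hma) (right_mem he.1) hy.1 hy.2.2.symm hc).symm
    have hla : Commute l a := by
      rw [← hll]; exact hya ▸ (commute_conj_iff hD hy.1).mpr (hl'.2 a ha (Commute.refl a) he.2.2).symm
    have hlm : Commute l m := hl'.2 l hl.1 hla hme
    apply hym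
    have b := braid hD hy.1 hl'.1 hym
    rw [hll.symm.trans b] at hlm
    have := (commute_conj_iff hD hl'.1).mpr hlm
    rwa [show m * (m * y * m) * m = y by
      simp only [mul_assoc, mul_mul_cancel_self (mul_self hD hl'.1), mul_self hD hl'.1, mul_one],
      show m * m * m = m by rw [mul_self hD hl'.1, one_mul]] at this
  obtain ⟨w, hw, hwz⟩ := exists_common h ha hz (fun hc => hno a (left_mem ha) hc.symm)
  have hall : ∀ l ∈ line D a w, ¬ Commute z l := by
    have hc := Ds_connected h.cls h.prim h.pair ha b hb w hw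
    suffices ∀ y, Relation.ReflTransGen (NStep D a) b y → y ∈ Ds D a ∧ ∀ l ∈ line D a y, ¬ Commute z l from
      (this w hc).2
    intro y hy
    induction hy with
    | refl => exact ⟨hb, hno⟩
    | @tail p q _ hst ih =>
      obtain ⟨hp, hq, hpq⟩ := hst
      obtain ⟨h1, h2⟩ := step p hp ih.2 q hq hpq
      have hne : ¬ Commute (q * p * q) p := by
        intro hc
        rw [braid hD hq.1 hp.1 (fun c => hpq c.symm)] at hc
        have := (commute_conj_iff hD hp.1).mpr hc
        rw [show p * (p * q * p) * p = q by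
          simp only [mul_assoc, mul_mul_cancel_self (mul_self hD hp.1), mul_self hD hp.1, mul_one],
          show p * p * p = p by rw [mul_self hD hp.1, one_mul]] at this
        exact hpq this.symm
      obtain ⟨h3, h4⟩ := step _ h1 h2 p hp hne
      have e : p * (q * p * q) * p = q := by
        rw [braid hD hq.1 hp.1 (fun c => hpq c.symm)]
        simp only [mul_assoc, mul_mul_cancel_self (mul_self hD hp.1), mul_self hD hp.1, mul_one]
      rw [e] at h3 h4
      exact ⟨h3, h4⟩
  exact hall w (right_mem hw.1) hwz.symm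

theorem proj_unique (h : IsPolar D) {a b : G} (ha : a ∈ D) (hb : b ∈ Ds D a) {z p q : G} (hz : z ∈ D)
    (hp : p ∈ line D a b) (hq : q ∈ line D a b) (h1 : Commute z p) (h2 : Commute z q) (hpq : p ≠ q) :
    ∀ l ∈ line D a b, Commute z l :=
  fun _ hl => commute_line h ha hb hp hq hpq hl hz h1 h2

end CfsgThreeTrans.Polar
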