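/-
Lines of three points: no plane of nine members, so the class is the set of points of a symplectic space.
-/
import Cfsg.Agent.Lib.ThreeTrans.Polar.Lines
import Cfsg.Agent.Lib.SympGen

set_option autoImplicit false

namespace CfsgThreeTrans.Polar

open Cfsg CfsgLib CfsgThreeTrans

universe u

variable {G : Type u} [Group G] [Finite G] {D : Set G}

/-- Every line has only three points. -/
def Thin (D : Set G) : Prop :=
  ∀ a ∈ D, ∀ b ∈ Ds D a, ∀ c ∈ line D a b, c ≠ a → c ≠ b → ∀ z ∈ line D a b, z = a ∨ z = b ∨ z = c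

theorem braid_cj (h : IsPolar D) {a b : G} (hb : b ∈ D) : b * a * b = b * a * b⁻¹ := by
  rw [inv_self h.cls.1 hb]

theorem cj_mem (h : IsPolar D) {a b : G} (ha : a ∈ D) (hb : b ∈ D) : b * a * b ∈ D :=
  braid_cj h hb ▸ cls_conj h.cls b ha

/-- Conjugation by `a * b` of two twins of noncommuting partners of `x`. -/
theorem third_eq (h : IsPolar D) (ht : Thin D) {x a b a' b' : G} (hx : x ∈ D) (ha : a ∈ Ds D x) (hb : b ∈ Ds D x)
    (hab : ¬ Commute a b) (ha' : a' ∈ line D x a) (ha1 : a' ≠ x) (ha2 : a' ≠ a) (hb' : b' ∈ line D x b)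
    (hb1 : b' ≠ x) (hb2 : b' ≠ b) : (b * b') * a * (b * b')⁻¹ = a' := by
  have hD := h.cls.1
  have mb := mul_self hD hb.1
  have cb := mul_mul_cancel_self mb
  have ma := mul_self hD ha.1
  have cbb := line_commute hb hx (right_mem hb.1) hb'
  have hab' : ¬ Commute a b' := fun hc => hab (commute_line h hx hb (left_mem hx) hb' hb1.symm (right_mem hb.1)
    ha.1 ha.2.2.symm hc)
  set g := b * a * b with hg
  have hgD : g ∈ D := cj_mem h ha.1 hb.1
  have hgb : g * b * g⁻¹ = a := by
    rw [inv_self hD hgD, hg]
    calc b * a * b * b * (b * a * b) = b * a * (b * a * b) := by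
          simp only [mul_assoc]; rw [cb]
      _ = b * a * (a * b * a) := by rw [braid hD hb.1 ha.1 (fun c => hab c.symm)]
      _ = a := by simp only [mul_assoc, mul_mul_cancel_self ma, cb]
  have hgx : g * x * g⁻¹ = x := by
    have h1 : Commute g x := (hb.2.2.symm.mul_left ha.2.2.symm).mul_left hb.2.2.symm
    rw [h1.eq, mul_inv_cancel_right]
  have hm : (b * b') * a * (b * b')⁻¹ = g * b' * g⁻¹ := by
    rw [inv_self hD hgD, mul_inv_rev, inv_self hD hb.1, inv_self hD hb'.1]
    calc b * b' * a * (b' * b) = b * (b' * a * b') * b := by simp only [mul_assoc]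
      _ = b * (a * b' * a) * b := by rw [braid hD hb'.1 ha.1 (fun c => hab' c.symm)]
      _ = b * (a * (b * b' * b) * a) * b := by
          rw [show b * b' * b = b' by rw [cbb.eq, mul_assoc, mb, mul_one]]
      _ = g * b' * g := by simp only [hg, mul_assoc]
  rw [hm]
  have hl : g * b' * g⁻¹ ∈ line D x a := by
    have := cj_line_mem h.cls g hb'
    rwa [hgx, hgb] at this
  rcases ht x hx a ha a' ha' ha1 ha2 _ hl with e | e | e
  · exact absurd (cj_injective g (e.trans hgx.symm)) hb1
  · exact absurd (cj_injective g (e.trans hgb.symm)) hb2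
  · exact e

/-- Noncommuting `a, b` and a member noncommuting with both commute with the third point of their triple. -/
theorem triple (h : IsPolar D) (ht : Thin D) {a b w : G} (ha : a ∈ D) (hb : b ∈ D) (hw : w ∈ D)
    (hab : ¬ Commute a b) (hwa : ¬ Commute w a) (hwb : ¬ Commute w b) : Commute w (a * b * a) := by
  have hD := h.cls.1
  by_contra hwc
  have ma := mul_self hD ha
  have mb := mul_self hD hb
  have mw := mul_self hD hw
  have bab : a * b * a = b * a * b := braid hD ha hb hab
  have baw : a * w * a = w * a * w := braid hD ha hw (fun c => hwa c.symm)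
  have bbw : b * w * b = w * b * w := braid hD hb hw (fun c => hwb c.symm)
  obtain ⟨x, hxa, hxb⟩ := exists_common h ha hb hab
  obtain ⟨a', ha', ha'1, ha'2⟩ := h.third a ha x hxa
  have hxw : Commute x w := by
    by_contra hn
    obtain ⟨p, hp, hpw⟩ := exists_proj h ha hxa hw
    have hpa' : p = a' := by
      rcases ht a ha x hxa a' ha' ha'1 ha'2 p hp with e | e | e
      · exact absurd (e ▸ hpw) hwa
      · exact absurd (e ▸ hpw).symm hn
      · exact e
    obtain ⟨q, hq, hqr⟩ := exists_proj h ha hxa (z := b * w * b) (cj_mem h hw hb)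
    have hqa' : q = a' := by
      rcases ht a ha x hxa a' ha' ha'1 ha'2 q hq with e | e | e
      · exfalso
        subst e
        apply hwc
        have h1 := (commute_conj_iff hD hb).mpr hqr
        rw [← bab] at h1
        simpa only [mul_assoc, mul_mul_cancel_self mb, mb, mul_one] using h1
      · exfalso
        subst e
        apply hn
        have h1 := (commute_conj_iff hD hb).mpr hqr
        rw [show b * q * b = q by rw [hxb.symm.eq, mul_assoc, mb, mul_one]] at h1
        exact (show Commute w q by simpa only [mul_assoc, mul_mul_cancel_self mb, mb, mul_one] using h1).symm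
      · exact e
    rw [hpa'] at hpw
    rw [hqa', bbw] at hqr
    have h1 := (commute_conj_iff hD hw).mpr hqr
    rw [show w * a' * w = a' by rw [hpw.eq, mul_assoc, mw, mul_one]] at h1
    have hba : Commute b a' := by simpa only [mul_assoc, mul_mul_cancel_self mw, mw, mul_one] using h1
    exact hab (commute_line h ha hxa ha' (right_mem hxa.1) ha'2 (left_mem ha) hb hba hxb.symm).symm
  have hax : a ∈ Ds D x := ⟨ha, hxa.2.1.symm, hxa.2.2.symm⟩
  have hbx : b ∈ Ds D x := ⟨hb, fun e => hab (e ▸ hxa.2.2), hxb⟩
  have hwx : w ∈ Ds D x := ⟨hw, fun e => hwa (e ▸ hxa.2.2.symm), hxw⟩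
  have hclosed : ∀ y ∈ Ds D x, ∀ y' ∈ Ds D x, y * y' * y ∈ Ds D x := by
    intro y hy y' hy'
    have hyx : y * x * y = x := by rw [hy.2.2.symm.eq, mul_assoc, mul_self hD hy.1, mul_one]
    refine ⟨cj_mem h hy'.1 hy.1, fun e => hy'.2.1 ?_, ?_⟩
    · rw [← hyx] at e
      exact cj_injective y (by simpa only [inv_self hD hy.1] using e)
    · have := (commute_conj_iff hD hy.1).mpr hy'.2.2; rwa [hyx] at this
  have hσ : ∀ y ∈ Ds D x, ∃ y', y' ∈ line D x y ∧ y' ≠ x ∧ y' ≠ y := fun y hy => by
    obtain ⟨c, hc, h1, h2⟩ := h.third x hxa.1 y hy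
    exact ⟨c, hc, h1, h2⟩
  choose! σ hσ1 hσ2 hσ3 using hσ
  let u : G → G := fun y => y * σ y
  have hu2 : ∀ y ∈ Ds D x, u y * u y = 1 := fun y hy => by
    have hc := line_commute hy hxa.1 (right_mem hy.1) (hσ1 y hy)
    show y * σ y * (y * σ y) = 1
    rw [← sq]; exact sq_of_commute hD hy.1 (hσ1 y hy).1 hc
  have hadd : ∀ y ∈ Ds D x, ∀ y' ∈ Ds D x, ¬ Commute y y' → u (y * y' * y) = u y * u y' := by
    intro y hy y' hy' hn
    have e := third_eq h ht hxa.1 hy hy' hn (hσ1 y hy) (hσ2 y hy) (hσ3 y hy) (hσ1 y' hy') (hσ2 y' hy') (hσ3 y' hy')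
    have hy1 := mul_self hD hy.1
    have hyx : y * x * y = x := by rw [hy.2.2.symm.eq, mul_assoc, hy1, mul_one]
    have hl : y * σ y' * y ∈ line D x (y * y' * y) := by
      have := cj_line_mem h.cls y (hσ1 y' hy')
      rwa [inv_self hD hy.1, hyx] at this
    have h3 : σ (y * y' * y) = y * σ y' * y := by
      have hz := hclosed y hy y' hy'
      rcases ht x hxa.1 _ hz (σ (y * y' * y)) (hσ1 _ hz) (hσ2 _ hz) (hσ3 _ hz) _ hl with e' | e' | e'
      · exfalso
        rw [← hyx] at e'
        exact hσ2 y' hy' (cj_injective y (by simpa only [inv_self hD hy.1, hyx] using e'))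
      · exfalso
        exact hσ3 y' hy' (cj_injective y (by simpa only [inv_self hD hy.1] using e'))
      · exact e'.symm
    show y * y' * y * σ (y * y' * y) = y * σ y * (y' * σ y')
    rw [h3, ← e]
    calc y * y' * y * (y * σ y' * y) = y * y' * σ y' * y := by
          simp only [mul_assoc, mul_mul_cancel_self hy1]
      _ = y * ((y' * σ y') * y * (y' * σ y')⁻¹) * (y' * σ y') := by group
  have hcomm : ∀ y ∈ Ds D x, ∀ y' ∈ Ds D x, ¬ Commute y y' → u y * u y' = u y' * u y := fun y hy y' hy' hn => by
    rw [← hadd y hy y' hy' hn, ← hadd y' hy' y hy (fun c => hn c.symm), braid hD hy.1 hy'.1 hn]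
  set c := a * b * a with hc
  set q := a * w * a with hq
  have hcx := hclosed a hax b hbx
  have hqx := hclosed a hax w hwx
  have hcw : ¬ Commute c w := fun e => hwc e.symm
  have hqb : ¬ Commute q b := fun e => by
    have := (commute_conj_iff hD ha).mpr e
    exact hcw (show Commute c w by
      refine Commute.symm ?_
      simpa only [hq, hc, mul_assoc, mul_mul_cancel_self ma, ma, mul_one] using this)
  set P := c * w * c with hP
  have hPx := hclosed c hcx w hwx
  have haP : ¬ Commute a P := fun e => by
    have hcD : c ∈ D := hcx.1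
    have := (commute_conj_iff hD hcD).mpr e
    rw [show c * a * c = b by
      rw [hc]
      calc a * b * a * a * (a * b * a) = a * b * (a * b * a) := by simp only [mul_assoc, mul_mul_cancel_self ma]
        _ = a * b * (b * a * b) := congrArg (a * b * ·) bab
        _ = b := by simp only [mul_assoc, mul_mul_cancel_self mb, mul_mul_cancel_self ma]] at this
    exact hwb (show Commute b w by
      simpa only [hP, mul_assoc, mul_mul_cancel_self (mul_self hD hcD), mul_self hD hcD, mul_one] using this).symm
  have hQ : a * P * a = q * b * q := by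
    rw [braid hD hqx.1 hb hqb, hP]
    calc a * (c * w * c) * a = (a * c * a) * (a * w * a) * (a * c * a) := by
          simp only [mul_assoc, mul_mul_cancel_self ma]
      _ = b * q * b := by
          rw [show a * c * a = b by simp only [hc, mul_assoc, mul_mul_cancel_self ma, ma, mul_one], hq]
  have e1 : u P = u a * u b * u w := by rw [hP, hadd c hcx w hwx hcw, hc, hadd a hax b hbx hab]
  have e2 : u (q * b * q) = u a * u w * u b := by
    rw [hadd q hqx b hbx hqb, hq, hadd a hax w hwx (fun e => hwa e.symm)]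
  have e3 := hadd a hax P hPx haP
  rw [hQ, e2, e1, mul_assoc (u a) (u w), ← hcomm b hbx w hwx (fun e => hwb e.symm), mul_assoc (u a) (u b),
    ← mul_assoc (u a) (u a), hu2 a hax, one_mul] at e3
  have h1 : u a = 1 := mul_eq_right.mp e3
  have : σ a = a := by
    have := congrArg (a * ·) h1
    simpa only [u, mul_mul_cancel_self ma, mul_one] using this
  exact hσ3 a hax this

end CfsgThreeTrans.Polar
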