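/-
Polar classes whose lines are not all thin have lines of exactly five points.
-/
import Cfsg.Agent.Lib.ThreeTrans.Polar.Three

set_option autoImplicit false

namespace CfsgThreeTrans.Polar

open Cfsg CfsgLib CfsgThreeTrans

universe u

variable {G : Type u} [Group G] [Finite G] {D : Set G}

/-- Every line has five points. -/
def Five (D : Set G) : Prop := ∀ a ∈ D, ∀ b ∈ Ds D a, (line D a b).ncard = 5

/-- A member commuting with one point of a line but not with another. -/
theorem exists_far (h : IsPolar D) {a b : G} (ha : a ∈ D) (hb : b ∈ Ds D a) :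
    ∃ y ∈ Ds D a, ¬ Commute y b := by
  obtain ⟨c, hc, hca, hcb⟩ := h.third a ha b hb
  have hc' : c ∈ Ds D a := ⟨hc.1, hca, line_commute hb ha (left_mem ha) hc⟩
  rcases (Ds_connected h.cls h.prim h.pair ha b hb c hc').cases_head with e | ⟨y, ⟨-, hy, hn⟩, -⟩
  · exact absurd e.symm hcb
  · exact ⟨y, hy, fun e => hn e.symm⟩

theorem line_card (h : IsPolar D) {a b c d : G} (ha : a ∈ D) (hb : b ∈ Ds D a) (hc : c ∈ D) (hd : d ∈ Ds D c) :
    (line D a b).ncard = (line D c d).ncard := by
  suffices ∀ {a b c d : G}, a ∈ D → b ∈ Ds D a → c ∈ D → d ∈ Ds D c → (line D a b).ncard ≤ (line D c d).ncard from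
    le_antisymm (this ha hb hc hd) (this hc hd ha hb)
  intro a b c d ha hb hc hd
  obtain ⟨g, rfl, rfl⟩ := pair_conj h ha hb hc hd
  exact Set.ncard_le_ncard_of_injOn (fun z => g * z * g⁻¹) (fun z hz => cj_line_mem h.cls g hz)
    (cj_injective g).injOn (Set.toFinite _)

/-- The image of `c` under the conjugation by `z * a * b * z`. -/
def fim (z a b c : G) : G := (z * a * b * z) * c * (z * a * b * z)⁻¹

/-- `a, b` and `c, e` move `z` to the same place. -/
def Same (z a b c e : G) : Prop := a * b * z * b * a = c * e * z * e * c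

theorem Same.rot (hD : IsThreeTranspositionSet D) {z a b c e : G} (hb : b ∈ D) (hc : c ∈ D)
    (hab : Commute a b) (hac : Commute a c) (hbc : Commute b c) (h : Same z a b c e) : Same z a c b e := by
  have mb := mul_self hD hb
  have mc := mul_self hD hc
  have l1 : c * b * (a * b) = a * c := by
    rw [hab.eq, ← mul_assoc, mul_assoc c b b, mb, mul_one, hac.eq]
  have l2 : b * a * (b * c) = c * a := by
    rw [← hab.eq, ← mul_assoc, mul_assoc a b b, mb, mul_one, hac.eq]
  have r1 : c * b * c = b := by rw [← hbc.eq, mul_assoc, mc, mul_one]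
  have r2 : c * (b * c) = b := by rw [← mul_assoc, r1]
  unfold Same at h ⊢
  calc a * c * z * c * a = c * b * (a * b) * z * (b * a * (b * c)) := by rw [l1, l2, mul_assoc _ c a]
    _ = c * b * (a * b * z * b * a) * (b * c) := by simp only [mul_assoc]
    _ = c * b * c * (e * z * e) * (c * (b * c)) := by rw [h]; simp only [mul_assoc]
    _ = b * e * z * e * b := by rw [r1, r2]; simp only [mul_assoc]

theorem Same.left {z a b c e : G} (hab : Commute a b) (h : Same z a b c e) : Same z b a c e := by
  unfold Same at h ⊢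
  rw [← h, ← hab.eq, mul_assoc _ a b, mul_assoc _ b a, hab.eq]

theorem same_fim (hD : IsThreeTranspositionSet D) {z a b c : G} (hz : z ∈ D) (ha : a ∈ D) (hb : b ∈ D)
    (hc : c ∈ D) (hac : Commute a c) (hbc : Commute b c) (hcz : ¬ Commute z c) (hh : fim z a b c ∈ D)
    (hhz : ¬ Commute z (fim z a b c)) : Same z a b c (fim z a b c) := by
  have mz := mul_self hD hz
  have mc := mul_self hD hc
  have cz := mul_mul_cancel_self mz
  have cc := mul_mul_cancel_self mc
  set e := fim z a b c with he
  set w := a * b * z * b * a with hw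
  have e1 : e = z * c * w * c * z := by
    rw [he, fim, hw]
    simp only [mul_inv_rev, inv_self hD ha, inv_self hD hb, inv_self hD hz]
    calc z * a * b * z * c * (z * (b * (a * z))) = z * (a * b) * (z * c * z) * (b * a) * z := by simp only [mul_assoc]
      _ = z * (a * b) * (c * z * c) * (b * a) * z := by rw [braid hD hz hc hcz]
      _ = z * ((a * b) * c) * z * (c * (b * a)) * z := by simp only [mul_assoc]
      _ = z * c * (a * b * z * b * a) * c * z := by
        rw [(hac.mul_left hbc).eq, ← mul_assoc c b a, ← hbc.eq, mul_assoc b c a, ← hac.eq]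
        simp only [mul_assoc]
  have b1 := braid hD hz hh hhz
  show w = c * e * z * e * c
  rw [show c * e * z * e * c = c * (e * z * e) * c by simp only [mul_assoc], ← b1, e1]
  simp only [mul_assoc, cz, cc, mz, mul_one, mc]

/-- The conjugate of a point along a line by the product through a member missing three of its points. -/
theorem fim_facts (h : IsPolar D) {u v z p a b c : G} (hu : u ∈ D) (hv : v ∈ Ds D u) (hz : z ∈ D)
    (ha : a ∈ line D u v) (hb : b ∈ line D u v) (hc : c ∈ line D u v) (hzp : Commute z p)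
    (hza : ¬ Commute z a) (hzb : ¬ Commute z b) (hzc : ¬ Commute z c) (hab : a ≠ b) (hac : a ≠ c) (hbc : b ≠ c) :
    fim z a b c ∈ line D u v ∧ fim z a b c ≠ a ∧ fim z a b c ≠ b ∧ fim z a b c ≠ c ∧ fim z a b c ≠ p ∧
      Same z a b c (fim z a b c) := by
  have hD := h.cls.1
  have cab := line_commute hv hu ha hb
  have cac := line_commute hv hu ha hc
  have cbc := line_commute hv hu hb hc
  obtain ⟨ka, kb⟩ := swap_pair hD ha.1 hb.1 hz cab (fun e => hza e.symm) (fun e => hzb e.symm)
  have hmem : fim z a b c ∈ line D u v := cj_mem_of_swap h hu hv ha hb hab hc ka kb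
  have mz := mul_self hD hz
  have cz := mul_mul_cancel_self mz
  have na : fim z a b c ≠ a := fun e => hbc.symm (cj_injective _ (e.trans kb.symm))
  have nb : fim z a b c ≠ b := fun e => hac.symm (cj_injective _ (e.trans ka.symm))
  have ik : (z * a * b * z)⁻¹ = z * b * a * z := by
    simp only [mul_inv_rev, inv_self hD ha.1, inv_self hD hb.1, inv_self hD hz, mul_assoc]
  have kk : (z * a * b * z) * (z * a * b * z) = 1 := by
    have e : a * b * (a * b) = 1 := by
      rw [cab.eq, mul_assoc, ← mul_assoc a b a, cab.eq, mul_assoc b a a, mul_self hD ha.1, mul_one,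
        mul_self hD hb.1]
    calc z * a * b * z * (z * a * b * z) = z * (a * b * (a * b)) * z := by simp only [mul_assoc, cz]
      _ = 1 := by rw [e, mul_one, mz]
  have hhz : ¬ Commute z (fim z a b c) := by
    intro e
    have ma := mul_self hD ha.1
    have mb := mul_self hD hb.1
    have ca := mul_mul_cancel_self ma
    have cb := mul_mul_cancel_self mb
    -- the moved member commutes with `z`
    have hwz : Commute (a * b * z * b * a) z := by
      have e2 : Commute (b * z * b) (a * z * a) := by
        rw [braid hD hb.1 hz (fun e' => hzb e'.symm), braid hD ha.1 hz (fun e' => hza e'.symm)]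
        exact (commute_conj_iff hD hz).mpr cab.symm
      have := (commute_conj_iff hD ha.1).mpr e2
      simpa only [mul_assoc, ca, ma, mul_one] using this
    have e1 := (commute_cj_iff (z * a * b * z)).mpr e
    rw [fim, cj_cj, kk, one_mul, inv_one, mul_one] at e1
    have e2 : z * a * b * z * z * (z * a * b * z)⁻¹ = a * b * z * b * a := by
      rw [ik]
      calc z * a * b * z * z * (z * b * a * z) = z * ((a * b * z * b * a) * z) := by simp only [mul_assoc, cz]
        _ = _ := by rw [hwz.eq, cz]
    rw [e2] at e1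
    have e3 := (commute_conj_iff hD ha.1).mpr e1
    rw [show a * c * a = c by rw [cac.eq, mul_assoc, ma, mul_one]] at e3
    simp only [mul_assoc, ca, ma, mul_one] at e3
    have e4 := (commute_conj_iff hD hb.1).mpr e3
    rw [show b * c * b = c by rw [cbc.eq, mul_assoc, mb, mul_one]] at e4
    simp only [mul_assoc, cb, mb, mul_one] at e4
    exact hzc e4
  have hne : fim z a b c ≠ c := by
    intro e
    have hc' : fim z a b c ∈ D := by rw [e]; exact hc.1
    have hzc' : ¬ Commute z (fim z a b c) := by rw [e]; exact hzc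
    have hs := same_fim hD hz ha.1 hb.1 hc.1 cac cbc hzc hc' hzc'
    rw [Same, e] at hs
    apply hza
    refine ((commute_mul_iff hD ha.1 hb.1 hz hab cab).mp ?_).1
    have mc := mul_self hD hc.1
    rw [show c * c * z * c * c = z by rw [mc, one_mul, mul_assoc, mc, mul_one]] at hs
    show z * (a * b) = a * b * z
    conv_lhs => rw [← hs]
    simp only [mul_assoc, mul_mul_cancel_self (mul_self hD ha.1), mul_self hD hb.1, mul_one]
  exact ⟨hmem, na, nb, hne, fun e => hhz (e ▸ hzp), same_fim hD hz ha.1 hb.1 hc.1 cac cbc hzc hmem.1 hhz⟩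

theorem five_of_not_thin (h : IsPolar D) (ht : ¬ Thin D) : Five D := by
  classical
  unfold Thin at ht
  push Not at ht
  obtain ⟨u, hu, v, hv, c0, hc0, hc0u, hc0v, w0, hw0, hwu, hwv, hwc⟩ := ht
  suffices (line D u v).ncard = 5 from fun a ha b hb => (line_card h ha hb hu hv).trans this
  have hD := h.cls.1
  obtain ⟨z, hzu, hzv⟩ := exists_far h hu hv
  have hz := hzu.1
  have hzp : Commute z u := hzu.2.2.symm
  have only : ∀ {l}, l ∈ line D u v → l ≠ u → ¬ Commute z l := fun hl hlp e =>
    hzv (proj_unique h hu hv hz (left_mem hu) hl hzp e hlp.symm v (right_mem hv.1))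
  obtain ⟨hm1, n1, n2, n3, n4, -⟩ := fim_facts h hu hv hz (right_mem hv.1) hc0 hw0 hzp (only (right_mem hv.1) hv.2.1)
    (only hc0 hc0u) (only hw0 hwu) hc0v.symm hwv.symm hwc.symm
  have h5 : 5 ≤ (line D u v).ncard := by
    have hsub : ({u, v, c0, w0, fim z v c0 w0} : Set G) ⊆ line D u v := by
      simp only [Set.insert_subset_iff, Set.singleton_subset_iff]
      exact ⟨left_mem hu, right_mem hv.1, hc0, hw0, hm1⟩
    refine le_trans ?_ (Set.ncard_le_ncard hsub (Set.toFinite _))
    rw [Set.ncard_insert_of_notMem, Set.ncard_insert_of_notMem, Set.ncard_insert_of_notMem, Set.ncard_pair n3.symm] <;>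
      simp [hv.2.1.symm, hc0u.symm, hwu.symm, n4.symm, hc0v.symm, hwv.symm, n1.symm, hwc.symm, n2.symm]
  refine le_antisymm ?_ h5
  by_contra h6
  push Not at h6
  -- five further points
  have pick : ∀ S : Finset G, S.card ≤ 5 → ∃ l ∈ line D u v, l ∉ S := fun S hS => by
    by_contra hno
    push Not at hno
    have := Set.ncard_le_ncard hno S.finite_toSet
    rw [Set.ncard_coe_finset] at this
    omega
  -- the opposite line through z
  obtain ⟨o, ho, hop, d, hd, hdo, hdp⟩ : ∃ o ∈ line D u v, o ≠ u ∧ ∃ d ∈ Ds D z, Commute d o ∧ ¬ Commute d u := by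
    obtain ⟨y, hy, hyp⟩ := exists_far h hv.1 (Ds_symm hu hv)
    obtain ⟨r, hr, hzr⟩ := exists_proj h hv.1 hy hz
    refine ⟨v, right_mem hv.1, hv.2.1, r, ⟨hr.1, fun e => ?_, hzr⟩, ?_, ?_⟩
    · exact hzv (e ▸ (line_commute hy hv.1 hr (left_mem hv.1)))
    · exact line_commute hy hv.1 hr (left_mem hv.1)
    · intro e
      have hrv : v ≠ r := fun e' => hzv (e' ▸ hzr)
      exact hyp (commute_line h hv.1 hy (left_mem hv.1) hr hrv (right_mem hy.1) hu hv.2.2 e.symm).symm
  have hM : ∀ {l}, l ∈ line D u v → ∃ m ∈ line D z d, Commute l m := fun hl => exists_proj h hz hd hl.1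
  have onlyM : ∀ {m l l'}, m ∈ line D z d → l ∈ line D u v → l' ∈ line D u v → Commute m l → Commute m l' → l = l' := by
    intro m l l' hm hl hl' h1 h2
    by_contra hne
    have hall := proj_unique h hu hv hm.1 hl hl' h1 h2 hne
    by_cases hmz : m = z
    · exact hzv (hmz ▸ hall v (right_mem hv.1))
    · exact hdp (commute_line h hz hd (left_mem hz) hm (Ne.symm hmz) (right_mem hd.1) hu hzp.symm
        (hall u (left_mem hu)).symm).symm
  choose! m hm hlm using fun l (hl : l ∈ line D u v) => hM hl
  have miss : ∀ {l l'}, l ∈ line D u v → l' ∈ line D u v → l' ≠ l → ¬ Commute (m l) l' := fun hl hl' hne e =>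
    hne (onlyM (hm _ hl) hl hl' (hlm _ hl).symm e).symm
  -- the rule
  have facts : ∀ {q a b c}, q ∈ line D u v → a ∈ line D u v → b ∈ line D u v → c ∈ line D u v → a ≠ q → b ≠ q →
      c ≠ q → a ≠ b → a ≠ c → b ≠ c → _ := fun hq ha hb hc hqa hqb hqc hab hac hbc =>
    fim_facts h hu hv (hm _ hq).1 ha hb hc (hlm _ hq).symm (miss hq ha hqa) (miss hq hb hqb) (miss hq hc hqc) hab hac hbc
  have rule : ∀ {q x e f}, q ∈ line D u v → x ∈ line D u v → e ∈ line D u v → f ∈ line D u v → x ≠ q → e ≠ q →
      f ≠ q → x ≠ e → x ≠ f → e ≠ f → fim (m x) e f (fim (m q) x e f) = q := by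
    intro q x e f hq hx he hf hxq heq hfq hxe hxf hef
    obtain ⟨g, hg, hcg, hgeq⟩ := fifth h hu hv hx he hf hxe hxf hef (hm q hq).1 (miss hq hx hxq) (miss hq he heq)
      (miss hq hf hfq) (hm x hx).1 (hlm x hx).symm (line_commute hd hz (hm x hx) (hm q hq)) (miss hx he hxe.symm)
    rw [fim, fim, ← hgeq]
    exact (onlyM (hm q hq) hq hg (hlm q hq).symm hcg).symm
  have inj : ∀ {z a b x y : G}, fim z a b x = fim z a b y → x = y := fun e => cj_injective _ e
  have uniq : ∀ {q a b c e}, Same (m q) a b c e → q ∈ line D u v → a ∈ line D u v → b ∈ line D u v →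
      c ∈ line D u v → e ∈ line D u v → a ≠ q → b ≠ q → c ≠ q → a ≠ b → a ≠ c → b ≠ c → e ≠ q →
      fim (m q) a b c = e := by
    intro q a b c e hs hq ha hb hc he hqa hqb hqc hab hac hbc hqe
    obtain ⟨hf, -, -, -, hfq, hs'⟩ := facts hq ha hb hc hqa hqb hqc hab hac hbc
    have mc := mul_self hD hc.1
    unfold Same at hs hs'
    rw [hs] at hs'
    have e1 : e * m q * e = fim (m q) a b c * m q * fim (m q) a b c := by
      have := congrArg (fun t => c * t * c) hs'
      simpa only [mul_assoc, mul_mul_cancel_self mc, mc, mul_one] using this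
    rw [braid hD he.1 (hm q hq).1 (fun e' => miss hq he hqe e'.symm),
      braid hD hf.1 (hm q hq).1 (fun e' => miss hq hf hfq e'.symm)] at e1
    simpa only [mul_left_cancel_iff, mul_right_cancel_iff] using e1.symm
  have rot : ∀ {z a b c e}, Same z a b c e → a ∈ line D u v → b ∈ line D u v → c ∈ line D u v → Same z a c b e :=
    fun hs ha hb hc => hs.rot hD hb.1 hc.1 (line_commute hv hu ha hb) (line_commute hv hu ha hc)
      (line_commute hv hu hb hc)
  have left : ∀ {z a b c e}, Same z a b c e → a ∈ line D u v → b ∈ line D u v → Same z b a c e := fun hs ha hb =>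
    hs.left (line_commute hv hu ha hb)
  have hpl : u ∈ line D u v := left_mem hu
  obtain ⟨a, ha, hanot⟩ := pick {u, o} (Finset.card_le_two.trans (by norm_num))
  obtain ⟨b, hb, hbnot⟩ := pick {u, o, a} (Finset.card_le_three.trans (by norm_num))
  simp only [Finset.mem_insert, Finset.mem_singleton, not_or] at hanot hbnot
  obtain ⟨hap, hao⟩ := hanot
  obtain ⟨hbp, hbo, hba⟩ := hbnot
  obtain ⟨hh, hho, hha, hhb, hhp, shp⟩ := facts hpl ho ha hb hop hap hbp (Ne.symm hao) (Ne.symm hbo) (Ne.symm hba)
  set h1 := fim (m u) o a b with hh1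
  obtain ⟨c, hc, hcnot⟩ := pick {u, o, a, b, h1} (Finset.card_le_five)
  simp only [Finset.mem_insert, Finset.mem_singleton, not_or] at hcnot
  obtain ⟨hcp, hco, hca, hcb, hch⟩ := hcnot
  have R1 : fim (m o) a b h1 = u := rule hpl ho ha hb hop hap hbp (Ne.symm hao) (Ne.symm hbo) (Ne.symm hba)
  obtain ⟨hdl, hda, hdb, hdc, hdo, sdo⟩ := facts ho ha hb hc hao hbo hco (Ne.symm hba) (Ne.symm hca) (Ne.symm hcb)
  set e := fim (m o) a b c with he
  obtain ⟨-, -, -, -, -, spo⟩ := facts ho ha hb hh hao hbo hho (Ne.symm hba) hha.symm hhb.symm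
  rw [R1] at spo
  have hep : e ≠ u := fun x => hch (inj (x.trans R1.symm))
  have heh : e ≠ h1 := by
    intro x
    have z' := hm o ho
    have chh : Commute h1 c := line_commute hv hu hh hc
    have chp : Commute h1 u := line_commute hv hu hh hpl
    have mh := mul_self hD hh.1
    have hcz' : ¬ Commute c (m o) := fun e' => miss ho hc hco e'.symm
    have hpz' : ¬ Commute u (m o) := fun e' => miss ho hpl hop.symm e'.symm
    rw [x] at sdo
    unfold Same at sdo spo
    rw [sdo] at spo
    have l : h1 * (c * h1) = c := by rw [← mul_assoc, chh.eq, mul_assoc, mh, mul_one]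
    have r : h1 * c * h1 = c := by rw [chh.eq, mul_assoc, mh, mul_one]
    have := congrArg (fun t => h1 * t * h1) spo
    have e1 : c * m o * c = u * m o * u := by
      calc c * m o * c = h1 * (c * h1) * m o * (h1 * c * h1) := by rw [l, r]
        _ = h1 * (c * h1 * m o * h1 * c) * h1 := by simp only [mul_assoc]
        _ = h1 * (h1 * u * m o * u * h1) * h1 := this
        _ = _ := by simp only [mul_assoc, mul_mul_cancel_self mh, mh, mul_one]
    rw [braid hD hc.1 z'.1 hcz', braid hD hpl.1 z'.1 hpz'] at e1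
    simp only [mul_left_cancel_iff, mul_right_cancel_iff] at e1
    exact hcp e1
  have s1 : Same (m o) c h1 u e := by
    have : Same (m o) h1 u c e := by unfold Same at sdo spo ⊢; rw [← spo, sdo]
    exact left (rot this hh hpl hc) hh hc
  have s2 : Same (m o) u c h1 e := left (rot s1 hc hh hpl) hc hpl
  have v2 : fim (m o) u c h1 = e :=
    uniq s2 ho hpl hc hh hdl hop.symm hco hho (Ne.symm hcp) hhp.symm hch hdo
  have R2 : fim (m u) c h1 e = o := v2 ▸ rule ho hpl hc hh hop.symm hco hho (Ne.symm hcp) hhp.symm hch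
  obtain ⟨-, -, -, -, -, s3⟩ := facts hpl hc hh hdl hcp hhp hep hch (Ne.symm hdc) heh.symm
  rw [R2] at s3
  have s4 : Same (m u) a b c e := by
    -- both sides move to the same place
    have t1 : Same (m u) c e h1 o := rot s3 hc hh hdl
    have t2 : Same (m u) a b o h1 := rot (left shp ho ha) ha ho hb
    unfold Same at t1 t2 ⊢
    rw [t2, t1]
    simp only [mul_assoc]
    rw [← (line_commute hv hu ho hh).eq, ← mul_assoc o h1, (line_commute hv hu ho hh).eq, mul_assoc h1 o]
  have v3 : fim (m u) a b c = e :=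
    uniq s4 hpl ha hb hc hdl hap hbp hcp (Ne.symm hba) (Ne.symm hca) (Ne.symm hcb) hep
  have R3 : fim (m a) b c e = u :=
    v3 ▸ rule hpl ha hb hc hap hbp hcp (Ne.symm hba) (Ne.symm hca) (Ne.symm hcb)
  have R4 : fim (m a) b c e = o := rule ho ha hb hc hao hbo hco (Ne.symm hba) (Ne.symm hca) (Ne.symm hcb)
  exact hop (R4.symm.trans R3)

end CfsgThreeTrans.Polar
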