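/-
Subsets of a five-point polar class closed under their own conjugations and lines.
-/
import Cfsg.Agent.Lib.ThreeTrans.Polar.Five

set_option autoImplicit false

namespace CfsgThreeTrans.Polar

open Cfsg CfsgLib CfsgThreeTrans

universe u

variable {G : Type u} [Group G] [Finite G] {D : Set G}

/-- A non-degenerate subspace of a polar class. -/
structure Sub (D S : Set G) : Prop where
  sub : S ⊆ D
  conj : ∀ a ∈ S, ∀ b ∈ S, b * a * b ∈ S
  line_sub : ∀ a ∈ S, ∀ b ∈ S, b ∈ Ds D a → line D a b ⊆ S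
  nondeg : ∀ a ∈ S, ∃ b ∈ S, ¬ Commute a b

/-- The common partners of two members. -/
def lk (S : Set G) (d c : G) : Set G := {y | y ∈ S ∧ Commute d y ∧ Commute c y}

omit [Group G] [Finite G] in
theorem fibre_count {α : Type*} [Finite α] {A B : Set α} {k : ℕ} (f : α → α) (hf : ∀ a ∈ A, f a ∈ B)
    (hk : ∀ b ∈ B, {a | a ∈ A ∧ f a = b}.ncard = k) : A.ncard = k * B.ncard := by
  classical
  haveI := Fintype.ofFinite α
  rw [Set.ncard_eq_toFinset_card', Set.ncard_eq_toFinset_card',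
    Finset.card_eq_sum_card_fiberwise (f := f) (t := B.toFinset) (fun a ha => by simpa using hf a (by simpa using ha)),
    Finset.sum_const_nat (m := k), mul_comm]
  intro b hb
  rw [← hk b (by simpa using hb), Set.ncard_eq_toFinset_card']
  congr 1
  ext a
  simp

namespace Sub

variable {S : Set G}

theorem univ_sub (h : IsPolar D) : Sub D D :=
  ⟨subset_rfl, fun _ ha _ hb => cj_mem h ha hb, fun _ _ _ _ _ _ hz => hz.1,
    fun _ ha => exists_noncommute h.cls h.prim.2.1 ha⟩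

variable (h : IsPolar D) (hs : Sub D S)
include h hs

theorem mem_cj {g s : G} (hg : g ∈ Subgroup.closure S) (hmem : s ∈ S) : g * s * g⁻¹ ∈ S := by
  have : g * s * g⁻¹ ∈ S ∧ g⁻¹ * s * g⁻¹⁻¹ ∈ S := by
    induction hg using Subgroup.closure_induction generalizing s with
    | mem x hx =>
      rw [inv_inv, inv_self h.cls.1 (hs.sub hx)]
      exact ⟨hs.conj s hmem x hx, hs.conj s hmem x hx⟩
    | one => exact ⟨by simpa using hmem, by simpa using hmem⟩
    | mul x y _ _ ihx ihy =>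
      refine ⟨?_, ?_⟩
      · rw [← cj_cj]; exact (ihx (ihy hmem).1).1
      · rw [mul_inv_rev, ← cj_cj]; exact (ihy (ihx hmem).2).2
    | inv x _ ih =>
      rw [inv_inv]
      exact ⟨by simpa using (ih hmem).2, (ih hmem).1⟩
  exact this.1

theorem tri {a b : G} (ha : a ∈ S) (hb : b ∈ S) (hab : ¬ Commute a b) :
    ¬ Commute (b * a * b) a ∧ ¬ Commute (b * a * b) b := by
  have hD := h.cls.1
  have mb := mul_self hD (hs.sub hb)
  have ma := mul_self hD (hs.sub ha)
  refine ⟨fun e => ?_, fun e => ?_⟩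
  · rw [braid hD (hs.sub hb) (hs.sub ha) (fun c => hab c.symm)] at e
    have := (commute_conj_iff hD (hs.sub ha)).mpr e
    simp only [mul_assoc, mul_mul_cancel_self ma, ma, mul_one, one_mul] at this
    exact hab this.symm
  · have := (commute_conj_iff hD (hs.sub hb)).mpr e
    simp only [mul_assoc, mul_mul_cancel_self mb, mb, mul_one, one_mul] at this
    exact hab this

/-- A member commuting with neither of two commuting members. -/
theorem exists_both {a b : G} (ha : a ∈ S) (hb : b ∈ S) (hab : Commute a b) :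
    ∃ m ∈ S, ¬ Commute m a ∧ ¬ Commute m b := by
  have hD := h.cls.1
  by_cases hne : a = b
  · obtain ⟨m, hm, hn⟩ := hs.nondeg a ha
    exact ⟨m, hm, fun e => hn e.symm, fun e => hn (hne ▸ e.symm)⟩
  by_contra hno
  push Not at hno
  obtain ⟨s, hs1, hsa⟩ := hs.nondeg a ha
  have hsb := hno s hs1 (fun e => hsa e.symm)
  obtain ⟨t, ht, htb⟩ := hs.nondeg b hb
  have hta : Commute t a := by
    by_contra e
    exact htb (hno t ht e).symm
  by_cases hst : Commute s t
  · have hne' : s ≠ t := fun e => htb (e ▸ hsb).symm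
    have ht' : t ∈ Ds D s := ⟨hs.sub ht, hne'.symm, hst⟩
    obtain ⟨e, he, hes, het⟩ := h.third s (hs.sub hs1) t ht'
    have hea : ¬ Commute e a := fun hc => hsa
      (commute_line h (hs.sub hs1) ht' he (right_mem (hs.sub ht)) het (left_mem (hs.sub hs1)) (hs.sub ha)
        hc.symm hta.symm)
    have heb := hno e (hs.line_sub s hs1 t ht ht' he) hea
    exact htb (commute_line h (hs.sub hs1) ht' he (left_mem (hs.sub hs1)) hes (right_mem (hs.sub ht)) (hs.sub hb)
      heb.symm hsb.symm)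
  · have ms := mul_self hD (hs.sub hs1)
    have mt := mul_self hD (hs.sub ht)
    set m := s * t * s with hm
    have hma : ¬ Commute m a := fun e => by
      rw [hm, braid hD (hs.sub hs1) (hs.sub ht) hst] at e
      have := (commute_conj_iff hD (hs.sub ht)).mpr e
      rw [show t * a * t = a by rw [hta.eq, mul_assoc, mt, mul_one]] at this
      simp only [mul_assoc, mul_mul_cancel_self mt, mt, mul_one] at this
      exact hsa this.symm
    have hmb := hno m (hs.conj t ht s hs1) hma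
    have := (commute_conj_iff hD (hs.sub hs1)).mpr hmb
    rw [show s * b * s = b by rw [hsb.eq, mul_assoc, ms, mul_one]] at this
    simp only [hm, mul_assoc, mul_mul_cancel_self ms, ms, mul_one] at this
    exact htb this.symm

theorem trans {a b : G} (ha : a ∈ S) (hb : b ∈ S) : ∃ g ∈ Subgroup.closure S, g * a * g⁻¹ = b := by
  have hD := h.cls.1
  have step : ∀ {x y}, x ∈ S → y ∈ S → ¬ Commute x y → ∃ g ∈ Subgroup.closure S, g * x * g⁻¹ = y := by
    intro x y hx hy hn
    refine ⟨x * y, mul_mem (Subgroup.subset_closure hx) (Subgroup.subset_closure hy), ?_⟩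
    rw [mul_inv_rev, inv_self hD (hs.sub hx), inv_self hD (hs.sub hy)]
    calc x * y * x * (y * x) = (x * y * x) * y * x := by simp only [mul_assoc]
      _ = (y * x * y) * y * x := by rw [braid hD (hs.sub hx) (hs.sub hy) hn]
      _ = y := by simp only [mul_assoc, mul_mul_cancel_self (mul_self hD (hs.sub hy)), mul_self hD (hs.sub hx), mul_one]
  by_cases hab : Commute a b
  · obtain ⟨m, hm, h1, h2⟩ := exists_both h hs ha hb hab
    obtain ⟨g, hg, rfl⟩ := step ha hm (fun e => h1 e.symm)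
    obtain ⟨k, hk, rfl⟩ := step hm hb h2
    exact ⟨k * g, mul_mem hk hg, (cj_cj _ _ _).symm⟩
  · exact step ha hb hab

theorem near_conj {a b : G} (ha : a ∈ S) (hb : b ∈ S) : (S ∩ Ds D a).ncard = (S ∩ Ds D b).ncard := by
  suffices ∀ {a b}, a ∈ S → b ∈ S → (S ∩ Ds D a).ncard ≤ (S ∩ Ds D b).ncard from
    le_antisymm (this ha hb) (this hb ha)
  intro a b ha hb
  obtain ⟨g, hg, rfl⟩ := trans h hs ha hb
  refine Set.ncard_le_ncard_of_injOn (fun z => g * z * g⁻¹) (fun z hz => ⟨mem_cj h hs hg hz.1, ?_⟩)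
    (cj_injective g).injOn (Set.toFinite _)
  rw [← cj_Ds h.cls]
  exact ⟨z, hz.2, rfl⟩

/-- A member of the subspace commuting with one but not the other of two partners. -/
theorem exists_far {a b : G} (ha : a ∈ S) (hb : b ∈ S) (hab : b ∈ Ds D a) :
    ∃ y ∈ S, y ∈ Ds D a ∧ ¬ Commute y b := by
  by_contra hno
  push Not at hno
  have hsub : ∀ y ∈ S, Commute a y → Commute b y := fun y hy hc => by
    by_cases e : y = a
    · exact e ▸ hab.2.2.symm
    · exact (hno y hy ⟨hs.sub hy, e, hc⟩).symm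
  obtain ⟨m, hm, hma, hmb⟩ := exists_both h hs ha hb hab.2.2
  obtain ⟨p, hp, hmp⟩ := exists_proj h (hs.sub ha) hab (hs.sub hm)
  have hpS := hs.line_sub a ha b hb hab hp
  have hsub' : ∀ y ∈ S, Commute a y → Commute p y := fun y hy hc =>
    (hp.2 y (hs.sub hy) hc.symm (hsub y hy hc).symm).symm
  obtain ⟨g, hg, hga⟩ := trans h hs ha hpS
  have hle : {y | y ∈ S ∧ Commute p y}.ncard ≤ {y | y ∈ S ∧ Commute a y}.ncard := by
    refine Set.ncard_le_ncard_of_injOn (fun z => g⁻¹ * z * g⁻¹⁻¹) (fun z hz => ⟨mem_cj h hs (inv_mem hg) hz.1, ?_⟩)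
      (cj_injective _).injOn (Set.toFinite _)
    rw [← commute_cj_iff g, cj_inv, hga]
    exact hz.2
  have heq := Set.eq_of_subset_of_ncard_le (s := {y | y ∈ S ∧ Commute a y}) (t := {y | y ∈ S ∧ Commute p y})
    (fun y hy => ⟨hy.1, hsub' y hy.1 hy.2⟩) hle (Set.toFinite _)
  have hmem : m ∈ {y | y ∈ S ∧ Commute a y} := by rw [heq]; exact ⟨hm, hmp.symm⟩
  exact hma hmem.2.symm

variable {d c : G} (hd : d ∈ S) (hc : c ∈ S) (hdc : ¬ Commute d c)
include hd hc hdc

theorem lk_ne {y : G} (hy : y ∈ lk S d c) : y ∈ Ds D d ∧ y ∈ Ds D c :=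
  ⟨⟨hs.sub hy.1, fun e => hdc (e ▸ hy.2.2).symm, hy.2.1⟩, ⟨hs.sub hy.1, fun e => hdc (e ▸ hy.2.1), hy.2.2⟩⟩

/-- The projection of `c` on a line through `d`. -/
theorem exists_lk {y : G} (hy : y ∈ S) (hyd : y ∈ Ds D d) : ∃ p ∈ lk S d c, p ∈ line D d y := by
  obtain ⟨p, hp, hcp⟩ := exists_proj h (hs.sub hd) hyd (hs.sub hc)
  exact ⟨p, ⟨hs.line_sub d hd y hy hyd hp, line_commute hyd (hs.sub hd) (left_mem (hs.sub hd)) hp, hcp⟩, hp⟩

theorem lk_unique {y p q : G} (hyd : y ∈ Ds D d) (hp : p ∈ lk S d c) (hq : q ∈ lk S d c)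
    (hpl : p ∈ line D d y) (hql : q ∈ line D d y) : p = q := by
  by_contra hne
  exact hdc (proj_unique h (hs.sub hd) hyd (hs.sub hc) hpl hql hp.2.2 hq.2.2 hne d (left_mem (hs.sub hd))).symm

theorem lk_sub : Sub D (lk S d c) := by
  refine ⟨fun y hy => hs.sub hy.1, fun a ha b hb => ⟨hs.conj a ha.1 b hb.1, ?_, ?_⟩, fun a ha b hb hab z hz =>
    ⟨hs.line_sub a ha.1 b hb.1 hab hz, (hz.2 d (hs.sub hd) ha.2.1 hb.2.1), (hz.2 c (hs.sub hc) ha.2.2 hb.2.2)⟩,
    fun l hl => ?_⟩
  · exact (hb.2.1.mul_right ha.2.1).mul_right hb.2.1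
  · exact (hb.2.2.mul_right ha.2.2).mul_right hb.2.2
  · have hld := (lk_ne h hs hd hc hdc hl).1
    obtain ⟨y, hy, hyd, hyl⟩ := exists_far h hs hd hl.1 hld
    obtain ⟨p, hp, hpl⟩ := exists_lk h hs hd hc hdc hy hyd
    refine ⟨p, hp, fun e => hyl ?_⟩
    exact (commute_line h (hs.sub hd) hyd (left_mem (hs.sub hd)) hpl (lk_ne h hs hd hc hdc hp).1.2.1.symm
      (right_mem (hs.sub hy)) (hs.sub hl.1) hl.2.1.symm e).symm

theorem lk_ncard_lt : (lk S d c).ncard < S.ncard :=
  Set.ncard_lt_ncard ⟨fun _ hy => hy.1, fun hle => hdc (hle hd).2.2.symm⟩ (Set.toFinite _)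

variable (h5 : Five D)
include h5

theorem fibre {p : G} (hp : p ∈ lk S d c) :
    ({y | y ∈ line D d p ∧ y ≠ d}).ncard = 4 := by
  have hpd := (lk_ne h hs hd hc hdc hp).1
  rw [show {y | y ∈ line D d p ∧ y ≠ d} = line D d p \ {d} from rfl,
    Set.ncard_sdiff_singleton_of_mem (left_mem (hs.sub hd)), h5 d (hs.sub hd) p hpd]

/-- The points near `d` over a set of projections. -/
theorem near_over (P : Set G) (hP : P ⊆ lk S d c) :
    {y | y ∈ S ∩ Ds D d ∧ ∃ p ∈ P, p ∈ line D d y}.ncard = 4 * P.ncard := by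
  classical
  have hD := hs.sub hd
  choose! f hf using fun y (hy : y ∈ {y | y ∈ S ∩ Ds D d ∧ ∃ p ∈ P, p ∈ line D d y}) => hy.2
  refine fibre_count f (fun y hy => (hf y hy).1) fun p hp => ?_
  rw [← fibre h hs hd hc hdc h5 (hP hp)]
  congr 1
  have hpd := (lk_ne h hs hd hc hdc (hP hp)).1
  ext y
  constructor
  · rintro ⟨hy, rfl⟩
    have := line_eq h hD hy.1.2 (left_mem hD) (hf y hy).2 hpd.2.1.symm
    exact ⟨this ▸ right_mem (hs.sub hy.1.1), hy.1.2.2.1⟩
  · rintro ⟨hy, hyd⟩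
    have hyS := hs.line_sub d hd p (hP hp).1 hpd hy
    have hyd' : y ∈ Ds D d := ⟨hy.1, hyd, line_commute hpd hD (left_mem hD) hy⟩
    have hpl : p ∈ line D d y := by
      rw [line_eq h hD hpd (left_mem hD) hy (Ne.symm hyd)]
      exact right_mem hpd.1
    refine ⟨⟨⟨hyS, hyd'⟩, p, hp, hpl⟩, ?_⟩
    exact lk_unique h hs hd hc hdc hyd' (hP (hf y ⟨⟨hyS, hyd'⟩, p, hp, hpl⟩).1) (hP hp)
      (hf y ⟨⟨hyS, hyd'⟩, p, hp, hpl⟩).2 hpl

theorem near_card : (S ∩ Ds D d).ncard = 4 * (lk S d c).ncard := by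
  rw [← near_over h hs hd hc hdc h5 _ subset_rfl]
  exact congrArg Set.ncard (Set.ext fun y => ⟨fun hy => ⟨hy, exists_lk h hs hd hc hdc hy.1 hy.2⟩, fun hy => hy.1⟩)

theorem far_card {N : ℕ} (hN : ∀ p ∈ lk S d c, {q | q ∈ lk S d c ∧ ¬ Commute p q}.ncard = N)
    (hne : (lk S d c).Nonempty) : {t | t ∈ S ∧ ¬ Commute d t}.ncard = 16 * N := by
  classical
  haveI := Fintype.ofFinite G
  set L := lk S d c with hL
  set T := {t | t ∈ S ∧ ¬ Commute d t} with hT
  have hD := hs.sub hd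
  have byT : ∀ t ∈ T.toFinset, ((S ∩ Ds D d).toFinset.filter fun y => Commute t y).card = L.ncard := by
    intro t ht
    rw [Set.mem_toFinset] at ht
    have e1 := near_card h hs hd ht.1 ht.2 h5
    have e2 := near_card h hs hd hc hdc h5
    have e3 : (lk S d t).ncard = L.ncard := by rw [hL]; omega
    rw [← e3, ← Set.ncard_coe_finset]
    congr 1
    ext y
    simp only [Finset.coe_filter, Set.mem_toFinset, Set.mem_setOf_eq]
    exact ⟨fun hy => ⟨hy.1.1, hy.1.2.2.2, hy.2⟩,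
      fun hy => ⟨⟨hy.1, (lk_ne h hs hd ht.1 ht.2 hy).1⟩, hy.2.2⟩⟩
  have byY : ∀ y ∈ (S ∩ Ds D d).toFinset, (T.toFinset.filter fun t => Commute t y).card = 4 * N := by
    intro y hy
    rw [Set.mem_toFinset] at hy
    obtain ⟨p0, hp0, hp0l⟩ := exists_lk h hs hd hc hdc hy.1 hy.2
    have hp0d := (lk_ne h hs hd hc hdc hp0).1
    set P := {q | q ∈ L ∧ Commute p0 q} with hP
    have hA : {z | z ∈ S ∩ Ds D d ∧ Commute y z} = {z | z ∈ S ∩ Ds D d ∧ ∃ p ∈ P, p ∈ line D d z} := by
      ext z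
      refine and_congr_right fun hz => ⟨fun hyz => ?_, fun ⟨p, ⟨hp, hpp⟩, hpl⟩ => ?_⟩
      · obtain ⟨p, hp, hpl⟩ := exists_lk h hs hd hc hdc hz.1 hz.2
        refine ⟨p, ⟨hp, ?_⟩, hpl⟩
        have h1 : Commute z p0 := hp0l.2 z (hs.sub hz.1) hz.2.2.2.symm hyz.symm
        exact hpl.2 p0 hp0l.1 hp0d.2.2.symm h1.symm
      · have hpd := (lk_ne h hs hd hc hdc hp).1
        have h1 : Commute z p0 := (commute_line h hD hz.2 (left_mem hD) hpl hpd.2.1.symm (right_mem (hs.sub hz.1))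
          hp0l.1 hp0d.2.2.symm hpp).symm
        exact commute_line h hD hy.2 (left_mem hD) hp0l hp0d.2.1.symm (right_mem (hs.sub hy.1)) (hs.sub hz.1)
          hz.2.2.2.symm h1 |>.symm
    have hAcard := congrArg Set.ncard hA
    rw [near_over h hs hd hc hdc h5 P fun q hq => hq.1] at hAcard
    have hPN : P.ncard + N = L.ncard := by
      rw [← hN p0 hp0, ← Set.ncard_union_eq (by
        rw [Set.disjoint_left]; exact fun q hq hq' => hq'.2 hq.2) (Set.toFinite _) (Set.toFinite _)]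
      congr 1
      ext q
      by_cases hc : Commute p0 q <;> simp [hP, hL, hc]
    have hY := near_card h hs hd hc hdc h5
    rw [near_conj h hs hd hy.1] at hY
    set Q := {z | z ∈ S ∩ Ds D y ∧ Commute d z} with hQ
    have hQcard : Q.ncard = 4 * P.ncard := by
      have e1 : Q = insert d ({z | z ∈ S ∩ Ds D d ∧ Commute y z} \ {y}) := by
        ext z
        constructor
        · rintro ⟨⟨hz, hzy⟩, hdz⟩
          by_cases e : z = d
          · exact Or.inl e
          · exact Or.inr ⟨⟨⟨hz, hs.sub hz, e, hdz⟩, hzy.2.2⟩, hzy.2.1⟩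
        · rintro (rfl | ⟨⟨⟨hz, hzd⟩, hyz⟩, hzy⟩)
          · exact ⟨⟨hd, Ds_symm hD hy.2⟩, Commute.refl _⟩
          · exact ⟨⟨hz, hzd.1, hzy, hyz⟩, hzd.2.2⟩
      have hmem : y ∈ {z | z ∈ S ∩ Ds D d ∧ Commute y z} := ⟨hy, Commute.refl _⟩
      have hnot : d ∉ {z | z ∈ S ∩ Ds D d ∧ Commute y z} \ {y} := fun e => e.1.1.2.2.1 rfl
      have hpos := (Set.ncard_pos (Set.toFinite _)).mpr ⟨y, hmem⟩
      rw [e1, Set.ncard_insert_of_notMem hnot, Set.ncard_sdiff_singleton_of_mem hmem]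
      omega
    have hsplit : Q.ncard + (T.toFinset.filter fun t => Commute t y).card = (S ∩ Ds D y).ncard := by
      rw [← Set.ncard_coe_finset, ← Set.ncard_union_eq]
      · congr 1
        ext z
        simp only [Finset.coe_filter, Set.mem_toFinset, Set.mem_union, Set.mem_setOf_eq, hQ, hT]
        constructor
        · rintro (hz | ⟨⟨hz, hdz⟩, hzy⟩)
          · exact hz.1
          · exact ⟨hz, hs.sub hz, fun e => hdz (e ▸ hy.2.2.2), hzy.symm⟩
        · intro hz
          by_cases hdz : Commute d z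
          · exact Or.inl ⟨hz, hdz⟩
          · exact Or.inr ⟨⟨hz.1, hdz⟩, hz.2.2.2.symm⟩
      · rw [Set.disjoint_left]
        simp only [Finset.coe_filter, Set.mem_toFinset, Set.mem_setOf_eq, hQ, hT]
        exact fun z hz hz' => hz'.1.2 hz.2
      all_goals exact Set.toFinite _
    have hLc : L.ncard = (lk S d c).ncard := by rw [hL]
    omega
  have hcount := Finset.sum_card_bipartiteAbove_eq_sum_card_bipartiteBelow (fun t y : G => Commute t y)
    (s := T.toFinset) (t := (S ∩ Ds D d).toFinset)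
  simp only [Finset.bipartiteAbove, Finset.bipartiteBelow] at hcount
  rw [Finset.sum_const_nat byT, Finset.sum_const_nat byY, ← Set.ncard_eq_toFinset_card',
    ← Set.ncard_eq_toFinset_card', near_card h hs hd hc hdc h5] at hcount
  have hpos : 0 < L.ncard := (Set.ncard_pos (Set.toFinite _)).mpr hne
  refine mul_right_cancel₀ hpos.ne' ?_
  rw [hcount, hL]; ring

end Sub

end CfsgThreeTrans.Polar
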