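/-
Coordinatisations of a set of 3-transpositions by isotropic points over four elements.
-/
import Cfsg.Agent.Lib.ThreeTrans.Polar.Herm
import Cfsg.Agent.Lib.ThreeTrans.Polar.Sub

set_option autoImplicit false
set_option linter.unusedSectionVars false

namespace CfsgThreeTrans.Polar

open Matrix CfsgLib CfsgLib.UnitaryTransvection CfsgLib.UnitarySimple
open CfsgUniqueTT.Unitary (two_zero add_self vadd_self cube norm_one fixed norm_fix h_zero_right h_zero_left)

universe u v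

variable {G : Type u} [Group G] [Finite G] {F : Type v} [Field F] [Fintype F] [DecidableEq F] {n : ℕ}
  (hF : Fintype.card F = 2 ^ 2)

local notation "σ" => frob hF
local notation "h" => Cfsg.hermForm n F 2

/-- A nonzero isotropic vector. -/
def Iso (u : Fin n → F) : Prop := u ≠ 0 ∧ Cfsg.hermForm n F 2 u u = 0

/-- The image under the transvection at `w`. -/
def tr (w x : Fin n → F) : Fin n → F := x + Cfsg.hermForm n F 2 x w • w

/-- A set of members matching the isotropic points. -/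
structure Model (hF : Fintype.card F = 2 ^ 2) (S : Set G) (n : ℕ) where
  vec : G → Fin n → F
  two : 2 ≤ n
  iso : ∀ a ∈ S, Iso (vec a)
  surj : ∀ u : Fin n → F, Iso u → ∃ a ∈ S, ∃ k : F, k ≠ 0 ∧ vec a = k • u
  inj : ∀ a ∈ S, ∀ b ∈ S, ∀ k : F, vec a = k • vec b → a = b
  comm : ∀ a ∈ S, ∀ b ∈ S, (Commute a b ↔ Cfsg.hermForm n F 2 (vec a) (vec b) = 0)
  conj : ∀ a ∈ S, ∀ b ∈ S, ∃ k : F, k ≠ 0 ∧ vec (b * a * b) = k • tr (vec b) (vec a)
  closed : ∀ a ∈ S, ∀ b ∈ S, b * a * b ∈ S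
  far : ∀ a ∈ S, {b | b ∈ S ∧ ¬ Commute a b}.ncard = 2 * 4 ^ (n - 2)

include hF in
theorem Iso.smul {u : Fin n → F} (hu : Iso u) {a : F} (ha : a ≠ 0) : Iso (a • u) :=
  ⟨smul_ne_zero ha hu.1, by rw [diag_smul hF ha, hu.2]⟩

include hF in
theorem tr_iso {u w : Fin n → F} (hu : Iso u) (hw : Iso w) : Iso (tr w u) := by
  refine ⟨fun e => ?_, ?_⟩
  · have h1 : h (tr w u) w = h u w := by rw [tr, h_add_left, h_smul_left, hw.2, mul_zero, add_zero]
    rw [e, h_zero_left hF] at h1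
    rw [tr, ← h1, zero_smul, add_zero] at e
    exact hu.1 e
  · rw [tr, diag_add hF, h_smul_right hF, h_smul_left, h_smul_right hF, hu.2, hw.2]
    rw [map_mul, frob_frob hF]
    linear_combination (σ (h u w) * h u w) * two_zero hF

namespace Model

variable {hF} {S : Set G} (M : Model hF S n)

open Classical in
/-- The member at an isotropic point. -/
noncomputable def pt (u : Fin n → F) : G :=
  if hu : ∃ a ∈ S, ∃ k : F, k ≠ 0 ∧ M.vec a = k • u then hu.choose else 1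

theorem pt_spec {u : Fin n → F} (hu : Iso u) : M.pt u ∈ S ∧ ∃ k : F, k ≠ 0 ∧ M.vec (M.pt u) = k • u := by
  have e := M.surj u hu
  rw [pt, dif_pos e]
  exact e.choose_spec

theorem pt_mem {u : Fin n → F} (hu : Iso u) : M.pt u ∈ S := (M.pt_spec hu).1

theorem pt_eq {u : Fin n → F} (hu : Iso u) {a : G} (ha : a ∈ S) {k : F} (hk : k ≠ 0) (e : M.vec a = k • u) :
    M.pt u = a := by
  obtain ⟨hm, l, hl, el⟩ := M.pt_spec hu
  refine M.inj _ hm a ha (l / k) ?_
  rw [el, e, smul_smul, div_mul_cancel₀ l hk]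

theorem pt_vec {a : G} (ha : a ∈ S) : M.pt (M.vec a) = a :=
  M.pt_eq (M.iso a ha) ha one_ne_zero (one_smul F _).symm

theorem pt_smul {u : Fin n → F} (hu : Iso u) {a : F} (ha : a ≠ 0) : M.pt (a • u) = M.pt u := by
  obtain ⟨hm, l, hl, el⟩ := M.pt_spec hu
  exact M.pt_eq (hu.smul hF ha) hm (div_ne_zero hl ha) (by rw [el, smul_smul, div_mul_cancel₀ l ha])

theorem pt_surj {a : G} (ha : a ∈ S) : ∃ u : Fin n → F, Iso u ∧ M.pt u = a := ⟨_, M.iso a ha, M.pt_vec ha⟩

theorem pt_inj {u v : Fin n → F} (hu : Iso u) (hv : Iso v) (e : M.pt u = M.pt v) : ∃ k : F, k ≠ 0 ∧ u = k • v := by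
  obtain ⟨-, l, hl, el⟩ := M.pt_spec hu
  obtain ⟨-, k, hk, ek⟩ := M.pt_spec hv
  rw [e, ek] at el
  exact ⟨k / l, div_ne_zero hk hl, by rw [div_eq_inv_mul, mul_smul, el, inv_smul_smul₀ hl]⟩

theorem pt_comm {u v : Fin n → F} (hu : Iso u) (hv : Iso v) : Commute (M.pt u) (M.pt v) ↔ h u v = 0 := by
  obtain ⟨hm, l, hl, el⟩ := M.pt_spec hu
  obtain ⟨hm', k, hk, ek⟩ := M.pt_spec hv
  rw [M.comm _ hm _ hm', el, ek, h_smul_left, h_smul_right hF, mul_eq_zero, mul_eq_zero]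
  simp [hl, (map_ne_zero (frob hF)).mpr hk]

theorem pt_conj {u v : Fin n → F} (hu : Iso u) (hv : Iso v) :
    M.pt v * M.pt u * M.pt v = M.pt (tr v u) := by
  obtain ⟨hm, l, hl, el⟩ := M.pt_spec hu
  obtain ⟨hm', k, hk, ek⟩ := M.pt_spec hv
  obtain ⟨j, hj, ej⟩ := M.conj _ hm _ hm'
  refine (M.pt_eq (tr_iso hF hu hv) (M.closed _ hm _ hm') (mul_ne_zero hj hl) ?_).symm
  rw [ej, el, ek, mul_smul]
  congr 1
  simp only [tr, smul_add, smul_smul, h_smul_left, h_smul_right hF]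
  congr 2
  linear_combination (l * h u v) * norm_fix hF hk

theorem pt_far {u : Fin n → F} (hu : Iso u) :
    {b | b ∈ S ∧ ¬ Commute (M.pt u) b}.ncard = 2 * 4 ^ (n - 2) := M.far _ (M.pt_mem hu)

end Model

end CfsgThreeTrans.Polar
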