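/-
A coordinatised class identifies the group with a projective special unitary group.
-/
import Cfsg.Agent.Lib.ThreeTrans.Polar.Model

set_option autoImplicit false
set_option linter.unusedSectionVars false

namespace CfsgThreeTrans.Polar

open Cfsg CfsgLib CfsgThreeTrans Matrix CfsgLib.UnitaryTransvection CfsgLib.UnitarySimple
open CfsgUniqueTT.Unitary (two_zero add_self vadd_self cube norm_one fixed norm_fix h_zero_right h_zero_left
  tu tu_mulVec tu_conj tu_point tu_smul)

universe u v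

variable {G : Type u} [Group G] [Finite G] {F : Type v} [Field F] [Fintype F] [DecidableEq F] {n : ℕ}
  {hF : Fintype.card F = 2 ^ 2} {D : Set G}

local notation "σ" => frob hF
local notation "h" => Cfsg.hermForm n F 2

theorem unitary_iso (h0 : IsPolar D) (hn : 4 ≤ n) (M : Model hF D n) (hZ : Subgroup.center G = ⊥) :
    Nonempty (G ≃* Cfsg.PSU n F 2) := by
  classical
  have hD := h0.cls.1
  have hcl : ∀ g : G, ∀ {a}, a ∈ D → g * a * g⁻¹ ∈ D := fun g _ ha => cls_conj h0.cls g ha
  let T : Subgroup (G × Cfsg.SU n F 2) :=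
    { carrier := {p | ∀ a ∈ D, ∃ k : F, k ≠ 0 ∧ mat p.2 *ᵥ M.vec a = k • M.vec (p.1 * a * p.1⁻¹)}
      one_mem' := fun a _ => ⟨1, one_ne_zero, by simp [mat_one]⟩
      mul_mem' := fun {p q} hp hq a ha => by
        obtain ⟨k, hk, e⟩ := hq a ha
        obtain ⟨l, hl, e'⟩ := hp _ (hcl q.1 ha)
        refine ⟨k * l, mul_ne_zero hk hl, ?_⟩
        rw [Prod.snd_mul, mat_mul, ← mulVec_mulVec, e, mulVec_smul, e', smul_smul, Prod.fst_mul, cj_cj]
      inv_mem' := fun {p} hp a ha => by
        obtain ⟨k, hk, e⟩ := hp _ (hcl p.1⁻¹ ha)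
        rw [cj_inv] at e
        refine ⟨k⁻¹, inv_ne_zero hk, ?_⟩
        rw [Prod.snd_inv, Prod.fst_inv]
        have e2 := congrArg (fun x => k⁻¹ • (mat p.2⁻¹ *ᵥ x)) e
        simp only [mat_inv_mulVec', mulVec_smul, inv_smul_smul₀ hk] at e2
        exact e2.symm }
  have hgen : ∀ a ∈ D, ((a, tu hF (M.vec a)) : G × Cfsg.SU n F 2) ∈ T := fun a ha b hb => by
    obtain ⟨k, hk, e⟩ := M.conj b hb a ha
    refine ⟨k⁻¹, inv_ne_zero hk, ?_⟩
    show mat (tu hF (M.vec a)) *ᵥ M.vec b = k⁻¹ • M.vec (a * b * a⁻¹)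
    rw [tu_mulVec hF (M.iso a ha).2, inv_self hD ha, e, inv_smul_smul₀ hk]
    rfl
  let π₁ : T →* G := (MonoidHom.fst _ _).comp T.subtype
  let π₂ : T →* Cfsg.SU n F 2 := (MonoidHom.snd _ _).comp T.subtype
  let Φ : T →* Cfsg.PSU n F 2 := (QuotientGroup.mk' _).comp π₂
  have s1 : Function.Surjective π₁ := by
    rw [← MonoidHom.range_eq_top, eq_top_iff, ← h0.cls.2.2, Subgroup.closure_le]
    exact fun a ha => ⟨⟨_, hgen a ha⟩, rfl⟩
  have s2 : Function.Surjective π₂ := by
    rw [← MonoidHom.range_eq_top, eq_top_iff, ← generated hF (by omega) (by omega), Subgroup.closure_le]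
    rintro A ⟨v, c, hv, hA⟩
    by_cases hv0 : v = 0
    · subst hv0
      rw [show A = 1 from su_ext fun x => by rw [hA, tmat_zero, mat_one, one_mulVec]]
      exact one_mem _
    have hc := skew_of_tmat hF hv hv0 (c := c) fun a b => by rw [← hA]; exact su_h A a b
    rcases trace_zero hF hc with rfl | rfl
    · rw [show A = 1 from su_ext fun x => by
        rw [hA, tmat_mulVec, zero_mul, zero_smul, add_zero, mat_one, one_mulVec]]
      exact one_mem _
    obtain ⟨a, ha, k, hk, e⟩ := M.surj v ⟨hv0, hv⟩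
    refine ⟨⟨_, hgen a ha⟩, su_ext fun x => ?_⟩
    show mat (tu hF (M.vec a)) *ᵥ x = _
    rw [e, tu_smul hF hv hk, tu_mulVec hF hv, hA, tmat_mulVec, one_mul]
  have sΦ : Function.Surjective Φ := (QuotientGroup.mk'_surjective _).comp s2
  have hker : π₁.ker = Φ.ker := by
    ext ⟨⟨g, A⟩, hp⟩
    show g = 1 ↔ ((A : Cfsg.SU n F 2) : Cfsg.PSU n F 2) = 1
    rw [QuotientGroup.eq_one_iff]
    constructor
    · rintro rfl
      obtain ⟨c, hc⟩ := scalar_of_fix hF (show 3 ≤ n by omega) A fun x => by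
        obtain ⟨e, he0, he, rfl⟩ := pt_surj x
        obtain ⟨a, ha, k, hk, ea⟩ := M.surj e ⟨he0, he⟩
        obtain ⟨l, hl, el⟩ := hp a ha
        simp only [one_mul, inv_one, mul_one] at el
        rw [ea, mulVec_smul, smul_smul] at el
        refine smul_pt_eq A he0 he he0 he l ?_
        have := congrArg (fun x => k⁻¹ • x) el
        simp only [inv_smul_smul₀ hk, smul_smul] at this
        rw [this, show k⁻¹ * (l * k) = l by rw [mul_comm l k, inv_mul_cancel_left₀ hk]]
      rw [Subgroup.mem_center_iff]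
      intro B
      refine su_ext fun x => ?_
      rw [mat_mul, mat_mul, ← mulVec_mulVec, ← mulVec_mulVec, hc, hc, mulVec_smul]
    · intro hA
      refine Subgroup.mem_bot.mp (hZ ▸ mem_center_of_commute_cls h0.cls fun a ha => ?_)
      have hga := hcl g ha
      have h1 : A * tu hF (M.vec a) * A⁻¹ = tu hF (M.vec a) := by
        rw [← Subgroup.mem_center_iff.mp hA, mul_inv_cancel_right]
      rw [tu_conj hF A (M.iso a ha).2] at h1
      obtain ⟨c, hc⟩ := tu_point hF (by rw [su_h, (M.iso a ha).2]) (mat_ne_zero A (M.iso a ha).1) (M.iso a ha).2 h1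
      obtain ⟨k, hk, e⟩ := hp a ha
      rw [hc] at e
      have e3 := M.inj _ hga _ ha (k⁻¹ * c) (by rw [mul_smul, e, inv_smul_smul₀ hk])
      show g * a = a * g
      exact mul_inv_eq_iff_eq_mul.mp e3
  exact ⟨(QuotientGroup.quotientKerEquivOfSurjective π₁ s1).symm.trans
    ((QuotientGroup.quotientMulEquivOfEq hker).trans (QuotientGroup.quotientKerEquivOfSurjective Φ sΦ))⟩

end CfsgThreeTrans.Polar
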