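/-
Links without commuting pairs: three or nine members, matching the isotropic points in low dimension.
-/
import Cfsg.Agent.Lib.ThreeTrans.Polar.Model
import Cfsg.Agent.Lib.ThreeTrans.TwinFive

set_option autoImplicit false
set_option linter.unusedSectionVars false

namespace CfsgThreeTrans.Polar

open Cfsg CfsgLib CfsgThreeTrans CfsgLib.UnitaryTransvection CfsgLib.UnitarySimple
open CfsgUniqueTT.Unitary (two_zero add_self vadd_self cube norm_one fixed norm_fix h_zero_right h_zero_left)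

universe u v

variable {G : Type u} [Group G] [Finite G] {D S : Set G} {d c : G}

/-- No two distinct members commute. -/
def Apart (L : Set G) : Prop := ∀ a ∈ L, ∀ b ∈ L, a ≠ b → ¬ Commute a b

namespace Sub

variable (h : IsPolar D) (hs : Sub D S) (hd : d ∈ S) (hc : c ∈ S) (hdc : ¬ Commute d c)
  (hL : Apart (lk S d c))
include h hs hd hc hdc hL

/-- Three pairwise commuting members lie on a line. -/
theorem triangle {a b e : G} (ha : a ∈ S) (hb : b ∈ S) (he : e ∈ S) (hba : b ∈ Ds D a) (hea : e ∈ Ds D a)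
    (hbe : Commute b e) : e ∈ line D a b := by
  obtain ⟨g, hg, hga⟩ := trans h hs ha hd
  suffices ∀ {b e : G}, b ∈ S → e ∈ S → b ∈ Ds D d → e ∈ Ds D d → Commute b e → e ∈ line D d b by
    have h1 : ∀ {b}, b ∈ Ds D a → g * b * g⁻¹ ∈ Ds D d := fun hb => by
      rw [← hga, ← cj_Ds h.cls]; exact ⟨_, hb, rfl⟩
    have := cj_line_mem h.cls g⁻¹
      (this (mem_cj h hs hg hb) (mem_cj h hs hg he) (h1 hba) (h1 hea) ((commute_cj_iff g).mpr hbe))
    rw [← hga] at this
    simpa [mul_assoc] using this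
  intro b e hb he hbd hed hbe
  have hD := hs.sub hd
  obtain ⟨p, hp, hpl⟩ := exists_lk h hs hd hc hdc hb hbd
  obtain ⟨q, hq, hql⟩ := exists_lk h hs hd hc hdc he hed
  have hep : Commute e p := hpl.2 e (hs.sub he) hed.2.2.symm hbe.symm
  have hpq : Commute p q := hql.2 p hpl.1 hp.2.1.symm hep.symm
  have hpd := (lk_ne h hs hd hc hdc hp).1
  have hqp : q = p := by
    by_contra hne
    exact hL p hp q hq (Ne.symm hne) hpq
  subst hqp
  rw [← line_eq h hD hbd (left_mem hD) hpl hpd.2.1.symm, line_eq h hD hed (left_mem hD) hql hpd.2.1.symm]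
  exact right_mem hed.1

/-- Common partners of noncommuting members are pairwise noncommuting. -/
theorem apart {p q : G} (hp : p ∈ S) (hq : q ∈ S) (hpq : ¬ Commute p q) : Apart (lk S p q) := by
  intro a ha b hb hne hab
  have hap := (lk_ne h hs hp hq hpq ha).1
  have hbp := (lk_ne h hs hp hq hpq hb).1
  have := triangle h hs hd hc hdc hL hp ha.1 hb.1 hap hbp hab
  exact hpq (commute_line h (hs.sub hp) hap (right_mem hap.1) this hne (left_mem (hs.sub hp)) (hs.sub hq)
    ha.2.2 hb.2.2).symm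

/-- Three or nine common partners. -/
theorem base_card (h5 : Five D) (hpair : ∃ a ∈ S, ∃ b ∈ S, b ∈ Ds D a) :
    (lk S d c).ncard = 3 ∨ (lk S d c).ncard = 9 := by
  classical
  haveI := Fintype.ofFinite G
  have hlk : ∀ {p q : G}, p ∈ S → q ∈ S → ¬ Commute p q → (lk S p q).ncard = (lk S d c).ncard := by
    intro p q hp hq hpq
    have e1 := near_card h hs hp hq hpq h5
    have e2 := near_card h hs hd hc hdc h5
    have e3 := near_conj h hs hp hd
    omega
  have hne : (lk S d c).Nonempty := by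
    obtain ⟨a, ha, b, hb, hba⟩ := hpair
    have h1 : 0 < (S ∩ Ds D a).ncard := (Set.ncard_pos (Set.toFinite _)).mpr ⟨b, hb, hba⟩
    rw [near_conj h hs ha hd, near_card h hs hd hc hdc h5] at h1
    exact Set.nonempty_of_ncard_ne_zero (by omega)
  obtain ⟨k, hk⟩ := TwinFive.ncard_pow_three h.cls (S := lk S d c) (fun y hy => hs.sub hy.1) hne
    (fun a ha b hb => by
      rw [inv_self h.cls.1 (hs.sub ha.1)]
      exact (lk_sub h hs hd hc hdc).conj b hb a ha) hL
  have hone : (lk S d c).ncard ≠ 1 := by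
    intro e
    obtain ⟨a, ha⟩ := Set.ncard_eq_one.mp e
    obtain ⟨b, hb, hn⟩ := (lk_sub h hs hd hc hdc).nondeg a (ha ▸ rfl)
    rw [ha] at hb
    exact hn (hb ▸ Commute.refl _)
  set L := lk S d c with hLdef
  obtain ⟨t, ht⟩ : ∃ t, L.ncard = t + 1 :=
    ⟨L.ncard - 1, (Nat.sub_add_cancel ((Set.ncard_pos (Set.toFinite _)).mpr hne)).symm⟩
  have hnear : ∀ {a}, a ∈ S → (S ∩ Ds D a).ncard = 4 * (t + 1) := fun ha => by
    rw [near_conj h hs ha hd, near_card h hs hd hc hdc h5, ht]
  have hN : ∀ p ∈ L, {q | q ∈ L ∧ ¬ Commute p q}.ncard = t := fun p hp => by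
    rw [show {q | q ∈ L ∧ ¬ Commute p q} = L \ {p} from Set.ext fun q =>
      ⟨fun hq => ⟨hq.1, fun e => hq.2 (e ▸ Commute.refl q)⟩, fun hq => ⟨hq.1, hL p hp q hq.1 (Ne.symm hq.2)⟩⟩,
      Set.ncard_sdiff_singleton_of_mem hp, ht, Nat.add_sub_cancel]
  set Z := {z | z ∈ S ∧ ¬ Commute d z ∧ ¬ Commute c z} with hZ
  have hZcard : Z.ncard + (3 * t + 4) = 16 * t := by
    have hsplit : {z | z ∈ S ∧ ¬ Commute d z} = Z ∪ insert c ((S ∩ Ds D c) \ L) := by
      ext z
      constructor
      · rintro ⟨hz, hdz⟩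
        by_cases hcz : Commute c z
        · by_cases e : z = c
          · exact Or.inr (Or.inl e)
          · exact Or.inr (Or.inr ⟨⟨hz, hs.sub hz, e, hcz⟩, fun hh => hdz hh.2.1⟩)
        · exact Or.inl ⟨hz, hdz, hcz⟩
      · rintro (hz | rfl | ⟨hz, hzL⟩)
        · exact ⟨hz.1, hz.2.1⟩
        · exact ⟨hc, hdc⟩
        · exact ⟨hz.1, fun e => hzL ⟨hz.1, e, hz.2.2.2⟩⟩
    have hLsub : L ⊆ S ∩ Ds D c := fun y hy => ⟨hy.1, (lk_ne h hs hd hc hdc hy).2⟩
    have h1 : ((S ∩ Ds D c) \ L).ncard + L.ncard = (S ∩ Ds D c).ncard := Set.ncard_sdiff_add_ncard_of_subset hLsub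
    have h2 : c ∉ (S ∩ Ds D c) \ L := fun e => e.1.2.2.1 rfl
    have h3 := far_card h hs hd hc hdc h5 hN hne
    rw [hsplit, Set.ncard_union_eq (by
      rw [Set.disjoint_left]
      rintro z hz (rfl | ⟨hz', -⟩)
      · exact hz.2.2 (Commute.refl _)
      · exact hz.2.2 hz'.2.2.2) (Set.toFinite _) (Set.toFinite _), Set.ncard_insert_of_notMem h2] at h3
    rw [hnear hc, ht] at h1
    omega
  have hline : ∀ {p}, p ∈ L → (Z ∩ Ds D p).ncard + 8 = 4 * (t + 1) := by
    intro p hp
    have hpd := (lk_ne h hs hd hc hdc hp).1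
    have hpc := (lk_ne h hs hd hc hdc hp).2
    have hD' := hs.sub hp.1
    have hdp : d ∈ Ds D p := Ds_symm (hs.sub hd) hpd
    have hcp : c ∈ Ds D p := Ds_symm (hs.sub hc) hpc
    have card4 : ∀ {x}, x ∈ Ds D p → (line D p x \ {p}).ncard = 4 := fun hx => by
      rw [Set.ncard_sdiff_singleton_of_mem (left_mem hD'), h5 p hD' _ hx]
    have hsplit : S ∩ Ds D p = (Z ∩ Ds D p) ∪ ((line D p d \ {p}) ∪ (line D p c \ {p})) := by
      ext z
      constructor
      · rintro ⟨hz, hzp⟩
        by_cases hdz : Commute d z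
        · exact Or.inr (Or.inl ⟨triangle h hs hd hc hdc hL hp.1 hd hz hdp hzp hdz, hzp.2.1⟩)
        by_cases hcz : Commute c z
        · exact Or.inr (Or.inr ⟨triangle h hs hd hc hdc hL hp.1 hc hz hcp hzp hcz, hzp.2.1⟩)
        exact Or.inl ⟨⟨hz, hdz, hcz⟩, hzp⟩
      · rintro (hz | hz | hz)
        · exact ⟨hz.1.1, hz.2⟩
        · exact ⟨hs.line_sub p hp.1 d hd hdp hz.1, hz.1.1, hz.2, line_commute hdp hD' (left_mem hD') hz.1⟩
        · exact ⟨hs.line_sub p hp.1 c hc hcp hz.1, hz.1.1, hz.2, line_commute hcp hD' (left_mem hD') hz.1⟩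
    have hdis : Disjoint (line D p d \ {p}) (line D p c \ {p}) := by
      rw [Set.disjoint_left]
      rintro z ⟨h1, h2⟩ ⟨h3, -⟩
      have hzc : Commute z c := line_commute hcp hD' h3 (right_mem (hs.sub hc))
      exact hdc (commute_line h hD' hdp (left_mem hD') h1 (Ne.symm h2) (right_mem (hs.sub hd)) (hs.sub hc)
        hp.2.2 hzc.symm).symm
    have hdis' : Disjoint (Z ∩ Ds D p) ((line D p d \ {p}) ∪ (line D p c \ {p})) := by
      rw [Set.disjoint_left]
      rintro z hz (hz' | hz')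
      · exact hz.1.2.1 (line_commute hdp hD' (right_mem (hs.sub hd)) hz'.1)
      · exact hz.1.2.2 (line_commute hcp hD' (right_mem (hs.sub hc)) hz'.1)
    rw [← hnear hp.1, hsplit, Set.ncard_union_eq hdis' (Set.toFinite _) (Set.toFinite _),
      Set.ncard_union_eq hdis (Set.toFinite _) (Set.toFinite _), card4 hdp, card4 hcp]
  have htwo : ∀ {p q}, p ∈ L → q ∈ L → p ≠ q → {z | z ∈ Z ∧ Commute z p ∧ Commute z q}.ncard + 2 = t + 1 := by
    intro p q hp hq hne'
    have hpq := hL p hp q hq hne'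
    have hA := apart h hs hd hc hdc hL hp.1 hq.1 hpq
    have hdm : d ∈ lk S p q := ⟨hd, hp.2.1.symm, hq.2.1.symm⟩
    have hcm : c ∈ lk S p q := ⟨hc, hp.2.2.symm, hq.2.2.symm⟩
    have e : {z | z ∈ Z ∧ Commute z p ∧ Commute z q} = lk S p q \ {d, c} := by
      ext z
      constructor
      · rintro ⟨hz, h1, h2⟩
        refine ⟨⟨hz.1, h1.symm, h2.symm⟩, ?_⟩
        rintro (rfl | rfl)
        · exact hz.2.1 (Commute.refl _)
        · exact hz.2.2 (Commute.refl _)
      · rintro ⟨hz, hne2⟩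
        simp only [Set.mem_insert_iff, Set.mem_singleton_iff, not_or] at hne2
        exact ⟨⟨hz.1, hA d hdm z hz (Ne.symm hne2.1), hA c hcm z hz (Ne.symm hne2.2)⟩, hz.2.1.symm, hz.2.2.symm⟩
    have hne2 : d ≠ c := fun e => hdc (e ▸ Commute.refl d)
    have := Set.ncard_sdiff_add_ncard_of_subset (s := {d, c}) (t := lk S p q)
      (Set.insert_subset hdm (Set.singleton_subset_iff.mpr hcm))
    rw [Set.ncard_pair hne2, hlk hp.1 hq.1 hpq, ht] at this
    rw [e]; exact this
  -- counting incidences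
  set Zf := Z.toFinset
  set Lf := L.toFinset with hLf
  have hLcard : Lf.card = t + 1 := by rw [hLf, ← Set.ncard_eq_toFinset_card', ht]
  have s1 : ∑ z ∈ Zf, (Lf.filter fun p => Commute z p).card + 8 * (t + 1) = (t + 1) * (4 * (t + 1)) := by
    have := Finset.sum_card_bipartiteAbove_eq_sum_card_bipartiteBelow (fun z p : G => Commute z p) (s := Zf) (t := Lf)
    simp only [Finset.bipartiteAbove, Finset.bipartiteBelow] at this
    rw [this, ← hLcard, show 8 * Lf.card = ∑ _p ∈ Lf, 8 by rw [Finset.sum_const, smul_eq_mul, mul_comm],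
      ← Finset.sum_add_distrib, Finset.sum_const_nat (m := 4 * (t + 1)), hLcard]
    intro p hp
    rw [Set.mem_toFinset] at hp
    rw [← hline hp, ← Set.ncard_coe_finset]
    congr 2
    ext z
    simp only [Zf, Finset.coe_filter, Set.mem_toFinset, Set.mem_setOf_eq, Set.mem_inter_iff]
    refine ⟨fun hz => ⟨hz.1, hs.sub hz.1.1, fun e => hz.1.2.1 ?_, hz.2.symm⟩, fun hz => ⟨hz.1, hz.2.2.2.symm⟩⟩
    rw [e]; exact hp.2.1
  have s2 : ∑ z ∈ Zf, (Lf.filter fun p => Commute z p).offDiag.card + ((t + 1) * (t + 1) - (t + 1))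
      = ((t + 1) * (t + 1) - (t + 1)) * t := by
    have := Finset.sum_card_bipartiteAbove_eq_sum_card_bipartiteBelow
      (fun (z : G) (x : G × G) => Commute z x.1 ∧ Commute z x.2) (s := Zf) (t := Lf.offDiag)
    simp only [Finset.bipartiteAbove, Finset.bipartiteBelow] at this
    have e : ∀ z ∈ Zf, (Lf.filter fun p => Commute z p).offDiag.card
        = (Lf.offDiag.filter fun x => Commute z x.1 ∧ Commute z x.2).card := fun z _ => by
      congr 1
      ext x
      simp only [Finset.mem_offDiag, Finset.mem_filter]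
      tauto
    rw [Finset.sum_congr rfl e, this, ← hLcard, ← Finset.offDiag_card,
      show Lf.offDiag.card = ∑ _x ∈ Lf.offDiag, 1 from Finset.card_eq_sum_ones _,
      ← Finset.sum_add_distrib, ← Finset.card_eq_sum_ones, Finset.sum_const_nat (m := t)]
    rintro ⟨p, q⟩ hx
    simp only [Finset.mem_offDiag, hLf, Set.mem_toFinset] at hx
    have := htwo hx.1 hx.2.1 hx.2.2
    rw [← Set.ncard_coe_finset]
    simp only [Zf, Finset.coe_filter, Set.mem_toFinset]
    omega
  have hoff : ∀ z ∈ Zf, ((Lf.filter fun p => Commute z p).card) ^ 2 =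
      (Lf.filter fun p => Commute z p).offDiag.card + (Lf.filter fun p => Commute z p).card := fun z _ => by
    rw [Finset.offDiag_card, sq, Nat.sub_add_cancel (Nat.le_mul_self _)]
  have hCS := sq_sum_le_card_mul_sum_sq (s := Zf) (f := fun z => (Lf.filter fun p => Commute z p).card)
  rw [Finset.sum_congr rfl hoff, Finset.sum_add_distrib, ← Set.ncard_eq_toFinset_card'] at hCS
  set A := ∑ z ∈ Zf, (Lf.filter fun p => Commute z p).card
  set B := ∑ z ∈ Zf, (Lf.filter fun p => Commute z p).offDiag.card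
  set N := Z.ncard
  have hP : (t + 1) * (t + 1) - (t + 1) = (t + 1) * t := by rw [mul_add, mul_one, Nat.add_sub_cancel]
  rw [hP] at s2
  have ht16 : t ≤ 16 := by
    by_contra hlt
    push Not at hlt
    zify at s1 s2 hCS hlt hZcard
    have e1 : (A : ℤ) = 4 * (t + 1) * (t - 1) := by linear_combination s1
    have e2 : (B : ℤ) = (t + 1) * t * (t - 1) := by linear_combination s2
    have e3 : (N : ℤ) = 13 * t - 4 := by linear_combination hZcard
    rw [e1, e2, e3] at hCS
    have hkey : (0 : ℤ) < (t + 1) * (t - 1) * (3 * t * (t - 16)) := by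
      have ha : (0 : ℤ) < t + 1 := by linarith
      have hb : (0 : ℤ) < t - 1 := by linarith
      have hc : (0 : ℤ) < t - 16 := by linarith
      positivity
    nlinarith [hkey, hCS]
  rw [ht] at hk hone ⊢
  have : k ≤ 2 := by
    by_contra hk3
    have := Nat.pow_le_pow_right (show 0 < 3 by norm_num) (show 3 ≤ k by omega)
    norm_num at this
    omega
  interval_cases k <;> omega

end Sub

/-- The third member of the line of two noncommuting ones. -/
def op (a b : G) : G := a * b * a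

section Op

variable {L : Set G} (hD : IsThreeTranspositionSet D) (hLD : L ⊆ D)
include hD hLD

theorem op_idem {a : G} (ha : a ∈ L) : op a a = a := by rw [op, mul_self hD (hLD ha), one_mul]

theorem op_op {a : G} (ha : a ∈ L) (b : G) : op a (op a b) = b := by
  have ma := mul_self hD (hLD ha)
  simp only [op, mul_assoc, mul_mul_cancel_self ma, ma, mul_one]

theorem op_dist {e : G} (he : e ∈ L) (a b : G) : op e (op a b) = op (op e a) (op e b) := by
  simp only [op, mul_assoc, mul_mul_cancel_self (mul_self hD (hLD he))]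

theorem op_comm (hA : Apart L) {a b : G} (ha : a ∈ L) (hb : b ∈ L) : op a b = op b a := by
  by_cases e : a = b
  · rw [e]
  · exact braid hD (hLD ha) (hLD hb) (hA a ha b hb e)

theorem op_ne_left (hA : Apart L) {a b : G} (ha : a ∈ L) (hb : b ∈ L) (hne : a ≠ b) : op a b ≠ a := fun e => by
  have := op_op hD hLD ha b
  rw [e, op_idem hD hLD ha] at this
  exact hne this

variable (hA : Apart L) (hcl : ∀ a ∈ L, ∀ b ∈ L, op a b ∈ L)
include hA hcl

/-- Three members form a line. -/
theorem exists_three (hcard : L.ncard = 3) : ∃ f : ZMod 3 → G,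
    Function.Injective f ∧ Set.range f = L ∧ ∀ i j, op (f i) (f j) = f (-(i + j)) := by
  obtain ⟨a, b, e, hab, hae, hbe, hL⟩ := Set.ncard_eq_three.mp hcard
  have ha : a ∈ L := by rw [hL]; simp
  have hb : b ∈ L := by rw [hL]; simp
  have he : op a b = e := by
    have := hcl a ha b hb
    rw [hL] at this
    rcases this with h1 | h1 | h1
    · exact absurd h1 (op_ne_left hD hLD hA ha hb hab)
    · rw [op_comm hD hLD hA ha hb] at h1
      exact absurd h1 (op_ne_left hD hLD hA hb ha hab.symm)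
    · exact h1
  have he' : e ∈ L := by rw [hL]; simp
  let f : ZMod 3 → G := ![a, b, e]
  have hr : Set.range f = L := by
    rw [hL]; ext z
    constructor
    · rintro ⟨i, rfl⟩; fin_cases i <;> simp [f]
    · rintro (rfl | rfl | rfl)
      · exact ⟨0, rfl⟩
      · exact ⟨1, rfl⟩
      · exact ⟨2, rfl⟩
  have hf : ∀ i, f i ∈ L := fun i => hr ▸ ⟨i, rfl⟩
  refine ⟨f, ?_, hr, ?_⟩
  · intro i j hij
    fin_cases i <;> fin_cases j <;> first | rfl | simp [f, hab, hab.symm, hae, hae.symm, hbe, hbe.symm] at hij ⊢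
  have hsym : ∀ i j, op (f i) (f j) = op (f j) (f i) := fun i j => op_comm hD hLD hA (hf i) (hf j)
  have key : op (f 0) (f 1) = f 2 := he
  have k2 : op (f 0) (f 2) = f 1 := by rw [← key]; exact op_op hD hLD (hf 0) _
  have k3 : op (f 1) (f 2) = f 0 := by rw [← key, hsym 0 1]; exact op_op hD hLD (hf 1) _
  intro i j
  fin_cases i <;> fin_cases j
  all_goals first
    | exact op_idem hD hLD (hf _)
    | exact key
    | exact k2
    | exact k3
    | exact (hsym _ _).trans key
    | exact (hsym _ _).trans k2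
    | exact (hsym _ _).trans k3

/-- Nine members form an affine plane. -/
theorem exists_nine (hcard : L.ncard = 9) : ∃ f : ZMod 3 × ZMod 3 → G,
    Function.Injective f ∧ Set.range f = L ∧ ∀ i j, op (f i) (f j) = f (-(i + j)) := by
  obtain ⟨a, ha⟩ : L.Nonempty := Set.nonempty_of_ncard_ne_zero (by omega)
  obtain ⟨b, hb, hab⟩ : ∃ b ∈ L, b ≠ a := Set.exists_ne_of_one_lt_ncard (by omega) a
  have hp : op a b ∈ L := hcl a ha b hb
  obtain ⟨e, he, hen⟩ : ∃ e ∈ L, e ∉ ({a, b, op a b} : Set G) := by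
    by_contra hno
    push Not at hno
    have h1 := Set.ncard_le_ncard (show L ⊆ {a, b, op a b} from hno) (Set.toFinite _)
    have h2 := Set.ncard_insert_le a ({b, op a b} : Set G)
    have h3 := Set.ncard_insert_le b ({op a b} : Set G)
    rw [Set.ncard_singleton] at h3
    omega
  simp only [Set.mem_insert_iff, Set.mem_singleton_iff, not_or] at hen
  let f : ZMod 3 × ZMod 3 → G := fun x =>
    ![![a, e, op a e], ![b, op a (op b e), op (op a b) e], ![op a b, op a (op (op a b) e), op b e]] x.1 x.2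
  have hf : ∀ x, f x ∈ L := by
    rintro ⟨i, j⟩
    fin_cases i <;> fin_cases j <;> simp only [f] <;>
      first
        | exact ha | exact hb | exact he | exact hp | exact hcl a ha e he | exact hcl b hb e he
        | exact hcl _ ha _ (hcl b hb e he) | exact hcl _ hp e he | exact hcl _ ha _ (hcl _ hp e he)
  have oo := fun {a} (h : a ∈ L) b => op_op hD hLD h b
  have cm := fun {a b} (h : a ∈ L) (h' : b ∈ L) => op_comm hD hLD hA h h'
  have dl := fun {c} (h : c ∈ L) a b => op_dist hD hLD h a b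
  have dr : ∀ {x y z}, x ∈ L → y ∈ L → z ∈ L → op (op x y) z = op (op x z) (op y z) := fun hx hy hz => by
    rw [cm (hcl _ hx _ hy) hz, dl hz, cm hz hx, cm hz hy]
  have hbe := hcl b hb e he
  have hae := hcl a ha e he
  have l1 : op (f (0, 0)) (f (1, 0)) = f (2, 0) := rfl
  have l2 : op (f (0, 0)) (f (0, 1)) = f (0, 2) := rfl
  have l3 : op (f (0, 0)) (f (2, 2)) = f (1, 1) := rfl
  have l4 : op (f (0, 0)) (f (1, 2)) = f (2, 1) := rfl
  have l5 : op (f (1, 0)) (f (0, 1)) = f (2, 2) := rfl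
  have l6 : op (f (2, 0)) (f (0, 1)) = f (1, 2) := rfl
  have l7 : op (f (1, 0)) (f (1, 1)) = f (1, 2) := by
    show op b (op a (op b e)) = op (op a b) e
    rw [dl hb, oo hb, cm hb ha]
  have l8 : op (f (1, 0)) (f (0, 2)) = f (2, 1) := by
    show op b (op a e) = op a (op (op a b) e)
    rw [dl ha, oo ha]
  have l9 : op (f (0, 1)) (f (1, 1)) = f (2, 1) := by
    show op e (op a (op b e)) = op a (op (op a b) e)
    rw [dl he, cm hb he, oo he, dl ha, oo ha, cm he ha, cm hae hb]
  have l10 : op (f (2, 0)) (f (2, 2)) = f (2, 1) := by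
    show op (op a b) (op b e) = op a (op (op a b) e)
    rw [dl ha (op a b) e, oo ha, dl hb, cm hb ha]
  have l11 : op (f (0, 2)) (f (2, 2)) = f (1, 2) := (dr ha hb he).symm
  have l12 : op (f (0, 2)) (f (2, 0)) = f (1, 1) := by
    show op (op a e) (op a b) = op a (op b e)
    rw [← dl ha, cm he hb]
  have tri : ∀ {x y z}, op (f x) (f y) = f z →
      op (f y) (f x) = f z ∧ op (f x) (f z) = f y ∧ op (f z) (f x) = f y ∧ op (f y) (f z) = f x ∧
        op (f z) (f y) = f x := by
    intro x y z e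
    have e' : op (f y) (f x) = f z := (cm (hf y) (hf x)).trans e
    have e2 : op (f x) (f z) = f y := by rw [← e]; exact oo (hf x) _
    have e3 : op (f y) (f z) = f x := by rw [← e']; exact oo (hf y) _
    exact ⟨e', e2, (cm (hf z) (hf x)).trans e2, e3, (cm (hf z) (hf y)).trans e3⟩
  have hlaw : ∀ x y, op (f x) (f y) = f (-(x + y)) := by
    obtain ⟨a1, b1, c1, d1, g1⟩ := tri l1
    obtain ⟨a2, b2, c2, d2, g2⟩ := tri l2
    obtain ⟨a3, b3, c3, d3, g3⟩ := tri l3
    obtain ⟨a4, b4, c4, d4, g4⟩ := tri l4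
    obtain ⟨a5, b5, c5, d5, g5⟩ := tri l5
    obtain ⟨a6, b6, c6, d6, g6⟩ := tri l6
    obtain ⟨a7, b7, c7, d7, g7⟩ := tri l7
    obtain ⟨a8, b8, c8, d8, g8⟩ := tri l8
    obtain ⟨a9, b9, c9, d9, g9⟩ := tri l9
    obtain ⟨a10, b10, c10, d10, g10⟩ := tri l10
    obtain ⟨a11, b11, c11, d11, g11⟩ := tri l11
    obtain ⟨a12, b12, c12, d12, g12⟩ := tri l12
    rintro ⟨i, j⟩ ⟨i', j'⟩
    fin_cases i <;> fin_cases j <;> fin_cases i' <;> fin_cases j'
    all_goals first
      | exact op_idem hD hLD (hf _)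
      | exact l1 | exact a1 | exact b1 | exact c1 | exact d1 | exact g1
      | exact l2 | exact a2 | exact b2 | exact c2 | exact d2 | exact g2
      | exact l3 | exact a3 | exact b3 | exact c3 | exact d3 | exact g3
      | exact l4 | exact a4 | exact b4 | exact c4 | exact d4 | exact g4
      | exact l5 | exact a5 | exact b5 | exact c5 | exact d5 | exact g5
      | exact l6 | exact a6 | exact b6 | exact c6 | exact d6 | exact g6
      | exact l7 | exact a7 | exact b7 | exact c7 | exact d7 | exact g7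
      | exact l8 | exact a8 | exact b8 | exact c8 | exact d8 | exact g8
      | exact l9 | exact a9 | exact b9 | exact c9 | exact d9 | exact g9
      | exact l10 | exact a10 | exact b10 | exact c10 | exact d10 | exact g10
      | exact l11 | exact a11 | exact b11 | exact c11 | exact d11 | exact g11
      | exact l12 | exact a12 | exact b12 | exact c12 | exact d12 | exact g12
  have hinj : Function.Injective f := by
    intro x y hxy
    by_contra hne
    have hk : f (x - y) = f 0 := by
      have h1 := hlaw (-x) y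
      rw [← hxy, hlaw] at h1
      have e1 : -(-x + y) = x - y := by abel
      have e2 : -(-x + x) = 0 := by abel
      rw [e1, e2] at h1
      exact h1.symm
    have h0 : x - y ≠ 0 := sub_ne_zero.mpr hne
    generalize x - y = k at hk h0
    have n1 : op a b ≠ a := op_ne_left hD hLD hA ha hb (Ne.symm hab)
    have n2 : op a e ≠ a := op_ne_left hD hLD hA ha he (Ne.symm hen.1)
    have n3 : op b e ≠ a := fun h1 => hen.2.2 (by rw [← oo hb e, h1, cm hb ha])
    have n4 : op a (op b e) ≠ a := op_ne_left hD hLD hA ha hbe (Ne.symm n3)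
    have n5 : op (op a b) e ≠ a := fun h1 => hen.2.1 (by rw [← oo hp e, h1, cm hp ha, oo ha])
    have n6 : op a (op (op a b) e) ≠ a := op_ne_left hD hLD hA ha (hcl _ hp e he) (Ne.symm n5)
    obtain ⟨i, j⟩ := k
    fin_cases i <;> fin_cases j <;>
      first
        | exact h0 rfl | exact hab hk | exact hen.1 hk | exact n1 hk | exact n2 hk | exact n3 hk | exact n4 hk
        | exact n5 hk | exact n6 hk
  refine ⟨f, hinj, ?_, hlaw⟩
  refine Set.eq_of_subset_of_ncard_le (Set.range_subset_iff.mpr hf) ?_ (Set.toFinite _)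
  rw [← Set.image_univ, Set.ncard_image_of_injective _ hinj, Set.ncard_univ, hcard]
  simp

end Op

variable {F : Type v} [Field F] [Fintype F] [DecidableEq F] {hF : Fintype.card F = 2 ^ 2}

local notation "σ" => frob hF

theorem model_of {n : ℕ} (hn : 2 ≤ n) (hD : IsThreeTranspositionSet D) {L : Set G} (hLD : L ⊆ D) (hA : Apart L)
    {ι : Type} [AddCommGroup ι] [Fintype ι] (hcard : Fintype.card ι = 2 * 4 ^ (n - 2) + 1) (f : ι → G)
    (hf : Function.Injective f) (hr : Set.range f = L) (hop : ∀ x y, op (f x) (f y) = f (-(x + y)))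
    (g : ι → Fin n → F) (hg : ∀ x, Iso (g x))
    (hgne : ∀ x y, x ≠ y → Cfsg.hermForm n F 2 (g x) (g y) ≠ 0)
    (hgs : ∀ u : Fin n → F, Iso u → ∃ x, ∃ k : F, k ≠ 0 ∧ g x = k • u)
    (hgc : ∀ x y, ∃ k : F, k ≠ 0 ∧ g (-(x + y)) = k • tr (g y) (g x)) : Nonempty (Model hF L n) := by
  classical
  let vec : G → Fin n → F := fun a => g (Function.invFun f a)
  have hv : ∀ x, vec (f x) = g x := fun x => by simp only [vec, Function.leftInverse_invFun hf x]
  refine ⟨⟨vec, hn, ?_, ?_, ?_, ?_, ?_, ?_, ?_⟩⟩ <;> subst hr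
  · rintro _ ⟨x, rfl⟩; rw [hv]; exact hg x
  · intro u hu
    obtain ⟨x, k, hk, e⟩ := hgs u hu
    exact ⟨f x, ⟨x, rfl⟩, k, hk, by rw [hv, e]⟩
  · rintro _ ⟨x, rfl⟩ _ ⟨y, rfl⟩ k e
    rw [hv, hv] at e
    by_contra hne
    exact hgne x y (fun h1 => hne (h1 ▸ rfl)) (by rw [e, h_smul_left, (hg y).2, mul_zero])
  · rintro _ ⟨x, rfl⟩ _ ⟨y, rfl⟩
    rw [hv, hv]
    by_cases e : x = y
    · subst e; exact iff_of_true (Commute.refl _) (hg x).2
    · exact iff_of_false (hA _ ⟨x, rfl⟩ _ ⟨y, rfl⟩ (hf.ne e)) (hgne x y e)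
  · rintro _ ⟨x, rfl⟩ _ ⟨y, rfl⟩
    rw [show f y * f x * f y = f (-(y + x)) from hop y x, hv, hv, hv, add_comm y x]
    exact hgc x y
  · rintro _ ⟨x, rfl⟩ _ ⟨y, rfl⟩
    exact ⟨-(y + x), (hop y x).symm⟩
  · rintro _ ⟨x, rfl⟩
    rw [show {b | b ∈ Set.range f ∧ ¬ Commute (f x) b} = Set.range f \ {f x} from Set.ext fun b =>
      ⟨fun hb => ⟨hb.1, fun e => hb.2 (e ▸ Commute.refl _)⟩, fun hb => ⟨hb.1, hA _ ⟨x, rfl⟩ _ hb.1 (Ne.symm hb.2)⟩⟩,
      Set.ncard_sdiff_singleton_of_mem (show f x ∈ Set.range f from ⟨x, rfl⟩), ← Set.image_univ, Set.ncard_image_of_injective _ hf,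
      Set.ncard_univ, Nat.card_eq_fintype_card, hcard, Nat.add_sub_cancel]

/-- The third roots of unity. -/
noncomputable def ex (hF : Fintype.card F = 2 ^ 2) (j : ZMod 3) : F := ![1, om hF, om hF + 1] j

include hF

theorem ex_ne_zero (j : ZMod 3) : ex hF j ≠ 0 := by
  fin_cases j
  · exact one_ne_zero
  · exact om_ne_zero hF
  · exact om_add_one_ne hF

theorem ex_inj : Function.Injective (ex hF) := by
  have h1 := om_ne_one hF
  have h2 : om hF + 1 ≠ 1 := fun e => om_ne_zero hF (by linear_combination e)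
  intro i j e
  fin_cases i <;> fin_cases j <;> first | rfl | simp [ex, h1, h1.symm, h2, h2.symm] at e ⊢

theorem ex_surj {a : F} (ha : a ≠ 0) : ∃ j, ex hF j = a := by
  rcases (four hF a).resolve_left ha with rfl | rfl | rfl
  · exact ⟨0, rfl⟩
  · exact ⟨1, rfl⟩
  · exact ⟨2, rfl⟩

theorem ex_law (i j : ZMod 3) : ex hF (-j + -i) = ex hF i ^ 2 * ex hF j ^ 2 := by
  have h0 := two_zero hF
  have h1 := om_sq hF
  have e : ∀ i j : ZMod 3, ex hF (i + j) = ex hF i * ex hF j := by
    intro i j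
    fin_cases i <;> fin_cases j
    · exact (one_mul 1).symm
    · exact (one_mul _).symm
    · exact (one_mul _).symm
    · exact (mul_one _).symm
    · exact h1.symm
    · show (1 : F) = om hF * (om hF + 1); linear_combination -h1 - om hF * h0
    · exact (mul_one _).symm
    · show (1 : F) = (om hF + 1) * om hF; linear_combination -h1 - om hF * h0
    · show om hF = (om hF + 1) * (om hF + 1); linear_combination -h1 - (om hF + 1) * h0
  rw [show -j + -i = i + i + (j + j) by revert i j; decide, e, e, e]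
  ring

theorem model_three (hD : IsThreeTranspositionSet D) {L : Set G} (hLD : L ⊆ D) (hA : Apart L)
    (hcl : ∀ a ∈ L, ∀ b ∈ L, op a b ∈ L) (hc : L.ncard = 3) : Nonempty (Model hF L 2) := by
  obtain ⟨f, hf, hr, hop⟩ := exists_three hD hLD hA hcl hc
  refine model_of le_rfl hD hLD hA (by simp) f hf hr hop (fun j => ![1, ex hF j]) (fun j => ⟨fun e => ?_, ?_⟩)
    (fun i j hij e => hij (ex_inj (hF := hF) ?_)) (fun u hu => ?_) (fun i j => ?_)
  · simpa using congrFun e 0
  · have := cube hF (ex_ne_zero (hF := hF) j)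
    simp [Cfsg.hermForm, Fin.sum_univ_two]
    linear_combination this + two_zero hF
  · simp [Cfsg.hermForm, Fin.sum_univ_two] at e
    have := cube hF (ex_ne_zero (hF := hF) j)
    linear_combination ex hF j * e - ex hF i * this - ex hF j * two_zero hF
  · have hu1 := hu.2
    simp [Cfsg.hermForm, Fin.sum_univ_two] at hu1
    have h0 : u 0 ≠ 0 := fun e => hu.1 (by
      rw [e, zero_mul, zero_add] at hu1
      funext k
      fin_cases k
      · exact e
      · rcases mul_eq_zero.mp hu1 with h2 | h2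
        · exact h2
        · exact (pow_eq_zero_iff (by norm_num)).mp h2)
    have h1 : u 1 ≠ 0 := fun e => h0 (by
      rw [e, zero_mul, add_zero, mul_eq_zero, pow_eq_zero_iff (by norm_num)] at hu1
      exact hu1.elim id id)
    obtain ⟨j, hj⟩ := ex_surj (hF := hF) (mul_ne_zero (inv_ne_zero h0) h1)
    refine ⟨j, (u 0)⁻¹, inv_ne_zero h0, ?_⟩
    funext k
    fin_cases k <;> simp [hj, h0]
  · have hi := cube hF (ex_ne_zero (hF := hF) i)
    have hj := cube hF (ex_ne_zero (hF := hF) j)
    have h0 := two_zero hF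
    refine ⟨ex hF i ^ 2 * ex hF j, mul_ne_zero (pow_ne_zero _ (ex_ne_zero i)) (ex_ne_zero j), ?_⟩
    funext k
    fin_cases k <;> simp [tr, Cfsg.hermForm, Fin.sum_univ_two, ex_law] <;> grind

/-- The isotropic points in three dimensions. -/
noncomputable def point (hF : Fintype.card F = 2 ^ 2) (x : ZMod 3 × ZMod 3) : Fin 3 → F :=
  ![![1, ex hF x.2, 0], ![0, 1, ex hF x.2], ![ex hF x.2, 0, 1]] x.1

theorem model_nine (hD : IsThreeTranspositionSet D) {L : Set G} (hLD : L ⊆ D) (hA : Apart L)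
    (hcl : ∀ a ∈ L, ∀ b ∈ L, op a b ∈ L) (hc : L.ncard = 9) : Nonempty (Model hF L 3) := by
  obtain ⟨f, hf, hr, hop⟩ := exists_nine hD hLD hA hcl hc
  have h0 := two_zero hF
  refine model_of (by norm_num) hD hLD hA (by simp) f hf hr hop (point hF) (fun x => ⟨fun e => ?_, ?_⟩)
    (fun x y hxy e => hxy ?_) (fun u hu => ?_) (fun x y => ?_)
  · obtain ⟨i, j⟩ := x
    fin_cases i
    · simpa [point] using congrFun e 0
    · simpa [point] using congrFun e 1
    · simpa [point] using congrFun e 2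
  · obtain ⟨i, j⟩ := x
    have := cube hF (ex_ne_zero (hF := hF) j)
    fin_cases i <;> simp [point, Cfsg.hermForm, Fin.sum_univ_three] <;> grind
  · obtain ⟨i, j⟩ := x
    obtain ⟨i', j'⟩ := y
    have hi := ex_ne_zero (hF := hF) j
    have hj := ex_ne_zero (hF := hF) j'
    have c1 := cube hF hj
    fin_cases i <;> fin_cases i' <;> simp [point, Cfsg.hermForm, Fin.sum_univ_three, hi, hj] at e ⊢
    all_goals
      have : ex hF j = ex hF j' := by grind
      exact congrArg (Prod.mk _) (ex_inj (hF := hF) this)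
  · have hu1 := hu.2
    simp [Cfsg.hermForm, Fin.sum_univ_three] at hu1
    have c3 : ∀ a : F, a ≠ 0 → a * a ^ 2 = 1 := fun a ha => by rw [← pow_succ']; exact cube hF ha
    have one0 : (1 : F) ≠ 0 := one_ne_zero
    by_cases a0 : u 0 = 0
    · have a1 : u 1 ≠ 0 := fun e => hu.1 (by
        rw [a0, e] at hu1
        simp at hu1
        funext k; fin_cases k <;> simp [a0, e, hu1])
      have a2 : u 2 ≠ 0 := fun e => by
        rw [a0, e, c3 _ a1] at hu1; simp at hu1
      obtain ⟨j, hj⟩ := ex_surj (hF := hF) (mul_ne_zero (inv_ne_zero a1) a2)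
      refine ⟨(1, j), (u 1)⁻¹, inv_ne_zero a1, ?_⟩
      funext k
      fin_cases k <;> simp [point, hj, a0, a1]
    · by_cases a1 : u 1 = 0
      · have a2 : u 2 ≠ 0 := fun e => by
          rw [a1, e, c3 _ a0] at hu1; simp at hu1
        obtain ⟨j, hj⟩ := ex_surj (hF := hF) (mul_ne_zero (inv_ne_zero a2) a0)
        refine ⟨(2, j), (u 2)⁻¹, inv_ne_zero a2, ?_⟩
        funext k
        fin_cases k <;> simp [point, hj, a1, a2]
      · have a2 : u 2 = 0 := by
          by_contra e
          rw [c3 _ a0, c3 _ a1, c3 _ e] at hu1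
          exact one0 (by linear_combination hu1 - h0)
        obtain ⟨j, hj⟩ := ex_surj (hF := hF) (mul_ne_zero (inv_ne_zero a0) a1)
        refine ⟨(0, j), (u 0)⁻¹, inv_ne_zero a0, ?_⟩
        funext k
        fin_cases k <;> simp [point, hj, a0, a2]
  · obtain ⟨i, j⟩ := x
    obtain ⟨i', j'⟩ := y
    have hi := cube hF (ex_ne_zero (hF := hF) j)
    have hj := cube hF (ex_ne_zero (hF := hF) j')
    have key : ∀ a b : ZMod 3, -(a + b) = (![![0, 2, 1], ![2, 1, 0], ![1, 0, 2]] : Fin 3 → Fin 3 → ZMod 3) a b := by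
      intro a b; fin_cases a <;> fin_cases b <;> rfl
    let A := ex hF j ^ 2 * ex hF j'
    let B := ex hF j ^ 2 * ex hF j' ^ 2
    let C := ex hF j ^ 2
    have nj := ex_ne_zero (hF := hF) j
    have nj' := ex_ne_zero (hF := hF) j'
    refine ⟨(![![A, B, C], ![C, A, B], ![B, C, A]] : Fin 3 → Fin 3 → F) i i', ?_, ?_⟩
    · fin_cases i <;> fin_cases i' <;> simp [A, B, C, nj, nj']
    funext k
    show point hF (-(i + i'), -(j + j')) k = _
    rw [key i i']
    fin_cases i <;> fin_cases i' <;> fin_cases k <;>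
      simp [point, tr, Cfsg.hermForm, Fin.sum_univ_three, ex_law, A, B, C] <;> grind

end CfsgThreeTrans.Polar
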