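/-
Transport between the fibres over the points of a link and its holonomy around triangles.
-/
import Cfsg.Agent.Lib.ThreeTrans.Polar.Model

set_option autoImplicit false
set_option linter.unusedSectionVars false

namespace CfsgThreeTrans.Polar

open Cfsg CfsgLib CfsgThreeTrans CfsgLib.UnitaryTransvection CfsgLib.UnitarySimple
open CfsgUniqueTT.Unitary (two_zero add_self vadd_self cube norm_one fixed norm_fix h_zero_right h_zero_left)

universe u v

variable {G : Type u} [Group G] [Finite G] {F : Type v} [Field F] [Fintype F] [DecidableEq F]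
  {hF : Fintype.card F = 2 ^ 2} {D S : Set G} {d c : G} {m : ℕ}

local notation "σ" => frob hF
local notation "h" => Cfsg.hermForm m F 2

/-- Two noncommuting members with a coordinatised link. -/
structure Setting (hF : Fintype.card F = 2 ^ 2) (D S : Set G) (d c : G) (m : ℕ) where
  pol : IsPolar D
  five : Five D
  sub : Sub D S
  dS : d ∈ S
  cS : c ∈ S
  dc : ¬ Commute d c
  M : Model hF (lk S d c) m

/-- Fixed-point-free maps of a set of three elements are three-cycles. -/
theorem three_cycle {α : Type*} [Finite α] {T : Set α} (hT : T.ncard = 3) {f : α → α} (hm : ∀ y ∈ T, f y ∈ T)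
    (hi : Set.InjOn f T) (hne : ∀ y ∈ T, f y ≠ y) {y : α} (hy : y ∈ T) :
    f (f y) ≠ y ∧ f (f (f y)) = y ∧ ∀ z ∈ T, z = y ∨ z = f y ∨ z = f (f y) := by
  have h1 := hm y hy
  have h2 := hm _ h1
  have h12 : f (f y) ≠ y := by
    intro e
    obtain ⟨z, hz, hzy, hzf⟩ : ∃ z ∈ T, z ≠ y ∧ z ≠ f y := by
      by_contra hno
      push Not at hno
      have : T ⊆ {y, f y} := fun z hz => or_iff_not_imp_left.mpr (hno z hz)
      have := (Set.ncard_le_ncard this (Set.toFinite _)).trans (Set.ncard_insert_le _ _)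
      simp [hT] at this
    have hT' : ({y, f y, z} : Set α) = T := by
      refine Set.eq_of_subset_of_ncard_le ?_ ?_ (Set.toFinite _)
      · simp [Set.insert_subset_iff, hy, h1, hz]
      · rw [hT, Set.ncard_insert_of_notMem, Set.ncard_pair hzf.symm]
        simp [(hne y hy).symm, hzy.symm]
    have h3 := hm z hz
    rw [← hT'] at h3
    rcases h3 with h3 | h3 | h3
    · exact hzf (hi hz h1 (h3.trans e.symm))
    · exact hzy (hi hz hy h3)
    · exact hne z hz h3
  have hT' : ({y, f y, f (f y)} : Set α) = T := by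
    refine Set.eq_of_subset_of_ncard_le ?_ ?_ (Set.toFinite _)
    · simp [Set.insert_subset_iff, hy, h1, h2]
    · rw [hT, Set.ncard_insert_of_notMem, Set.ncard_pair (hne _ h1).symm]
      simp [(hne y hy).symm, h12.symm]
  have hall : ∀ z ∈ T, z = y ∨ z = f y ∨ z = f (f y) := fun z hz => by rw [← hT'] at hz; exact hz
  refine ⟨h12, ?_, hall⟩
  rcases hall _ (hm _ h2) with e | e | e
  · exact e
  · exact absurd (hi h2 hy e) h12
  · exact absurd e (hne _ h2)

namespace Setting

variable (X : Setting hF D S d c m)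

theorem hD (X : Setting hF D S d c m) : IsThreeTranspositionSet D := X.pol.cls.1

theorem dD (X : Setting hF D S d c m) : d ∈ D := X.sub.sub X.dS

theorem pt_lk (X : Setting hF D S d c m) {u : Fin m → F} (hu : Iso u) : X.M.pt u ∈ lk S d c := X.M.pt_mem hu

theorem pt_ds (X : Setting hF D S d c m) {u : Fin m → F} (hu : Iso u) : X.M.pt u ∈ Ds D d :=
  (Sub.lk_ne X.pol X.sub X.dS X.cS X.dc (X.pt_lk hu)).1

/-- The points of the line through `d` over a point of the link, other than these two. -/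
def fib (u : Fin m → F) : Set G := {y | y ∈ line D d (X.M.pt u) ∧ y ≠ d ∧ y ≠ X.M.pt u}

theorem fib_smul {u : Fin m → F} (hu : Iso u) {a : F} (ha : a ≠ 0) : X.fib (a • u) = X.fib u := by
  rw [fib, fib, X.M.pt_smul hu ha]

theorem fib_card {u : Fin m → F} (hu : Iso u) : (X.fib u).ncard = 3 := by
  have e : X.fib u = (line D d (X.M.pt u) \ {d}) \ {X.M.pt u} := by
    ext y
    exact ⟨fun e => ⟨⟨e.1, e.2.1⟩, e.2.2⟩, fun e => ⟨e.1.1, e.1.2, e.2⟩⟩
  rw [e, Set.ncard_sdiff_singleton_of_mem (show X.M.pt u ∈ line D d (X.M.pt u) \ {d} from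
      ⟨right_mem (X.pt_ds hu).1, (X.pt_ds hu).2.1⟩),
    Set.ncard_sdiff_singleton_of_mem (left_mem X.dD), X.five d X.dD _ (X.pt_ds hu)]

theorem fib_line {u : Fin m → F} (hu : Iso u) {y : G} (hy : y ∈ X.fib u) :
    y ∈ Ds D d ∧ y ∈ S ∧ line D d y = line D d (X.M.pt u) := by
  have hp := X.pt_ds hu
  refine ⟨⟨hy.1.1, hy.2.1, line_commute hp X.dD (left_mem X.dD) hy.1⟩,
    X.sub.line_sub d X.dS _ (X.pt_lk hu).1 hp hy.1, ?_⟩
  exact line_eq X.pol X.dD hp (left_mem X.dD) hy.1 hy.2.1.symm

theorem fib_S {u : Fin m → F} (hu : Iso u) {y : G} (hy : y ∈ X.fib u) : y ∈ S := (X.fib_line hu hy).2.1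

theorem fib_D {u : Fin m → F} (hu : Iso u) {y : G} (hy : y ∈ X.fib u) : y ∈ D := hy.1.1

theorem fib_d {u : Fin m → F} (hu : Iso u) {y : G} (hy : y ∈ X.fib u) : Commute d y := (X.fib_line hu hy).1.2.2

theorem fib_c {u : Fin m → F} (hu : Iso u) {y : G} (hy : y ∈ X.fib u) : ¬ Commute y c := fun e =>
  X.dc (commute_line X.pol X.dD (X.pt_ds hu) hy.1 (right_mem (X.pt_ds hu).1) hy.2.2 (left_mem X.dD)
    (X.sub.sub X.cS) e.symm (X.pt_lk hu).2.2).symm

theorem fib_pt {u v : Fin m → F} (hu : Iso u) (hv : Iso v) {y : G} (hy : y ∈ X.fib u) :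
    Commute y (X.M.pt v) ↔ h u v = 0 := by
  rw [← X.M.pt_comm hu hv]
  constructor
  · intro e
    exact (commute_line X.pol X.dD (X.pt_ds hu) (left_mem X.dD) hy.1 hy.2.1.symm (right_mem (X.pt_ds hu).1)
      (X.pt_ds hv).1 (X.pt_ds hv).2.2.symm e.symm).symm
  · intro e
    exact (hy.1.2 _ (X.pt_ds hv).1 (X.pt_ds hv).2.2.symm e.symm).symm

/-- The transport between the fibres over two noncommuting points. -/
noncomputable def phi (u v : Fin m → F) (y : G) : G :=
  (X.M.pt v * X.M.pt u * X.M.pt v) * y * (X.M.pt v * X.M.pt u * X.M.pt v)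

theorem phi_smul {u v : Fin m → F} (hu : Iso u) (hv : Iso v) {a b : F} (ha : a ≠ 0) (hb : b ≠ 0) (y : G) :
    X.phi (a • u) (b • v) y = X.phi u v y := by
  rw [phi, phi, X.M.pt_smul hu ha, X.M.pt_smul hv hb]

theorem phi_symm {u v : Fin m → F} (hu : Iso u) (hv : Iso v) (huv : h u v ≠ 0) (y : G) :
    X.phi v u (X.phi u v y) = y := by
  have hp := (X.pt_ds hu).1
  have hq := (X.pt_ds hv).1
  rw [phi, phi, braid X.hD hp hq (fun e => huv ((X.M.pt_comm hu hv).mp e))]
  have hr := mul_self X.hD (cj_mem X.pol hp hq)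
  generalize X.M.pt v * X.M.pt u * X.M.pt v = r at hr ⊢
  rw [show r * (r * y * r) * r = (r * r) * y * (r * r) by simp only [mul_assoc], hr, one_mul, mul_one]

theorem phi_inj (u v : Fin m → F) : Function.Injective (X.phi u v) := fun x y e => by
  simpa [phi] using e

theorem phi_mem {u v : Fin m → F} (hu : Iso u) (hv : Iso v) (huv : h u v ≠ 0) {y : G} (hy : y ∈ X.fib u) :
    X.phi u v y ∈ X.fib v := by
  have hp := (X.pt_ds hu).1
  have hq := (X.pt_ds hv).1
  have hn : ¬ Commute (X.M.pt u) (X.M.pt v) := fun e => huv ((X.M.pt_comm hu hv).mp e)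
  set r := X.M.pt v * X.M.pt u * X.M.pt v with hr
  have hrD : r ∈ D := cj_mem X.pol hp hq
  have hinv : r⁻¹ = r := inv_self X.hD hrD
  have hd : r * d * r = d := by
    have hc : Commute r d := ((X.pt_ds hv).2.2.symm.mul_left (X.pt_ds hu).2.2.symm).mul_left (X.pt_ds hv).2.2.symm
    rw [hc.eq, mul_assoc, mul_self X.hD hrD, mul_one]
  have hpq : r * X.M.pt u * r = X.M.pt v := by
    have b := braid X.hD hp hq hn
    have cp := mul_mul_cancel_self (mul_self X.hD hp)
    have cq := mul_mul_cancel_self (mul_self X.hD hq)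
    calc r * X.M.pt u * r = X.M.pt v * X.M.pt u * (X.M.pt v * X.M.pt u * X.M.pt v) * (X.M.pt u * X.M.pt v) := by
          simp only [hr, mul_assoc]
      _ = X.M.pt v * X.M.pt u * (X.M.pt u * X.M.pt v * X.M.pt u) * (X.M.pt u * X.M.pt v) := by rw [b]
      _ = X.M.pt v := by simp only [mul_assoc, cp, cq, mul_self X.hD hq, mul_one]
  have hl := cj_line_mem X.pol.cls r hy.1
  rw [hinv, hd, hpq] at hl
  exact ⟨hl, fun e => hy.2.1 (cj_injective r (show r * y * r⁻¹ = r * d * r⁻¹ by rw [hinv, hd]; exact e)),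
    fun e => hy.2.2 (cj_injective r (show r * y * r⁻¹ = r * X.M.pt u * r⁻¹ by rw [hinv, hpq]; exact e))⟩

/-- The defining property of the transport. -/
theorem phi_R {u v : Fin m → F} (hu : Iso u) (hv : Iso v) (huv : h u v ≠ 0) {y : G} (hy : y ∈ X.fib u) :
    y * X.phi u v y * y = X.M.pt v * X.M.pt u * X.M.pt v := by
  have hp := (X.pt_ds hu).1
  have hq := (X.pt_ds hv).1
  set r := X.M.pt v * X.M.pt u * X.M.pt v with hr
  have hrD : r ∈ D := cj_mem X.pol hp hq
  have hn : ¬ Commute r y := by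
    intro e
    have e' : Commute y (X.M.pt (tr v u)) := by rw [← X.M.pt_conj hu hv]; exact e.symm
    have := (X.fib_pt hu (tr_iso hF hu hv) hy).mp e'
    rw [tr, h_add_right hF, h_smul_right hF, hu.2, zero_add, norm_fix hF huv] at this
    exact one_ne_zero this
  rw [show X.phi u v y = y * r * y from braid X.hD hrD (X.fib_D hu hy) hn]
  have cy := mul_mul_cancel_self (mul_self X.hD (X.fib_D hu hy))
  simp only [mul_assoc, cy, mul_self X.hD (X.fib_D hu hy), mul_one]

/-- A real triangle has trivial holonomy. -/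
theorem phi_real {u v w : Fin m → F} (hu : Iso u) (hv : Iso v) (hw : Iso w) (huv : h u v ≠ 0) (hvw : h v w ≠ 0)
    (huw : h u w ≠ 0) (hr : h (tr v u) w = 0) {y : G} (hy : y ∈ X.fib u) :
    X.phi v w (X.phi u v y) = X.phi u w y := by
  set p := X.M.pt u
  set q := X.M.pt v
  set r := X.M.pt w
  have hp : p ∈ D := (X.pt_ds hu).1
  have hq : q ∈ D := (X.pt_ds hv).1
  have hrD : r ∈ D := (X.pt_ds hw).1
  set a := q * p * q with ha
  have haD : a ∈ D := cj_mem X.pol hp hq
  have ma := mul_self X.hD haD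
  have car : Commute a r := by
    rw [show a = X.M.pt (tr v u) from X.M.pt_conj hu hv]; exact (X.M.pt_comm (tr_iso hF hu hv) hw).mpr hr
  have har : a * r * a = r := by rw [car.eq, mul_assoc, ma, mul_one]
  have hb : r * q * r = a * (r * p * r) * a := by
    have hpq : a * p * a = q := by
      have b := braid X.hD hp hq fun e => huv ((X.M.pt_comm hu hv).mp e)
      calc a * p * a = q * p * (q * p * q) * (p * q) := by simp only [ha, mul_assoc]
        _ = q * p * (p * q * p) * (p * q) := by rw [b]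
        _ = q := by
          simp only [mul_assoc, mul_mul_cancel_self (mul_self X.hD hp), mul_mul_cancel_self (mul_self X.hD hq),
            mul_self X.hD hq, mul_one]
    calc r * q * r = (a * r * a) * (a * p * a) * (a * r * a) := by rw [har, hpq]
      _ = _ := by simp only [mul_assoc, mul_mul_cancel_self ma]
  have hx := X.phi_mem hu hw huw hy
  have hfix : a * X.phi u w y * a = X.phi u w y := by
    have : Commute (X.phi u w y) a := by
      rw [show a = X.M.pt (tr v u) from X.M.pt_conj hu hv]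
      exact (X.fib_pt hw (tr_iso hF hu hv) hx).mpr (h_comm_zero hF hr)
    rw [this.symm.eq, mul_assoc, ma, mul_one]
  calc X.phi v w (X.phi u v y) = (r * q * r) * (a * y * a) * (r * q * r) := rfl
    _ = a * X.phi u w y * a := by
      rw [show X.phi u w y = (r * p * r) * y * (r * p * r) from rfl, hb]
      simp only [mul_assoc, mul_mul_cancel_self ma]
    _ = _ := hfix

/-- The holonomy of a triangle. -/
noncomputable def eta (u v w : Fin m → F) (y : G) : G := X.phi w u (X.phi v w (X.phi u v y))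

theorem eta_smul {u v w : Fin m → F} (hu : Iso u) (hv : Iso v) (hw : Iso w) {a b e : F} (ha : a ≠ 0) (hb : b ≠ 0)
    (he : e ≠ 0) (y : G) : X.eta (a • u) (b • v) (e • w) y = X.eta u v w y := by
  rw [eta, eta, X.phi_smul hu hv ha hb, X.phi_smul hv hw hb he, X.phi_smul hw hu he ha]

theorem eta_mem {u v w : Fin m → F} (hu : Iso u) (hv : Iso v) (hw : Iso w) (huv : h u v ≠ 0) (hvw : h v w ≠ 0)
    (huw : h u w ≠ 0) {y : G} (hy : y ∈ X.fib u) : X.eta u v w y ∈ X.fib u :=
  X.phi_mem hw hu (fun e => huw (h_comm_zero hF e)) (X.phi_mem hv hw hvw (X.phi_mem hu hv huv hy))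

theorem eta_inj (u v w : Fin m → F) : Function.Injective (X.eta u v w) :=
  (X.phi_inj w u).comp ((X.phi_inj v w).comp (X.phi_inj u v))

theorem eta_inv {u v w : Fin m → F} (hu : Iso u) (hv : Iso v) (hw : Iso w) (huv : h u v ≠ 0) (hvw : h v w ≠ 0)
    (huw : h u w ≠ 0) (y : G) : X.eta u w v (X.eta u v w y) = y := by
  rw [eta, eta, X.phi_symm hw hu (fun e => huw (h_comm_zero hF e)), X.phi_symm hv hw hvw, X.phi_symm hu hv huv]

/-- A triangle which is not real moves every point. -/
theorem eta_ne {u v w : Fin m → F} (hu : Iso u) (hv : Iso v) (hw : Iso w) (huv : h u v ≠ 0) (hvw : h v w ≠ 0)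
    (huw : h u w ≠ 0) (hr : h (tr u w) v ≠ 0) {y : G} (hy : y ∈ X.fib u) : X.eta u v w y ≠ y := by
  intro e
  have hwu : h w u ≠ 0 := fun e => huw (h_comm_zero hF e)
  set t := X.phi u v y with ht
  set x := X.phi v w t with hx
  have htm : t ∈ X.fib v := X.phi_mem hu hv huv hy
  have hxm : x ∈ X.fib w := X.phi_mem hv hw hvw htm
  have e' : X.phi w u x = y := e
  have R1 : y * t * y = X.M.pt v * X.M.pt u * X.M.pt v := X.phi_R hu hv huv hy
  have R2 : t * x * t = X.M.pt w * X.M.pt v * X.M.pt w := X.phi_R hv hw hvw htm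
  have R3 : x * y * x = X.M.pt u * X.M.pt w * X.M.pt u := e' ▸ X.phi_R hw hu hwu hxm
  set a := y * t * y
  set b := t * x * t
  set f := x * y * x
  have hD := X.hD
  have hyD := X.fib_D hu hy
  have htD := X.fib_D hv htm
  have hxD := X.fib_D hw hxm
  have hn : ∀ {p q : G}, p ∈ D → q ∈ D → ∀ {r}, p * q * p = r → ¬ Commute p r → ¬ Commute p q :=
    fun hp hq r e hpr hc => hpr (e ▸ (by
      rw [hc.eq, mul_assoc, mul_self hD hp, mul_one]; exact hc))
  have nyt : ¬ Commute y t := hn hyD htD R1 fun e => by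
    rw [X.M.pt_conj hu hv] at e
    have := (X.fib_pt hu (tr_iso hF hu hv) hy).mp e
    rw [tr, h_add_right hF, h_smul_right hF, hu.2, zero_add, norm_fix hF huv] at this
    exact one_ne_zero this
  have ntx : ¬ Commute t x := hn htD hxD R2 fun e => by
    rw [X.M.pt_conj hv hw] at e
    have := (X.fib_pt hv (tr_iso hF hv hw) htm).mp e
    rw [tr, h_add_right hF, h_smul_right hF, hv.2, zero_add, norm_fix hF hvw] at this
    exact one_ne_zero this
  have nxy : ¬ Commute x y := hn hxD hyD R3 fun e => by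
    rw [X.M.pt_conj hw hu] at e
    have := (X.fib_pt hw (tr_iso hF hw hu) hxm).mp e
    rw [tr, h_add_right hF, h_smul_right hF, hw.2, zero_add, norm_fix hF hwu] at this
    exact one_ne_zero this
  have ntf : ¬ Commute t f := fun e => by
    rw [R3, X.M.pt_conj hw hu] at e
    exact hr (h_comm_zero hF ((X.fib_pt hv (tr_iso hF hw hu) htm).mp e))
  have ct := mul_mul_cancel_self (mul_self hD htD)
  have cy := mul_mul_cancel_self (mul_self hD hyD)
  have hfD : f ∈ D := cj_mem X.pol hyD hxD
  have haba : a * b * a = t * f * t := by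
    have e1 : a = t * y * t := braid hD hyD htD nyt
    calc a * b * a = t * y * t * (t * x * t) * (t * y * t) := by rw [e1]
      _ = t * (y * x * y) * t := by simp only [mul_assoc, ct]
      _ = t * f * t := by rw [← braid hD hxD hyD nxy]
  have key : (a * b * a) * f * (a * b * a) = t := by
    rw [haba]
    have bt := braid hD htD hfD ntf
    have cf := mul_mul_cancel_self (mul_self hD hfD)
    calc t * f * t * f * (t * f * t) = (t * f * t) * f * (t * f * t) := rfl
      _ = (f * t * f) * f * (t * f * t) := by rw [bt]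
      _ = f * t * (t * f * t) := by simp only [mul_assoc, cf]
      _ = t := by simp only [mul_assoc, ct, cf]
  have hca : Commute c a := by rw [R1, X.M.pt_conj hu hv]; exact (X.pt_lk (tr_iso hF hu hv)).2.2
  have hcb : Commute c b := by rw [R2, X.M.pt_conj hv hw]; exact (X.pt_lk (tr_iso hF hv hw)).2.2
  have hcf : Commute c f := by rw [R3, X.M.pt_conj hw hu]; exact (X.pt_lk (tr_iso hF hw hu)).2.2
  have hcaba := (hca.mul_right hcb).mul_right hca
  exact X.fib_c hv htm (key ▸ (hcaba.mul_right hcf).mul_right hcaba).symm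

end Setting

end CfsgThreeTrans.Polar
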