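/-
The orientation of the fibres over a point of the link.
-/
import Cfsg.Agent.Lib.ThreeTrans.Polar.Holonomy

set_option autoImplicit false
set_option linter.unusedSectionVars false

namespace CfsgThreeTrans.Polar

open Cfsg CfsgLib CfsgThreeTrans CfsgLib.UnitaryTransvection CfsgLib.UnitarySimple
open CfsgUniqueTT.Unitary (two_zero add_self vadd_self cube norm_one fixed norm_fix h_zero_right h_zero_left)

universe u v

variable {G : Type u} [Group G] [Finite G] {F : Type v} [Field F] [Fintype F] [DecidableEq F]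
  {hF : Fintype.card F = 2 ^ 2} {D S : Set G} {d c : G} {m : ℕ}

local notation "σ" => frob hF
local notation "h" => Cfsg.hermForm m F 2
local notation "ω" => om hF

/-- A positively oriented triangle. -/
structure Pos (hF : Fintype.card F = 2 ^ 2) (u v w : Fin m → F) : Prop where
  iu : Iso u
  iv : Iso v
  iw : Iso w
  uv : Cfsg.hermForm m F 2 u v = 1
  uw : Cfsg.hermForm m F 2 u w = 1
  vw : Cfsg.hermForm m F 2 v w = om hF

theorem h_swap_eq {a b : Fin m → F} {e : F} (he : h a b = e) : h b a = σ e := by rw [← he, h_swap hF]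

theorem iso_add {a b : Fin m → F} {e : F} (ha : Iso a) (hb : Iso b) (hab : h a b = e) (he : e + σ e = 0)
    {c0 : Fin m → F} (hc : h (a + b) c0 ≠ 0) : Iso (a + b) :=
  ⟨ne_zero_of_h hF hc, by rw [diag_add hF, ha.2, hb.2, hab, he, add_zero, add_zero]⟩

include hF in
theorem Iso.add_one {a b : Fin m → F} (ha : Iso a) (hb : Iso b) (hab : h a b = 1) : Iso (a + b) := by
  refine iso_add (hF := hF) ha hb hab (by rw [map_one, add_self hF]) (c0 := b) ?_
  rw [h_add_left, hab, hb.2, add_zero]
  exact one_ne_zero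

namespace Setting

variable (X : Setting hF D S d c m)

theorem pos_facts {u v w : Fin m → F} (p : Pos hF u v w) :
    h u v ≠ 0 ∧ h v w ≠ 0 ∧ h u w ≠ 0 ∧ h (tr u w) v ≠ 0 := by
  refine ⟨by rw [p.uv]; exact one_ne_zero, by rw [p.vw]; exact om_ne_zero hF, by rw [p.uw]; exact one_ne_zero, ?_⟩
  rw [tr, h_add_left, h_smul_left, p.uv, h_swap_eq (hF := hF) p.uw, map_one, h_swap_eq (hF := hF) p.vw, frob_om,
    mul_one, add_assoc, add_self hF, add_zero]
  exact om_ne_zero hF

theorem pos_cycle {u v w : Fin m → F} (p : Pos hF u v w) {y : G} (hy : y ∈ X.fib u) :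
    X.eta u v w (X.eta u v w y) ≠ y ∧ X.eta u v w (X.eta u v w (X.eta u v w y)) = y ∧
      ∀ z ∈ X.fib u, z = y ∨ z = X.eta u v w y ∨ z = X.eta u v w (X.eta u v w y) := by
  obtain ⟨h1, h2, h3, h4⟩ := pos_facts p
  exact three_cycle (X.fib_card p.iu) (fun t ht => X.eta_mem p.iu p.iv p.iw h1 h2 h3 ht) (X.eta_inj u v w).injOn
    (fun t ht => X.eta_ne p.iu p.iv p.iw h1 h2 h3 h4 ht) hy

theorem flip {u v w z : Fin m → F} (p : Pos hF u v w) (hz : Iso z) (huz : h u z = 1) (hvz : h v z = ω + 1)
    (hwz : h w z = 1 ∨ h w z = ω) :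
    Pos hF u z v ∧ ∀ y ∈ X.fib u, X.eta u z v y = X.eta u v w y := by
  have hzv : h z v = ω := by rw [h_swap_eq (hF := hF) hvz, map_add, frob_om, map_one, add_assoc, add_self hF, add_zero]
  have q : Pos hF u z v := ⟨p.iu, hz, p.iv, huz, p.uv, hzv⟩
  refine ⟨q, ?_⟩
  obtain ⟨h1, h2, h3, -⟩ := pos_facts p
  have n1 : h v z ≠ 0 := by rw [hvz]; exact om_add_one_ne hF
  have n2 : h w z ≠ 0 := by rcases hwz with e | e <;> rw [e] <;> [exact one_ne_zero; exact om_ne_zero hF]
  have n3 : h u z ≠ 0 := by rw [huz]; exact one_ne_zero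
  have hwu : h w u ≠ 0 := fun e => h3 (h_comm_zero hF e)
  suffices ∀ y ∈ X.fib u, X.eta u v z y = X.eta u v w (X.eta u v w y) by
    intro y hy
    have e := this _ (X.eta_mem p.iu p.iv p.iw h1 h2 h3 hy)
    rw [(X.pos_cycle p hy).2.1] at e
    conv_lhs => rw [← e]
    exact X.eta_inv p.iu p.iv hz h1 n1 n3 _
  intro y hy
  have hr4 : h (tr u z) v ≠ 0 := by
    rw [tr, h_add_left, h_smul_left, p.uv, hzv, h_swap_eq (hF := hF) huz, map_one, mul_one]
    exact om_add_one_ne hF
  have hne : X.eta u v z y ≠ X.eta u v w y := by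
    set f := X.eta u v w y with hf
    rcases hwz with e | e
    · have r : ∀ t ∈ X.fib w, X.phi z u (X.phi w z t) = X.phi w u t := fun t ht => by
        refine X.phi_real p.iw hz p.iu n2 (fun e => n3 (h_comm_zero hF e)) hwu ?_ ht
        rw [tr, h_add_left, h_smul_left, e, h_swap_eq (hF := hF) p.uw, h_swap_eq (hF := hF) huz, map_one, one_mul,
          add_self hF]
      intro e'
      have ht := X.phi_mem p.iu p.iv h1 hy
      have hw' := X.phi_mem p.iv p.iw h2 ht
      rw [hf, eta, eta, ← r _ hw'] at e'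
      have e2 := X.phi_inj _ _ e'
      refine X.eta_ne p.iv p.iw hz h2 n2 n1 ?_ ht ?_
      · rw [tr, h_add_left, h_smul_left, h_swap_eq (hF := hF) e, map_one, p.vw, hzv]
        exact fun e0 => om_ne_zero hF (by linear_combination e0 - (1 : F) * two_zero hF - om_sq hF)
      · rw [eta, ← e2, X.phi_symm p.iv hz n1]
    · have r : ∀ t ∈ X.fib v, X.phi w z (X.phi v w t) = X.phi v z t := fun t ht => by
        refine X.phi_real p.iv p.iw hz h2 n2 n1 ?_ ht
        rw [tr, h_add_left, h_smul_left, hvz, p.vw, e]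
        linear_combination (ω + 1) * two_zero hF + om_sq hF
      intro e'
      have ht := X.phi_mem p.iu p.iv h1 hy
      have hfm : f ∈ X.fib u := X.eta_mem p.iu p.iv p.iw h1 h2 h3 hy
      refine X.eta_ne p.iu p.iw hz h3 n2 n3 ?_ hfm ?_
      · rw [tr, h_add_left, h_smul_left, h_swap_eq (hF := hF) e, h_swap_eq (hF := hF) huz, p.uw, map_one, one_mul,
          frob_om, add_assoc, add_self hF, add_zero]
        exact om_ne_zero hF
      · conv_rhs => rw [← e', eta, ← r _ ht]
        rw [eta, hf, eta, X.phi_symm p.iw p.iu hwu]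
  rcases (X.pos_cycle p hy).2.2 _ (X.eta_mem p.iu p.iv hz h1 n1 n3 hy) with e | e | e
  · exact absurd e (X.eta_ne p.iu p.iv hz h1 n1 n3 hr4 hy)
  · exact absurd e hne
  · exact e

/-- A negative third with value `ω` at a positive one. -/
theorem third_neg {u v w : Fin m → F} (p : Pos hF u v w) :
    Iso ((ω + 1) • w + ω • v) ∧ h u ((ω + 1) • w + ω • v) = 1 ∧ h v ((ω + 1) • w + ω • v) = ω + 1 ∧
      h w ((ω + 1) • w + ω • v) = ω := by
  set z := (ω + 1) • w + ω • v with hzdef
  have huz : h u z = 1 := by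
    rw [hzdef, h_add_right hF, h_smul_right hF, h_smul_right hF, p.uw, p.uv, map_add, frob_om, map_one]
    linear_combination (ω + 1) * two_zero hF
  refine ⟨⟨ne_zero_of_h hF (x := z) (y := u) ?_, ?_⟩, huz, ?_, ?_⟩
  · rw [h_swap_eq (hF := hF) huz, map_one]; exact one_ne_zero
  · rw [hzdef, diag_add hF, diag_smul hF (om_add_one_ne hF), diag_smul hF (om_ne_zero hF), p.iw.2, p.iv.2,
      h_smul_left, h_smul_right hF, h_swap_eq (hF := hF) p.vw, map_mul, map_mul, frob_frob hF, map_add, frob_om, map_one]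
    linear_combination (ω * (ω + 1) * (ω + 1)) * two_zero hF + om_sq hF + (ω + 1) * two_zero hF
  · rw [hzdef, h_add_right hF, h_smul_right hF, h_smul_right hF, p.vw, p.iv.2, mul_zero, add_zero, map_add, frob_om,
      map_one]
    linear_combination ω * two_zero hF + om_sq hF
  · rw [hzdef, h_add_right hF, h_smul_right hF, h_smul_right hF, p.iw.2, h_swap_eq (hF := hF) p.vw, mul_zero,
      zero_add, frob_om]
    linear_combination (ω + 1) * two_zero hF + om_sq hF

theorem same {u v w w' : Fin m → F} (p : Pos hF u v w) (p' : Pos hF u v w') :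
    ∀ y ∈ X.fib u, X.eta u v w y = X.eta u v w' y := by
  intro y hy
  obtain ⟨h1, h2, h3, -⟩ := pos_facts p
  obtain ⟨-, h2', h3', -⟩ := pos_facts p'
  have hwu : h w u = 1 := by rw [h_swap_eq (hF := hF) p.uw, map_one]
  by_cases he : h w w' = 1
  · have n : h w w' ≠ 0 := by rw [he]; exact one_ne_zero
    have ht := X.phi_mem p.iu p.iv h1 hy
    have r1 : X.phi w w' (X.phi v w (X.phi u v y)) = X.phi v w' (X.phi u v y) := by
      refine X.phi_real p.iv p.iw p'.iw h2 n h2' ?_ ht
      rw [tr, h_add_left, h_smul_left, p'.vw, p.vw, he, mul_one, add_self hF]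
    have r2 : X.phi w' u (X.phi w w' (X.phi v w (X.phi u v y))) = X.phi w u (X.phi v w (X.phi u v y)) := by
      refine X.phi_real p.iw p'.iw p.iu n (fun e => h3' (h_comm_zero hF e)) (fun e => h3 (h_comm_zero hF e)) ?_
        (X.phi_mem p.iv p.iw h2 ht)
      rw [tr, h_add_left, h_smul_left, he, hwu, h_swap_eq (hF := hF) p'.uw, map_one, one_mul, add_self hF]
    rw [eta, eta, ← r2, r1]
  suffices ∃ z, Iso z ∧ h u z = 1 ∧ h v z = ω + 1 ∧ (h w z = 1 ∨ h w z = ω) ∧ (h w' z = 1 ∨ h w' z = ω) by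
    obtain ⟨z, hz, h5, h6, h7, h8⟩ := this
    rw [← (X.flip p hz h5 h6 h7).2 y hy, (X.flip p' hz h5 h6 h8).2 y hy]
  have z1 : Iso (w + u) := p.iw.add_one (hF := hF) p.iu hwu
  have z1u : h u (w + u) = 1 := by rw [h_add_right hF, p.uw, p.iu.2, add_zero]
  have z1v : h v (w + u) = ω + 1 := by rw [h_add_right hF, p.vw, h_swap_eq (hF := hF) p.uv, map_one]
  have z1w : h w (w + u) = 1 := by rw [h_add_right hF, p.iw.2, hwu, zero_add]
  have z1' : h w' (w + u) = σ (h w w') + 1 := by
    rw [h_add_right hF, h_swap hF w w', h_swap_eq (hF := hF) p'.uw, map_one]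
  rcases four hF (h w w') with e | e | e | e
  · exact ⟨_, z1, z1u, z1v, Or.inl z1w, Or.inl (by rw [z1', e, map_zero, zero_add])⟩
  · exact absurd e he
  · exact ⟨_, z1, z1u, z1v, Or.inl z1w, Or.inr (by rw [z1', e, frob_om, add_assoc, add_self hF, add_zero])⟩
  obtain ⟨hz, huz, hvz, hwz⟩ := third_neg p
  refine ⟨_, hz, huz, hvz, Or.inr hwz, Or.inl ?_⟩
  rw [h_add_right hF, h_smul_right hF, h_smul_right hF, ← h_swap hF w w', e, h_swap_eq (hF := hF) p'.vw,
      map_add, map_one, frob_om]
  linear_combination (4 * ω + 3) * two_zero hF + 2 * om_sq hF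

/-- From the second partner to the third. -/
theorem rot {u x w : Fin m → F} (p : Pos hF u x w) :
    Pos hF u w (x + u) ∧ ∀ y ∈ X.fib u, X.eta u w (x + u) y = X.eta u x w y := by
  have hxu : h x u = 1 := by rw [h_swap_eq (hF := hF) p.uv, map_one]
  have hwu : h w u = 1 := by rw [h_swap_eq (hF := hF) p.uw, map_one]
  have hwx : h w x = ω + 1 := by rw [h_swap_eq (hF := hF) p.vw, frob_om]
  obtain ⟨p1, e1⟩ := X.flip p (z := w + u) (p.iw.add_one (hF := hF) p.iu hwu)
    (by rw [h_add_right hF, p.uw, p.iu.2, add_zero]) (by rw [h_add_right hF, p.vw, hxu])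
    (Or.inl (by rw [h_add_right hF, p.iw.2, hwu, zero_add]))
  obtain ⟨p2, e2⟩ := X.flip p1 (z := x + u) (p.iv.add_one (hF := hF) p.iu hxu)
    (by rw [h_add_right hF, p.uv, p.iu.2, add_zero])
    (by rw [h_add_left, h_add_right hF, h_add_right hF, hwx, hwu, p.uv, p.iu.2]
        linear_combination (1 : F) * two_zero hF)
    (Or.inl (by rw [h_add_right hF, p.iv.2, hxu, zero_add]))
  obtain ⟨p3, e3⟩ := X.flip p2 (z := w) p.iw p.uw (by rw [h_add_left, p.vw, p.uw])
    (Or.inl (by rw [h_add_left, p.iw.2, p.uw, zero_add]))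
  exact ⟨p3, fun y hy => (e3 y hy).trans ((e2 y hy).trans (e1 y hy))⟩

theorem hop {u x w v : Fin m → F} (p : Pos hF u x w) (hv : Iso v) (huv : h u v = 1)
    (hxv : h x v = ω ∨ h x v = ω + 1) :
    ∃ w', Pos hF u v w' ∧ ∀ y ∈ X.fib u, X.eta u v w' y = X.eta u x w y := by
  rcases hxv with e | e
  · have q : Pos hF u x v := ⟨p.iu, p.iv, hv, p.uv, huv, e⟩
    obtain ⟨q', eq'⟩ := X.rot q
    exact ⟨_, q', fun y hy => (eq' y hy).trans (X.same q p y hy)⟩
  · have hvu : h v u = 1 := by rw [h_swap_eq (hF := hF) huv, map_one]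
    have q : Pos hF u x (v + u) := ⟨p.iu, p.iv, hv.add_one (hF := hF) p.iu hvu, p.uv,
      by rw [h_add_right hF, huv, p.iu.2, add_zero],
      by rw [h_add_right hF, e, h_swap_eq (hF := hF) p.uv, map_one, add_assoc, add_self hF, add_zero]⟩
    obtain ⟨q', eq'⟩ := X.flip q hv huv e (Or.inl (by rw [h_add_left, hv.2, huv, zero_add]))
    exact ⟨_, q', fun y hy => (eq' y hy).trans (X.same q p y hy)⟩

/-- The orientation does not depend on the second partner. -/
theorem transfer {u v w v' : Fin m → F} (p : Pos hF u v w) (hv' : Iso v') (huv' : h u v' = 1) :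
    ∃ w', Pos hF u v' w' ∧ ∀ y ∈ X.fib u, X.eta u v' w' y = X.eta u v w y := by
  have hwu : h w u = 1 := by rw [h_swap_eq (hF := hF) p.uw, map_one]
  rcases four hF (h v v') with hb | hb | hb | hb
  case inr.inr.inl => exact X.hop p hv' huv' (Or.inl hb)
  case inr.inr.inr => exact X.hop p hv' huv' (Or.inr hb)
  all_goals
    obtain ⟨q, eq⟩ := X.rot p
    rcases four hF (h w v') with hg | hg | hg | hg
    case inr.inr.inl =>
      obtain ⟨w', q', eq'⟩ := X.hop q hv' huv' (Or.inl hg)
      exact ⟨w', q', fun y hy => (eq' y hy).trans (eq y hy)⟩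
    case inr.inr.inr =>
      obtain ⟨w', q', eq'⟩ := X.hop q hv' huv' (Or.inr hg)
      exact ⟨w', q', fun y hy => (eq' y hy).trans (eq y hy)⟩
    all_goals
      set x := ω • w + ω • u + (ω + 1) • v with hx
      have hux : h u x = 1 := by
        rw [hx, h_add_right hF, h_add_right hF, h_smul_right hF, h_smul_right hF, h_smul_right hF, p.uw, p.iu.2, p.uv,
          map_add, frob_om, map_one]
        linear_combination (ω + 1) * two_zero hF
      have hxx : h x x = 0 := by
        rw [hx]
        simp only [h_add_left, h_add_right hF, h_smul_left, h_smul_right hF, p.iu.2, p.iv.2, p.iw.2, p.uv, p.uw, p.vw,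
          h_swap_eq (hF := hF) p.uv, hwu, h_swap_eq (hF := hF) p.vw, map_add, frob_om, map_one]
        linear_combination (ω * (ω + 1) + ω * (ω + 1) * (ω + 1) + ω * (ω + 1) + (ω + 1) * (ω + 1) * ω) * two_zero hF -
          (5 + 2 * ω) * om_sq hF - (2 + 3 * ω) * two_zero hF
      have q2 : Pos hF u v x := ⟨p.iu, p.iv, ⟨ne_zero_of_h hF (y := u) (by
          rw [h_swap_eq (hF := hF) hux, map_one]; exact one_ne_zero), hxx⟩, p.uv, hux, by
        rw [hx, h_add_right hF, h_add_right hF, h_smul_right hF, h_smul_right hF, h_smul_right hF, p.vw, p.iv.2,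
          h_swap_eq (hF := hF) p.uv, map_one, frob_om, mul_zero, add_zero, mul_one]
        linear_combination (ω + 1) * two_zero hF + om_sq hF⟩
      obtain ⟨q3, eq3⟩ := X.rot q2
      obtain ⟨z1, z2, z3, z4⟩ := third_neg p
      obtain ⟨q4, eq4⟩ := X.flip p z1 z2 z3 (Or.inr z4)
      by_cases hsame : h v v' = h w v'
      · obtain ⟨w', q', eq'⟩ := X.hop q3 hv' huv' (by
          rw [hx, h_add_left, h_add_left, h_smul_left, h_smul_left, h_smul_left, hg, hb, huv']
          first
            | exact Or.inl (by linear_combination (0 : F) * two_zero hF)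
            | exact Or.inr (by linear_combination ω * two_zero hF)
            | exact absurd (hb.symm.trans (hsame.trans hg)) (by simp))
        exact ⟨w', q', fun y hy => (eq' y hy).trans ((eq3 y hy).trans (X.same q2 p y hy))⟩
      · obtain ⟨w', q', eq'⟩ := X.hop q4 hv' huv' (by
          rw [h_add_left, h_smul_left, h_smul_left, hg, hb]
          first
            | exact Or.inr (by linear_combination (0 : F) * two_zero hF)
            | exact Or.inl (by linear_combination (0 : F) * two_zero hF)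
            | exact absurd (hb.trans hg.symm) hsame)
        exact ⟨w', q', fun y hy => (eq' y hy).trans (eq4 y hy)⟩

end Setting

end CfsgThreeTrans.Polar
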