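/-
The vectors of the link label the other points of the lines through the first member.
-/
import Cfsg.Agent.Lib.ThreeTrans.Polar.Orient

set_option autoImplicit false
set_option linter.unusedSectionVars false

namespace CfsgThreeTrans.Polar

open Cfsg CfsgLib CfsgThreeTrans CfsgLib.UnitaryTransvection CfsgLib.UnitarySimple
open CfsgUniqueTT.Unitary (two_zero add_self vadd_self cube norm_one fixed norm_fix h_zero_right h_zero_left)

universe u v

variable {G : Type u} [Group G] [Finite G] {F : Type v} [Field F] [Fintype F] [DecidableEq F]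
  {hF : Fintype.card F = 2 ^ 2} {D S : Set G} {d c : G} {m : ℕ}

local notation "σ" => frob hF
local notation "h" => Cfsg.hermForm m F 2
local notation "ω" => om hF

/-- A labelling of the fibres by the vectors of the link, compatible with the transports. -/
structure Cover (X : Setting hF D S d c m) where
  y : (Fin m → F) → G
  mem : ∀ u, Iso u → y u ∈ X.fib u
  inj : ∀ u (a : F), Iso u → a ≠ 0 → y (a • u) = y u → a = 1
  R : ∀ u v, Iso u → Iso v → Cfsg.hermForm m F 2 u v = 1 → X.phi u v (y u) = y v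

include hF in
theorem sigma_inv {a : F} (ha : a ≠ 0) : σ a = a⁻¹ := eq_inv_of_mul_eq_one_right (norm_one hF ha)

namespace Setting

variable (X : Setting hF D S d c m)

theorem exists_label {u0 : Fin m → F} (hu : Iso u0) : ∃ L : F → G, (∀ a, L a ∈ X.fib u0) ∧
    (∀ a b : F, a ≠ 0 → b ≠ 0 → L a = L b → a = b) ∧
    ∀ (a b : F) (v w : Fin m → F), a ≠ 0 → b ≠ 0 → Pos hF (a • u0) v w →
      X.eta (a • u0) v w (L b) = L (ω * b) := by
  classical
  obtain ⟨y0, y1, y2, h01, h02, h12, hT⟩ : ∃ y0 y1 y2, y0 ≠ y1 ∧ y0 ≠ y2 ∧ y1 ≠ y2 ∧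
      ({y0, y1, y2} : Set G) = X.fib u0 ∧ True := by
    obtain ⟨y0, y1, y2, a, b, e, hh⟩ := Set.ncard_eq_three.mp (X.fib_card hu)
    exact ⟨y0, y1, y2, a, b, e, hh.symm, trivial⟩
  have hmem : ∀ {z}, z = y0 ∨ z = y1 ∨ z = y2 → z ∈ X.fib u0 := fun hz => by rw [← hT.1]; exact hz
  suffices ∃ z0 z1 z2, z0 ≠ z1 ∧ z0 ≠ z2 ∧ z1 ≠ z2 ∧ (z0 ∈ X.fib u0 ∧ z1 ∈ X.fib u0 ∧ z2 ∈ X.fib u0) ∧
      ∀ (a : F) (v w : Fin m → F), a ≠ 0 → Pos hF (a • u0) v w →
        X.eta (a • u0) v w z0 = z1 ∧ X.eta (a • u0) v w z1 = z2 ∧ X.eta (a • u0) v w z2 = z0 by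
    obtain ⟨z0, z1, z2, e01, e02, e12, ⟨m0, m1, m2⟩, hrot⟩ := this
    refine ⟨fun a => if a = 1 then z0 else if a = ω then z1 else z2, fun a => ?_, fun a b ha hb e => ?_,
      fun a b v w ha hb p => ?_⟩
    · simp only
      split_ifs <;> assumption
    · have h1 := om_ne_one hF
      have h2 : ω + 1 ≠ 1 := fun e => om_ne_zero hF (by linear_combination e)
      rcases (four hF a).resolve_left ha with rfl | rfl | rfl <;>
        rcases (four hF b).resolve_left hb with rfl | rfl | rfl <;>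
        simp [h1, h1.symm, h2, h2.symm, e01, e01.symm, e02, e02.symm, e12, e12.symm] at e ⊢
    · obtain ⟨r0, r1, r2⟩ := hrot a v w ha p
      have h1 := om_ne_one hF
      have h2 : ω + 1 ≠ 1 := fun e => om_ne_zero hF (by linear_combination e)
      have h3 : ω * ω = ω + 1 := om_sq hF
      have h4 : ω * (ω + 1) = 1 := by linear_combination om_sq hF + ω * two_zero hF
      rcases (four hF b).resolve_left hb with rfl | rfl | rfl <;> simp [h1, h2, h3, h4, r0, r1, r2]
  by_cases hp : ∃ (a : F) (v w : Fin m → F), a ≠ 0 ∧ Pos hF (a • u0) v w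
  swap
  · refine ⟨y0, y1, y2, h01, h02, h12, ⟨hmem (Or.inl rfl), hmem (Or.inr (Or.inl rfl)), hmem (Or.inr (Or.inr rfl))⟩,
      fun a v w ha p => absurd ⟨a, v, w, ha, p⟩ hp⟩
  obtain ⟨a0, v0, w0, ha0, p0⟩ := hp
  have hy0 : y0 ∈ X.fib (a0 • u0) := by rw [X.fib_smul hu ha0]; exact hmem (Or.inl rfl)
  obtain ⟨c2, c3, -⟩ := X.pos_cycle p0 hy0
  obtain ⟨n1, n2, n3, n4⟩ := pos_facts p0
  have m1 := X.eta_mem p0.iu p0.iv p0.iw n1 n2 n3 hy0
  have m2 := X.eta_mem p0.iu p0.iv p0.iw n1 n2 n3 m1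
  have c1 := X.eta_ne p0.iu p0.iv p0.iw n1 n2 n3 n4 hy0
  have c12 := X.eta_ne p0.iu p0.iv p0.iw n1 n2 n3 n4 m1
  refine ⟨y0, _, _, c1.symm, c2.symm, c12.symm, ?_, fun a v w ha p => ?_⟩
  · rw [← X.fib_smul hu ha0]; exact ⟨hy0, m1, m2⟩
  set k := a0 / a with hk
  have hk0 : k ≠ 0 := div_ne_zero ha0 ha
  have hone : ∀ {z : Fin m → F}, h (a • u0) z = 1 → h (a0 • u0) (k • z) = 1 := fun {z} e => by
    rw [h_smul_left, h_smul_right hF, sigma_inv hk0, hk, inv_div]
    rw [h_smul_left] at e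
    field_simp
    linear_combination e
  have p' : Pos hF (a0 • u0) (k • v) (k • w) :=
    ⟨p0.iu, p.iv.smul hF hk0, p.iw.smul hF hk0, hone p.uv, hone p.uw, by
      rw [h_smul_left, h_smul_right hF, ← mul_assoc, norm_one hF hk0, one_mul, p.vw]⟩
  obtain ⟨w', q, eq⟩ := X.transfer p' p0.iv p0.uv
  have key : ∀ y ∈ X.fib (a0 • u0), X.eta (a • u0) v w y = X.eta (a0 • u0) v0 w0 y := fun y hy => by
    rw [X.same p0 q y hy, eq y hy, X.eta_smul hu p.iv p.iw ha0 hk0 hk0]
    conv_lhs => rw [← one_smul F v, ← one_smul F w]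
    rw [X.eta_smul hu p.iv p.iw ha one_ne_zero one_ne_zero]
  exact ⟨key _ hy0, key _ m1, (key _ m2).trans c3⟩

variable {u0 : Fin m → F} {L : F → G}

/-- The labels at the points not orthogonal to the base point. -/
noncomputable def psi1 (u0 : Fin m → F) (L : F → G) (x : Fin m → F) : G :=
  X.phi u0 x (L (Cfsg.hermForm m F 2 u0 x)⁻¹)

theorem psi1_mem (hu : Iso u0) (hL : ∀ a, L a ∈ X.fib u0) {x : Fin m → F} (hx : Iso x) (h0 : h u0 x ≠ 0) :
    X.psi1 u0 L x ∈ X.fib x := X.phi_mem hu hx h0 (hL _)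

theorem psi1_inj (hu : Iso u0) (hinj : ∀ a b : F, a ≠ 0 → b ≠ 0 → L a = L b → a = b) {x : Fin m → F}
    (hx : Iso x) (h0 : h u0 x ≠ 0) {a : F} (ha : a ≠ 0) (e : X.psi1 u0 L (a • x) = X.psi1 u0 L x) : a = 1 := by
  rw [psi1, psi1, h_smul_right hF] at e
  rw [← one_smul F u0, X.phi_smul hu hx one_ne_zero ha, one_smul] at e
  have := inv_injective (hinj _ _ (inv_ne_zero (mul_ne_zero ((map_ne_zero _).mpr ha) h0)) (inv_ne_zero h0)
    (X.phi_inj _ _ e))
  have h1 : σ a = 1 := mul_right_cancel₀ h0 (this.trans (one_mul _).symm)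
  exact (frob hF).injective (h1.trans (map_one _).symm)

variable (hu : Iso u0) (hL : ∀ a, L a ∈ X.fib u0)
  (hrot : ∀ (a b : F) (v w : Fin m → F), a ≠ 0 → b ≠ 0 → Pos hF (a • u0) v w →
    X.eta (a • u0) v w (L b) = L (om hF * b))
include hu hL hrot

theorem R1 {x x' : Fin m → F} (hx : Iso x) (hx' : Iso x') (h0 : h u0 x ≠ 0) (h0' : h u0 x' ≠ 0)
    (e : h x x' = 1) : X.phi x x' (X.psi1 u0 L x) = X.psi1 u0 L x' := by
  have n : h x x' ≠ 0 := by rw [e]; exact one_ne_zero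
  set a := (h u0 x)⁻¹ with ha'
  set a' := (h u0 x')⁻¹ with ha''
  have ha : a ≠ 0 := inv_ne_zero h0
  have hax : h (a • u0) x = 1 := by rw [h_smul_left, ha', inv_mul_cancel₀ h0]
  have hua : Iso (a • u0) := hu.smul hF ha
  set r := h (a • u0) x' with hr
  have hr0 : r ≠ 0 := by rw [hr, h_smul_left]; exact mul_ne_zero ha h0'
  have har : a = r * a' := by rw [hr, h_smul_left, ha'', mul_assoc, mul_inv_cancel₀ h0', mul_one]
  have nax : h (a • u0) x ≠ 0 := by rw [hax]; exact one_ne_zero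
  have hy : L a ∈ X.fib (a • u0) := by rw [X.fib_smul hu ha]; exact hL a
  have hp1 : ∀ (z : Fin m → F) (t : G), Iso z → X.phi u0 z t = X.phi (a • u0) z t := fun z t hz => by
    conv_rhs => rw [← one_smul F z]
    rw [X.phi_smul hu hz ha one_ne_zero]
  rw [psi1, psi1, ← ha', ← ha'', hp1 x _ hx, hp1 x' _ hx']
  by_cases hr1 : r = 1
  · rw [X.phi_real hua hx hx' nax n hr0 (by
      rw [tr, hax, one_smul, h_add_left, e, ← hr, hr1, add_self hF]) hy, har, hr1, one_mul]
  have hrx : h (a • u0) (r • x') = 1 := by rw [h_smul_right hF, ← hr, norm_fix hF hr0]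
  have hxr : h x (r • x') = σ r := by rw [h_smul_right hF, e, mul_one]
  have hx'r : Iso (r • x') := hx'.smul hF hr0
  have goal' : X.eta (a • u0) x (r • x') (L a) = L a' → X.phi x x' (X.phi (a • u0) x (L a)) = X.phi (a • u0) x' (L a') := by
    intro h1
    have e1 : ∀ t, X.phi (a • u0) x' t = X.phi (a • u0) (r • x') t := fun t => by
      rw [← X.phi_smul hua hx' one_ne_zero hr0, one_smul]
    have e2 : ∀ t, X.phi x (r • x') t = X.phi x x' t := fun t => by
      rw [← X.phi_smul hx hx' one_ne_zero hr0, one_smul]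
    rw [← h1, eta, e1, X.phi_symm hx'r hua (fun h1 => one_ne_zero (α := F) (by
      rw [← hrx, h_comm_zero hF h1])), e2]
  apply goal'
  have ha'0 : a' ≠ 0 := inv_ne_zero h0'
  rcases (four hF r).resolve_left hr0 with h1 | h1 | h1
  · exact absurd h1 hr1
  · have q : Pos hF (a • u0) (r • x') x := ⟨hua, hx'r, hx, hrx, hax, by
      rw [h_swap_eq (hF := hF) hxr, frob_frob hF, h1]⟩
    have key : X.eta (a • u0) (r • x') x (L a') = L a := by rw [hrot a a' _ _ ha ha'0 q, har, h1]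
    rw [← key]
    obtain ⟨n1, n2, n3, -⟩ := pos_facts q
    exact X.eta_inv hua hx'r hx n1 n2 n3 _
  · have q : Pos hF (a • u0) x (r • x') := ⟨hua, hx, hx'r, hax, hrx, by
      rw [hxr, h1, map_add, frob_om, map_one, add_assoc, add_self hF, add_zero]⟩
    rw [hrot a a _ _ ha ha q]
    congr 1
    rw [har, h1]
    linear_combination a' * (om_sq hF + ω * two_zero hF)

theorem rule {x v w : Fin m → F} (p : Pos hF x v w) (h0 : h u0 x ≠ 0) :
    X.eta x v w (X.psi1 u0 L x) = X.psi1 u0 L (ω • x) := by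
  set b := (h u0 x)⁻¹ with hb'
  have hb : b ≠ 0 := inv_ne_zero h0
  have hbx : h (b • u0) x = 1 := by rw [h_smul_left, hb', inv_mul_cancel₀ h0]
  have hub : Iso (b • u0) := hu.smul hF hb
  have hxb : h x (b • u0) = 1 := by rw [h_swap_eq (hF := hF) hbx, map_one]
  obtain ⟨w1, q, eq⟩ := X.transfer p hub hxb
  rw [← eq _ (X.psi1_mem hu hL p.iu h0), eta]
  have e1 : X.phi x (b • u0) (X.psi1 u0 L x) = L b := by
    rw [psi1, ← hb']
    conv_lhs => rw [← one_smul F x]
    rw [X.phi_smul p.iu hu one_ne_zero hb, one_smul, X.phi_symm hu p.iu h0]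
  rw [e1]
  have hbw : h (b • u0) w1 = ω := q.vw
  rw [h_smul_left] at hbw
  have hw0 : h u0 w1 ≠ 0 := fun e => om_ne_zero hF (by rw [← hbw, e, mul_zero])
  have hω := om_ne_zero hF
  have hw1 : Iso (ω • w1) := q.iw.smul hF hω
  have e2 : X.phi (b • u0) w1 (L b) = X.psi1 u0 L (ω • w1) := by
    have hh : (h u0 (ω • w1))⁻¹ = b := by
      rw [h_smul_right hF, inv_eq_iff_eq_inv]
      refine eq_inv_of_mul_eq_one_right ?_
      linear_combination σ ω * hbw + CfsgUniqueTT.Unitary.norm_one hF hω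
    rw [psi1, hh]
    conv_lhs => rw [← one_smul F w1]
    conv_rhs => rw [← one_smul F u0]
    rw [X.phi_smul hu q.iw hb one_ne_zero, X.phi_smul hu q.iw one_ne_zero hω]
  rw [e2]
  have hu0w : h u0 (ω • w1) ≠ 0 := by rw [h_smul_right hF]; exact mul_ne_zero ((map_ne_zero _).mpr hω) hw0
  have hu0x : h u0 (ω • x) ≠ 0 := by rw [h_smul_right hF]; exact mul_ne_zero ((map_ne_zero _).mpr hω) h0
  have hwx : h (ω • w1) (ω • x) = 1 := by
    rw [h_smul_left, h_smul_right hF, ← mul_assoc, norm_one hF hω, one_mul, h_swap_eq (hF := hF) q.uw, map_one]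
  rw [← X.R1 hu hL hrot hw1 (p.iu.smul hF hω) hu0w hu0x hwx, X.phi_smul q.iw p.iu hω hω]

theorem loop {x v v' : Fin m → F} (hx : Iso x) (hv : Iso v) (hv' : Iso v') (h0 : h u0 x ≠ 0)
    (hxv : h x v = 1) (hvv : h v v' = 1) (hxv' : h x v' ≠ 0) :
    X.phi v v' (X.phi x v (X.psi1 u0 L x)) = X.phi x v' (X.psi1 u0 L ((h x v')⁻¹ • x)) := by
  set r := h x v' with hr
  have n1 : h x v ≠ 0 := by rw [hxv]; exact one_ne_zero
  have n2 : h v v' ≠ 0 := by rw [hvv]; exact one_ne_zero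
  have hy := X.psi1_mem hu hL hx h0
  by_cases hr1 : r = 1
  · rw [X.phi_real hx hv hv' n1 n2 hxv' (by
      rw [tr, h_add_left, h_smul_left, hxv, hvv, ← hr, hr1, mul_one, add_self hF]) hy, hr1, inv_one, one_smul]
  have hxw : h x (r • v') = 1 := by rw [h_smul_right hF, ← hr, norm_fix hF hxv']
  have hvw : h v (r • v') = σ r := by rw [h_smul_right hF, hvv, mul_one]
  have hw : Iso (r • v') := hv'.smul hF hxv'
  have hv'x : h v' x ≠ 0 := fun e => hxv' (h_comm_zero hF e)
  suffices X.eta x v (r • v') (X.psi1 u0 L x) = X.psi1 u0 L (r⁻¹ • x) by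
    rw [← this, ← one_smul F x, ← one_smul F v, X.eta_smul hx hv hv' one_ne_zero one_ne_zero hxv']
    simp only [one_smul]
    rw [eta, X.phi_symm hv' hx hv'x]
  have hinv : r⁻¹ = σ r := (sigma_inv hxv').symm
  rcases (four hF r).resolve_left hxv' with h1 | h1 | h1
  · exact absurd h1 hr1
  · -- the triangle is negative
    have hω := om_add_one_ne hF
    set k := ω + 1 with hk
    have hkr : r⁻¹ = k := by rw [hinv, h1, frob_om]
    rw [hkr]
    have q : Pos hF x (r • v') v := ⟨hx, hw, hv, hxw, hxv, by rw [h_swap_eq (hF := hF) hvw, frob_frob hF, h1]⟩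
    have q' : Pos hF (k • x) (k • (r • v')) (k • v) := by
      have inv : ∀ a b : Fin m → F, h (k • a) (k • b) = h a b := fun a b => by
        rw [h_smul_left, h_smul_right hF, ← mul_assoc, norm_one hF hω, one_mul]
      exact ⟨hx.smul hF hω, hw.smul hF hω, hv.smul hF hω, by rw [inv]; exact q.uv, by rw [inv]; exact q.uw,
        by rw [inv]; exact q.vw⟩
    have h0' : h u0 (k • x) ≠ 0 := by rw [h_smul_right hF]; exact mul_ne_zero ((map_ne_zero _).mpr hω) h0
    have e := X.rule hu hL hrot q' h0'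
    rw [X.eta_smul hx hw hv hω hω hω, smul_smul,
      show ω * k = 1 by rw [hk]; linear_combination om_sq hF + ω * two_zero hF, one_smul] at e
    rw [← e]
    obtain ⟨a1, a2, a3, -⟩ := pos_facts q
    exact X.eta_inv hx hw hv a1 a2 a3 _
  · have hkr : r⁻¹ = ω := by rw [hinv, h1, map_add, frob_om, map_one, add_assoc, add_self hF, add_zero]
    rw [hkr]
    exact X.rule hu hL hrot ⟨hx, hv, hw, hxv, hxw, by
      rw [hvw, h1, map_add, frob_om, map_one, add_assoc, add_self hF, add_zero]⟩ h0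

theorem indep {x x' v : Fin m → F} (hx : Iso x) (hx' : Iso x') (hv : Iso v) (h0 : h u0 x ≠ 0) (h0' : h u0 x' ≠ 0)
    (hxv : h x v = 1) (hxv' : h x' v = 1) : X.phi x v (X.psi1 u0 L x) = X.phi x' v (X.psi1 u0 L x') := by
  by_cases hv0 : h u0 v ≠ 0
  · rw [X.R1 hu hL hrot hx hv h0 hv0 hxv, X.R1 hu hL hrot hx' hv h0' hv0 hxv']
  push Not at hv0
  have near : ∀ {x x' : Fin m → F}, Iso x → Iso x' → h u0 x ≠ 0 → h u0 x' ≠ 0 → h x v = 1 → h x' v = 1 →
      h x x' ≠ 0 → X.phi x v (X.psi1 u0 L x) = X.phi x' v (X.psi1 u0 L x') := by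
    intro x x' hx hx' h0 h0' hxv hxv' e0
    -- rescale so that the intermediate steps are normalised
    set e := h x x' with he
    have hse : σ e ≠ 0 := (map_ne_zero _).mpr e0
    set a := σ e with ha
    have hsa : σ a = e := by rw [ha, frob_frob hF]
    have hae : a * e = 1 := norm_fix hF e0
    have hX : Iso (a • x) := hx.smul hF hse
    have hV : Iso (a • v) := hv.smul hF hse
    have hu0X : h u0 (a • x) ≠ 0 := by rw [h_smul_right hF]; exact mul_ne_zero ((map_ne_zero _).mpr hse) h0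
    have hXX : h (a • x) x' = 1 := by rw [h_smul_left, ← he, hae]
    have hXv : h (a • x) v = a := by rw [h_smul_left, hxv, mul_one]
    have hl := X.loop hu hL hrot hX hx' hv hu0X hXX hxv' (by rw [hXv]; exact hse)
    rw [X.R1 hu hL hrot hX hx' hu0X h0' hXX, hXv, smul_smul, inv_mul_cancel₀ hse, one_smul] at hl
    rw [hl, ← one_smul F v, X.phi_smul hx hv hse one_ne_zero, one_smul]
  by_cases e : h x x' = 0
  swap
  · exact near hx hx' h0 h0' hxv hxv' e
  have hz : Iso (tr x u0) := tr_iso hF hu hx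
  have g0 : h u0 (tr x u0) ≠ 0 := by
    rw [tr, h_add_right hF, h_smul_right hF, hu.2, zero_add, norm_fix hF h0]; exact one_ne_zero
  have gx : h x (tr x u0) ≠ 0 := by
    rw [tr, h_add_right hF, hv0 |> fun _ => h_smul_right hF _ x x, hx.2, mul_zero, add_zero]
    exact fun e => h0 (h_comm_zero hF e)
  have gx' : h x' (tr x u0) ≠ 0 := by
    rw [tr, h_add_right hF, h_smul_right hF, h_comm_zero hF e, mul_zero, add_zero]
    exact fun e => h0' (h_comm_zero hF e)
  have gv : h (tr x u0) v ≠ 0 := by rw [tr, h_add_left, h_smul_left, hv0, hxv, zero_add, mul_one]; exact h0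
  set a := (h (tr x u0) v)⁻¹ with ha'
  have ha : a ≠ 0 := inv_ne_zero gv
  have hzv : h (a • tr x u0) v = 1 := by rw [h_smul_left, ha', inv_mul_cancel₀ gv]
  have hz0 : h u0 (a • tr x u0) ≠ 0 := by rw [h_smul_right hF]; exact mul_ne_zero ((map_ne_zero _).mpr ha) g0
  rw [near hx (hz.smul hF ha) h0 hz0 hxv hzv (by rw [h_smul_right hF]; exact mul_ne_zero ((map_ne_zero _).mpr ha) gx),
    near hx' (hz.smul hF ha) h0' hz0 hxv' hzv (by rw [h_smul_right hF]; exact mul_ne_zero ((map_ne_zero _).mpr ha) gx')]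

end Setting

/-- The fibres can be labelled by the vectors of the link. -/
theorem exists_cover (X : Setting hF D S d c m) : Nonempty (Cover X) := by
  classical
  obtain ⟨u0, hu0, hu⟩ := exists_isotropic (F := F) hF X.M.two
  have hu : Iso u0 := ⟨hu0, hu⟩
  obtain ⟨L, hL, hinj, hrot⟩ := X.exists_label hu
  have hlk := X.sub.lk_sub X.pol X.dS X.cS X.dc
  have hex : ∀ v : Fin m → F, Iso v → ∃ x, Iso x ∧ h u0 x ≠ 0 ∧ h x v = 1 := by
    intro v hv
    obtain ⟨z, hz, hzu, hzv⟩ : ∃ z : Fin m → F, Iso z ∧ h u0 z ≠ 0 ∧ h z v ≠ 0 := by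
      by_cases e : h u0 v = 0
      · obtain ⟨a, ha, h1, h2⟩ := hlk.exists_both X.pol (X.M.pt_mem hu) (X.M.pt_mem hv) ((X.M.pt_comm hu hv).mpr e)
        obtain ⟨z, hz, rfl⟩ := X.M.pt_surj ha
        exact ⟨z, hz, fun e => h1 ((X.M.pt_comm hu hz).mpr e).symm, fun e => h2 ((X.M.pt_comm hz hv).mpr e)⟩
      · obtain ⟨t, ht⟩ : ∃ t : Fin m → F, t = u0 + h u0 v • v := ⟨_, rfl⟩
        refine ⟨t, ht ▸ tr_iso hF hu hv, ?_, ?_⟩
        · rw [ht, h_add_right hF, h_smul_right hF, hu.2, zero_add, norm_fix hF e]; exact one_ne_zero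
        · rw [ht, h_add_left, h_smul_left, hv.2, mul_zero, add_zero]; exact e
    refine ⟨(h z v)⁻¹ • z, hz.smul hF (inv_ne_zero hzv), ?_, by rw [h_smul_left, inv_mul_cancel₀ hzv]⟩
    rw [h_smul_right hF]; exact mul_ne_zero ((map_ne_zero _).mpr (inv_ne_zero hzv)) hzu
  choose! sel hsel using hex
  set y : (Fin m → F) → G := fun v => X.phi (sel v) v (X.psi1 u0 L (sel v)) with hy
  have yeq : ∀ {x v : Fin m → F}, Iso x → Iso v → h u0 x ≠ 0 → h x v = 1 → y v = X.phi x v (X.psi1 u0 L x) :=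
    fun hx hv h0 hxv => X.indep hu hL hrot (hsel _ hv).1 hx hv (hsel _ hv).2.1 h0 (hsel _ hv).2.2 hxv
  have ymem : ∀ v, Iso v → y v ∈ X.fib v := fun v hv =>
    X.phi_mem (hsel v hv).1 hv (by rw [(hsel v hv).2.2]; exact one_ne_zero)
      (X.psi1_mem hu hL (hsel v hv).1 (hsel v hv).2.1)
  refine ⟨⟨y, ymem, fun v a hv ha e => ?_, fun v v' hv hv' hvv => ?_⟩⟩
  · obtain ⟨hx, hx0, hxv⟩ := hsel v hv
    have hax : h u0 (a • sel v) ≠ 0 := by rw [h_smul_right hF]; exact mul_ne_zero ((map_ne_zero _).mpr ha) hx0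
    rw [yeq (hx.smul hF ha) (hv.smul hF ha) hax (by
        rw [h_smul_left, h_smul_right hF, ← mul_assoc, norm_one hF ha, one_mul, hxv]),
      yeq hx hv hx0 hxv, X.phi_smul hx hv ha ha] at e
    exact X.psi1_inj hu hinj hx hx0 ha (X.phi_inj _ _ e)
  by_cases e : h u0 v ≠ 0
  · rw [yeq hv hv' e hvv]
    obtain ⟨hx, hx0, hxv⟩ := hsel v hv
    rw [yeq hx hv hx0 hxv, X.R1 hu hL hrot hx hv hx0 e hxv]
  push Not at e
  by_cases e' : h u0 v' ≠ 0
  · have hvv' : h v' v = 1 := by rw [h_swap_eq (hF := hF) hvv, map_one]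
    obtain ⟨hx, hx0, hxv⟩ := hsel v' hv'
    rw [yeq hx hv' hx0 hxv, X.R1 hu hL hrot hx hv' hx0 e' hxv, yeq hv' hv e' hvv']
    exact X.phi_symm hv' hv (by rw [hvv']; exact one_ne_zero) _
  push Not at e'
  obtain ⟨x, hx, hx0, hxv, hxv'⟩ : ∃ x, Iso x ∧ h u0 x ≠ 0 ∧ h x v = 1 ∧ h x v' ≠ 0 := by
    obtain ⟨hx, hx0, hxv⟩ := hsel v hv
    by_cases e1 : h (sel v) v' = 0
    swap
    · exact ⟨_, hx, hx0, hxv, e1⟩
    have hvx : h v (sel v) = 1 := by rw [h_swap_eq (hF := hF) hxv, map_one]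
    refine ⟨v + sel v, hv.add_one (hF := hF) hx hvx, ?_, ?_, ?_⟩
    · rw [h_add_right hF, e, zero_add]; exact hx0
    · rw [h_add_left, hv.2, hxv, zero_add]
    · rw [h_add_left, hvv, e1, add_zero]; exact one_ne_zero
  rw [yeq hx hv hx0 hxv, X.loop hu hL hrot hx hv hv' hx0 hxv hvv hxv']
  have ha : (h x v')⁻¹ ≠ 0 := inv_ne_zero hxv'
  have hax : h u0 ((h x v')⁻¹ • x) ≠ 0 := by rw [h_smul_right hF]; exact mul_ne_zero ((map_ne_zero _).mpr ha) hx0
  rw [yeq (hx.smul hF ha) hv' hax (by rw [h_smul_left, inv_mul_cancel₀ hxv'])]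
  have e3 := X.phi_smul hx hv' ha one_ne_zero (X.psi1 u0 L ((h x v')⁻¹ • x))
  rw [one_smul] at e3
  rw [e3]

namespace Cover

variable {X : Setting hF D S d c m} (C : Cover X)

theorem surj {u : Fin m → F} (hu : Iso u) {z : G} (hz : z ∈ X.fib u) : ∃ a : F, a ≠ 0 ∧ C.y (a • u) = z := by
  have hω := om_ne_zero hF
  have hω1 := om_add_one_ne hF
  have mem : ∀ {a : F}, a ≠ 0 → C.y (a • u) ∈ X.fib u := fun ha => by
    rw [← X.fib_smul hu ha]; exact C.mem _ (hu.smul hF ha)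
  have ne : ∀ {a b : F}, a ≠ 0 → b ≠ 0 → a ≠ b → C.y (a • u) ≠ C.y (b • u) := fun {a b} ha hb hab e => hab (by
    have h1 := C.inj (b • u) (a / b) (hu.smul hF hb) (div_ne_zero ha hb) (by rwa [smul_smul, div_mul_cancel₀ a hb])
    exact (div_eq_one_iff_eq hb).mp h1)
  have heq : ({C.y ((1 : F) • u), C.y (ω • u), C.y ((ω + 1) • u)} : Set G) = X.fib u := by
    refine Set.eq_of_subset_of_ncard_le ?_ ?_ (Set.toFinite _)
    · simp only [Set.insert_subset_iff, Set.singleton_subset_iff]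
      exact ⟨mem one_ne_zero, mem hω, mem hω1⟩
    · have n1 := ne one_ne_zero hω (om_ne_one hF).symm
      have n2 := ne one_ne_zero hω1 (fun e => hω (by linear_combination -e))
      have n3 := ne hω hω1 (fun e => one_ne_zero (α := F) (by linear_combination -e))
      rw [X.fib_card hu, Set.ncard_insert_of_notMem (by simp only [Set.mem_insert_iff, Set.mem_singleton_iff, not_or]
                                                        exact ⟨n1, n2⟩), Set.ncard_pair n3]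
  rw [← heq] at hz
  rcases hz with e | e | e
  exacts [⟨1, one_ne_zero, e.symm⟩, ⟨ω, hω, e.symm⟩, ⟨ω + 1, hω1, e.symm⟩]

/-- The labelling commutes with the conjugations by the link. -/
theorem act {u w : Fin m → F} (hu : Iso u) (hw : Iso w) :
    X.M.pt w * C.y u * X.M.pt w = C.y (tr w u) := by
  by_cases e : h u w = 0
  · have : Commute (C.y u) (X.M.pt w) := (X.fib_pt hu hw (C.mem u hu)).mpr e
    rw [this.symm.eq, mul_assoc, mul_self X.hD (X.pt_ds hw).1, mul_one, tr, e, zero_smul, add_zero]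
  · have huv : h u (tr w u) = 1 := by
      rw [tr, h_add_right hF, h_smul_right hF, hu.2, zero_add, norm_fix hF e]
    have hv := tr_iso hF hu hw
    rw [← C.R u (tr w u) hu hv huv, Setting.phi, X.M.pt_conj hu hv]
    have e2 : tr (tr w u) u = h u w • w := by
      funext i
      simp only [tr, huv, Pi.add_apply, Pi.smul_apply, smul_eq_mul]
      rw [show h u (u + h u w • w) = 1 from huv]
      linear_combination u i * two_zero hF
    rw [e2, X.M.pt_smul hw e]

end Cover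

end CfsgThreeTrans.Polar
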