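/-
Coordinates of the members commuting with the first one and their rows on the other members.
-/
import Cfsg.Agent.Lib.ThreeTrans.Polar.Cover

set_option autoImplicit false
set_option linter.unusedSectionVars false

namespace CfsgThreeTrans.Polar

open Cfsg CfsgLib CfsgThreeTrans CfsgLib.UnitaryTransvection CfsgLib.UnitarySimple
open CfsgUniqueTT.Unitary (two_zero add_self vadd_self cube norm_one fixed norm_fix h_zero_right h_zero_left)

universe u v

variable {G : Type u} [Group G] [Finite G] {F : Type v} [Field F] [Fintype F] [DecidableEq F]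
  {hF : Fintype.card F = 2 ^ 2} {D S : Set G} {d c : G} {m : ℕ}

local notation "σ" => frob hF
local notation "h" => Cfsg.hermForm m F 2
local notation "ω" => om hF

theorem lk_swap (S : Set G) (d c : G) : lk S c d = lk S d c :=
  Set.ext fun _ => ⟨fun e => ⟨e.1, e.2.2, e.2.1⟩, fun e => ⟨e.1, e.2.2, e.2.1⟩⟩

/-- The same coordinates for the link with the two members exchanged. -/
def Model.congrSet {T T' : Set G} (M : Model hF T m) (e : T = T') : Model hF T' m where
  vec := M.vec
  two := M.two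
  iso a ha := M.iso a (e ▸ ha)
  surj u hu := e ▸ M.surj u hu
  inj a ha b hb := M.inj a (e ▸ ha) b (e ▸ hb)
  comm a ha b hb := M.comm a (e ▸ ha) b (e ▸ hb)
  conj a ha b hb := M.conj a (e ▸ ha) b (e ▸ hb)
  closed := e ▸ M.closed
  far := e ▸ M.far

theorem Model.congrSet_pt {T T' : Set G} (M : Model hF T m) (e : T = T') {u : Fin m → F} (hu : Iso u) :
    (M.congrSet e).pt u = M.pt u := by
  obtain ⟨hm, k, hk, ek⟩ := M.pt_spec hu
  exact (M.congrSet e).pt_eq hu (e ▸ hm) hk ek

namespace Setting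

/-- The two members exchanged. -/
def swap (X : Setting hF D S d c m) : Setting hF D S c d m where
  pol := X.pol
  five := X.five
  sub := X.sub
  dS := X.cS
  cS := X.dS
  dc := fun e => X.dc e.symm
  M := X.M.congrSet (lk_swap S d c).symm

theorem swap_pt (X : Setting hF D S d c m) {u : Fin m → F} (hu : Iso u) : X.swap.M.pt u = X.M.pt u :=
  X.M.congrSet_pt (lk_swap S d c).symm hu

end Setting

namespace Cover

variable {X : Setting hF D S d c m} (C : Cover X)

open Classical in
/-- The member with coordinates `(μ, u, 0)`. -/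
noncomputable def near (u : Fin m → F) (μ : F) : G := if μ = 0 then X.M.pt u else C.y (μ⁻¹ • u)

theorem near_zero (u : Fin m → F) : C.near u 0 = X.M.pt u := if_pos rfl

theorem near_one (u : Fin m → F) : C.near u 1 = C.y u := by
  rw [near, if_neg one_ne_zero, inv_one, one_smul]

theorem near_fib {u : Fin m → F} (hu : Iso u) {μ : F} (hμ : μ ≠ 0) : C.near u μ ∈ X.fib u := by
  rw [near, if_neg hμ, ← X.fib_smul hu (inv_ne_zero hμ)]
  exact C.mem _ (hu.smul hF (inv_ne_zero hμ))

theorem near_smul {u : Fin m → F} (hu : Iso u) {a : F} (ha : a ≠ 0) (μ : F) :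
    C.near (a • u) (a * μ) = C.near u μ := by
  by_cases hμ : μ = 0
  · rw [hμ, mul_zero, near_zero, near_zero, X.M.pt_smul hu ha]
  · rw [near, near, if_neg (mul_ne_zero ha hμ), if_neg hμ, smul_smul, mul_inv, mul_right_comm, inv_mul_cancel₀ ha,
      one_mul]

theorem near_line {u : Fin m → F} (hu : Iso u) (μ : F) :
    C.near u μ ∈ line D d (X.M.pt u) ∧ C.near u μ ∈ S ∧ C.near u μ ∈ Ds D d := by
  by_cases hμ : μ = 0
  · rw [hμ, near_zero]; exact ⟨right_mem (X.pt_ds hu).1, (X.pt_lk hu).1, X.pt_ds hu⟩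
  · have e := C.near_fib hu hμ
    exact ⟨e.1, X.fib_S hu e, (X.fib_line hu e).1⟩

theorem near_surj {t : G} (ht : t ∈ S) (htd : t ∈ Ds D d) : ∃ (u : Fin m → F) (μ : F), Iso u ∧ C.near u μ = t := by
  obtain ⟨p, hp, hpl⟩ := Sub.exists_lk X.pol X.sub X.dS X.cS X.dc ht htd
  obtain ⟨u, hu, rfl⟩ := X.M.pt_surj hp
  by_cases e : t = X.M.pt u
  · exact ⟨u, 0, hu, by rw [near_zero, e]⟩
  have hl := line_eq X.pol X.dD htd (left_mem X.dD) hpl (X.pt_ds hu).2.1.symm
  obtain ⟨a, ha, rfl⟩ := C.surj hu (z := t) ⟨hl ▸ right_mem htd.1, htd.2.1, e⟩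
  exact ⟨u, a⁻¹, hu, by rw [near, if_neg (inv_ne_zero ha), inv_inv]⟩

theorem near_inj {u : Fin m → F} (hu : Iso u) {μ ν : F} (e : C.near u μ = C.near u ν) : μ = ν := by
  by_cases hμ : μ = 0
  · by_cases hν : ν = 0
    · rw [hμ, hν]
    · rw [hμ, near_zero] at e
      exact absurd e.symm (C.near_fib hu hν).2.2
  · by_cases hν : ν = 0
    · rw [hν, near_zero] at e
      exact absurd e (C.near_fib hu hμ).2.2
    · rw [near, near, if_neg hμ, if_neg hν] at e
      have := C.inj (ν⁻¹ • u) (ν / μ) (hu.smul hF (inv_ne_zero hν)) (div_ne_zero hν hμ) (by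
        rw [smul_smul, div_mul_eq_mul_div, mul_inv_cancel₀ hν, one_div]; exact e)
      exact ((div_eq_one_iff_eq hμ).mp this).symm

theorem near_pt {u v : Fin m → F} (hu : Iso u) (hv : Iso v) (μ : F) :
    Commute (C.near u μ) (X.M.pt v) ↔ h u v = 0 := by
  by_cases hμ : μ = 0
  · rw [hμ, near_zero]; exact X.M.pt_comm hu hv
  · exact X.fib_pt hu hv (C.near_fib hu hμ)

theorem near_comm {u v : Fin m → F} (hu : Iso u) (hv : Iso v) (μ ν : F) :
    Commute (C.near u μ) (C.near v ν) ↔ h u v = 0 := by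
  obtain ⟨hl, -, hnd⟩ := C.near_line hv ν
  obtain ⟨-, -, hud⟩ := C.near_line hu μ
  rw [← C.near_pt hu hv μ]
  exact ⟨fun e => commute_line X.pol X.dD (X.pt_ds hv) (left_mem X.dD) hl hnd.2.1.symm (right_mem (X.pt_ds hv).1)
    hud.1 hud.2.2.symm e, fun e => hl.2 _ hud.1 hud.2.2.symm e⟩

theorem near_c {u : Fin m → F} (hu : Iso u) (μ : F) : Commute (C.near u μ) c ↔ μ = 0 := by
  constructor
  · intro e
    by_contra hμ
    exact X.fib_c hu (C.near_fib hu hμ) e
  · rintro rfl
    rw [near_zero]; exact (X.pt_lk hu).2.2.symm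

/-- The part of the conjugation law along a line. -/
theorem conj_pt {u v : Fin m → F} (hu : Iso u) (hv : Iso v) (huv : h u v ≠ 0) :
    C.y v * X.M.pt u * C.y v = C.near (tr v u) (h u v) := by
  have hn : ¬ Commute (C.y v) (X.M.pt u) := fun e => huv (h_comm_zero hF ((X.fib_pt hv hu (C.mem v hv)).mp e))
  rw [braid X.hD (X.fib_D hv (C.mem v hv)) (X.pt_ds hu).1 hn, C.act hv hu, ← C.near_one,
    ← C.near_smul (tr_iso hF hv hu) huv 1, mul_one]
  congr 1
  simp only [tr, smul_add, smul_smul]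
  rw [← h_swap hF u v, norm_one hF huv, one_smul, add_comm]

theorem conj_options {a b : Fin m → F} (ha : Iso a) (hb : Iso b) (h0 : h a b ≠ 0) (h1 : h a b ≠ 1) :
    C.y b * C.y a * C.y b = C.near (tr b a) 1 ∨ C.y b * C.y a * C.y b = C.near (tr b a) (1 + h a b) := by
  set g := C.y b with hg
  have hgD := X.fib_D hb (C.mem b hb)
  have hinv : g⁻¹ = g := inv_self X.hD hgD
  have ht := tr_iso hF ha hb
  have hgd : g * d * g = d := by
    rw [(X.fib_d hb (C.mem b hb)).symm.eq, mul_assoc, mul_self X.hD hgD, mul_one]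
  have hl := cj_line_mem X.pol.cls g (C.near_line ha 1).1
  rw [hinv, hgd, C.near_one, C.conj_pt ha hb h0] at hl
  obtain ⟨-, -, hnd⟩ := C.near_line ht (h a b)
  rw [line_eq X.pol X.dD (X.pt_ds ht) (left_mem X.dD) (C.near_line ht (h a b)).1 hnd.2.1.symm] at hl
  have hzd : g * C.y a * g ≠ d := fun e => (C.mem a ha).2.1 (cj_injective g (show g * C.y a * g⁻¹ = g * d * g⁻¹ by
    rw [hinv, hgd]; exact e))
  obtain ⟨μ, hμ⟩ : ∃ μ, C.near (tr b a) μ = g * C.y a * g := by
    by_cases e : g * C.y a * g = X.M.pt (tr b a)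
    · exact ⟨0, by rw [near_zero, e]⟩
    · obtain ⟨k, hk, ek⟩ := C.surj ht ⟨hl, hzd, e⟩
      exact ⟨k⁻¹, by rw [near, if_neg (inv_ne_zero hk), inv_inv, ek]⟩
  have n1 : μ ≠ h a b := fun e => (C.mem a ha).2.2 (cj_injective g (show g * C.y a * g⁻¹ = g * X.M.pt a * g⁻¹ by
    rw [hinv, C.conj_pt ha hb h0, ← hμ, e]))
  have n0 : μ ≠ 0 := by
    intro e
    set a' := (h a b)⁻¹ • a with ha'
    have hia : Iso a' := ha.smul hF (inv_ne_zero h0)
    have hab' : h a' b = 1 := by rw [ha', h_smul_left, inv_mul_cancel₀ h0]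
    have e1 : g * C.y a' * g = X.M.pt (tr b a') := by
      have r := X.phi_R hia hb (by rw [hab']; exact one_ne_zero) (C.mem a' hia)
      rw [C.R a' b hia hb hab', X.M.pt_conj hia hb] at r
      rw [← r]
      refine braid X.hD hgD (X.fib_D hia (C.mem a' hia)) fun e => ?_
      rw [hg, ← C.near_one, ← C.near_one, C.near_comm hb hia] at e
      rw [h_comm_zero hF e] at hab'
      exact zero_ne_one hab'
    have e2 : X.M.pt (tr b a') = X.M.pt (tr b a) := by
      rw [show tr b a' = (h a b)⁻¹ • tr b a by simp only [tr, ha', h_smul_left, smul_add, smul_smul],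
        X.M.pt_smul ht (inv_ne_zero h0)]
    rw [e, near_zero, ← e2, ← e1] at hμ
    have := cj_injective g (show g * C.y a' * g⁻¹ = g * C.y a * g⁻¹ by rw [hinv]; exact hμ)
    exact h1 (inv_eq_one.mp (C.inj a _ ha (inv_ne_zero h0) this))
  rw [← hμ]
  rcases four hF μ with e | e | e | e
  · exact absurd e n0
  · exact Or.inl (by rw [e])
  all_goals
    rcases four hF (h a b) with e' | e' | e' | e'
    · exact absurd e' h0
    · exact absurd e' h1
    all_goals
      first
        | exact absurd (e.trans e'.symm) n1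
        | exact Or.inr (by rw [e, e']; congr 1; linear_combination (0 : F) * two_zero hF)
        | exact Or.inr (by rw [e, e']; congr 1; linear_combination -two_zero hF)

theorem near_conj {u v : Fin m → F} (hu : Iso u) (hv : Iso v) (μ ν : F) :
    C.near v ν * C.near u μ * C.near v ν = C.near (tr v u) (μ + h u v * ν) := by
  have hvD := (C.near_line hv ν).2.2.1
  by_cases huv : h u v = 0
  · rw [((C.near_comm hu hv μ ν).mpr huv).symm.eq, mul_assoc, mul_self X.hD hvD, mul_one, tr, huv, zero_smul,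
      add_zero, zero_mul, add_zero]
  by_cases hν : ν = 0
  · rw [hν, mul_zero, add_zero, near_zero]
    by_cases hμ : μ = 0
    · rw [hμ, near_zero, near_zero, X.M.pt_conj hu hv]
    · rw [near, near, if_neg hμ, C.act (hu.smul hF (inv_ne_zero hμ)) hv, show tr v (μ⁻¹ • u) = μ⁻¹ • tr v u by
        simp only [tr, h_smul_left, smul_add, smul_smul], if_neg hμ]
  have hb : Iso (ν⁻¹ • v) := hv.smul hF (inv_ne_zero hν)
  have hvb : C.near v ν = C.y (ν⁻¹ • v) := if_neg hν
  set b := ν⁻¹ • v with hb'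
  have htr : ∀ x, tr v x = tr b x := fun x => by
    simp only [tr, hb', h_smul_right hF, smul_smul]
    rw [mul_right_comm, norm_fix hF (inv_ne_zero hν), one_mul]
  have hub : h u v * ν = h u b := by rw [hb', h_smul_right hF, sigma_inv (inv_ne_zero hν), inv_inv, mul_comm]
  rw [hvb, htr, hub]
  have hub0 : h u b ≠ 0 := by rw [← hub]; exact mul_ne_zero huv hν
  by_cases hμ : μ = 0
  · rw [hμ, near_zero, zero_add, C.conj_pt hu hb hub0]
  have ha : Iso (μ⁻¹ • u) := hu.smul hF (inv_ne_zero hμ)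
  rw [show C.near u μ = C.y (μ⁻¹ • u) from if_neg hμ]
  set a := μ⁻¹ • u with ha'
  have hua : u = μ • a := by rw [ha', smul_inv_smul₀ hμ]
  have htr' : tr b u = μ • tr b a := by
    rw [hua]; simp only [tr, h_smul_left, smul_add, smul_smul]
  have hg : h u b = μ * h a b := by rw [hua, h_smul_left]
  rw [hg] at hub0
  have g0 : h a b ≠ 0 := right_ne_zero_of_mul hub0
  rw [hg, htr', show μ + μ * h a b = μ * (1 + h a b) by ring, C.near_smul (tr_iso hF ha hb) hμ]
  by_cases g1 : h a b = 1
  · have r := X.phi_R ha hb g0 (C.mem a ha)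
    rw [C.R a b ha hb g1, X.M.pt_conj ha hb] at r
    rw [g1, add_self hF, near_zero, ← r]
    exact braid X.hD (X.fib_D hb (C.mem b hb)) (X.fib_D ha (C.mem a ha)) fun e => g0 (h_comm_zero hF (by
      rw [← C.near_one, ← C.near_one, C.near_comm hb ha] at e; exact e))
  rcases C.conj_options ha hb g0 g1 with e | e
  swap
  · exact e
  exfalso
  have hn : ¬ Commute (C.y a) (C.y b) := fun e => g0 (by
    rwa [← C.near_one, ← C.near_one, C.near_comm ha hb] at e)
  have hsw : h b a = σ (h a b) := (h_swap hF a b).symm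
  have eb : tr b a = h a b • tr a b := by
    simp only [tr, smul_add, smul_smul, hsw, norm_one hF g0, one_smul]
    exact add_comm _ _
  rw [← braid X.hD (X.fib_D ha (C.mem a ha)) (X.fib_D hb (C.mem b hb)) hn, eb,
    show (1 : F) = h a b * σ (h a b) from (norm_one hF g0).symm, C.near_smul (tr_iso hF hb ha) g0] at e
  have hnot0 : h b a ≠ 0 := fun e => g0 (h_comm_zero hF e)
  have hnot1 : h b a ≠ 1 := fun e => g1 (by rw [← h_swap hF b a, e, map_one])
  rcases C.conj_options hb ha hnot0 hnot1 with e2 | e2 <;> have e3 := C.near_inj (tr_iso hF hb ha) (e.symm.trans e2)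
  · exact g1 ((frob hF).injective (e3.trans (map_one _).symm))
  · rw [hsw] at e3
    exact one_ne_zero (α := F) (by linear_combination -e3)

/-- The conditions cut out by the partners of the first member. -/
def Row (t : G) (w : Fin m → F) : Prop :=
  ∀ (u : Fin m → F) (μ : F), Iso u → (Commute (C.near u μ) t ↔ μ + Cfsg.hermForm m F 2 u w = 0)

theorem row_unique {t : G} {w w' : Fin m → F} (e : C.Row t w) (e' : C.Row t w') : w = w' := by
  refine eq_of_iso hF X.M.two fun x hx => ?_
  by_cases hx0 : x = 0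
  · rw [hx0, h_zero_left hF, h_zero_left hF]
  exact eq_of_add hF ((e' x (h x w) ⟨hx0, hx⟩).mp ((e x (h x w) ⟨hx0, hx⟩).mpr (add_self hF _)))

theorem row_far {t : G} {w : Fin m → F} (ht : t ∈ S) (e : C.Row t w) : ¬ Commute d t := by
  intro hdt
  obtain ⟨u0, hu0, hu⟩ := exists_isotropic (F := F) hF X.M.two
  have h0 := e u0 0 ⟨hu0, hu⟩
  have h1 := e u0 1 ⟨hu0, hu⟩
  have key : Commute (C.near u0 0) t ↔ Commute (C.near u0 1) t := by
    by_cases e : t = d
    · subst e
      exact iff_of_true (C.near_line ⟨hu0, hu⟩ 0).2.2.2.2.symm (C.near_line ⟨hu0, hu⟩ 1).2.2.2.2.symm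
    · obtain ⟨x, ν, hx, rfl⟩ := C.near_surj ht ⟨X.sub.sub ht, e, hdt⟩
      rw [C.near_comm ⟨hu0, hu⟩ hx, C.near_comm ⟨hu0, hu⟩ hx]
  rw [h0, h1, zero_add] at key
  rcases eq_or_ne (h u0 w) 0 with e0 | e0
  · have := key.mp e0
    rw [e0, add_zero] at this
    exact one_ne_zero this
  · by_cases e1 : h u0 w = 1
    · exact e0 (key.mpr (by rw [e1, add_self hF]))
    · -- move the vector so that the value is one
      have hs : Iso ((h u0 w)⁻¹ • u0) := Iso.smul hF ⟨hu0, hu⟩ (inv_ne_zero e0)
      have hv : h ((h u0 w)⁻¹ • u0) w = 1 := by rw [h_smul_left, inv_mul_cancel₀ e0]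
      have a0 := e _ 0 hs
      have a1 := e _ 1 hs
      rw [hv] at a0 a1
      have key' : Commute (C.near ((h u0 w)⁻¹ • u0) 0) t ↔ Commute (C.near ((h u0 w)⁻¹ • u0) 1) t := by
        by_cases e : t = d
        · subst e
          exact iff_of_true (C.near_line hs 0).2.2.2.2.symm (C.near_line hs 1).2.2.2.2.symm
        · obtain ⟨x, ν, hx, rfl⟩ := C.near_surj ht ⟨X.sub.sub ht, e, hdt⟩
          rw [C.near_comm hs hx, C.near_comm hs hx]
      rw [a0, a1, zero_add] at key'
      exact one_ne_zero (key'.mpr (add_self hF 1))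

theorem row_conj {t : G} {w v : Fin m → F} (e : C.Row t w) (hv : Iso v) (ν : F) :
    C.Row (C.near v ν * t * C.near v ν) (w + σ (ν + h v w) • v) := by
  intro u μ hu
  have hvD := (C.near_line hv ν).2.2.1
  have mg := mul_self X.hD hvD
  have key : Commute (C.near u μ) (C.near v ν * t * C.near v ν) ↔
      Commute (C.near v ν * C.near u μ * C.near v ν) t := by
    rw [← commute_conj_iff X.hD hvD (u := C.near u μ)]
    simp only [mul_assoc, mul_mul_cancel_self mg, mg, mul_one]
  rw [key, C.near_conj hu hv μ ν, e (tr v u) _ (tr_iso hF hu hv)]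
  simp only [tr, h_add_left, h_smul_left, h_add_right hF, h_smul_right hF, frob_frob hF]
  refine Iff.of_eq (congrArg (· = (0 : F)) ?_)
  ring

theorem row_d {t : G} {w : Fin m → F} (e : C.Row t w) : C.Row (d * t * d) w := by
  intro u μ hu
  rw [← e u μ hu]
  have hd := X.dD
  have cd : d * C.near u μ * d = C.near u μ := by
    rw [(C.near_line hu μ).2.2.2.2.eq, mul_assoc, mul_self X.hD hd, mul_one]
  conv_lhs => rw [← cd]
  exact commute_conj_iff X.hD hd

theorem row_c : C.Row c 0 := fun u μ hu => by rw [C.near_c hu μ, h_zero_right hF, add_zero]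

end Cover

end CfsgThreeTrans.Polar
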