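/-
Coordinates of the members not commuting with the first one.
-/
import Cfsg.Agent.Lib.ThreeTrans.Polar.Near

set_option autoImplicit false
set_option linter.unusedSectionVars false

namespace CfsgThreeTrans.Polar

open Cfsg CfsgLib CfsgThreeTrans CfsgLib.UnitaryTransvection CfsgLib.UnitarySimple
open CfsgUniqueTT.Unitary (two_zero add_self vadd_self cube norm_one fixed norm_fix h_zero_right h_zero_left)

universe u v

variable {G : Type u} [Group G] [Finite G] {F : Type v} [Field F] [Fintype F] [DecidableEq F]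
  {hF : Fintype.card F = 2 ^ 2} {D S : Set G} {d c : G} {m : ℕ}

local notation "σ" => frob hF
local notation "h" => Cfsg.hermForm m F 2
local notation "ω" => om hF

namespace Cover

variable {X : Setting hF D S d c m} (C : Cover X)

/-- The singular member over `v` commuting with the second one. -/
noncomputable def qv (v : Fin m → F) : G := C.y v * (d * c * d) * C.y v

theorem y_mem_S {v : Fin m → F} (hv : Iso v) : C.y v ∈ S := X.fib_S hv (C.mem v hv)

theorem dcd_mem (_C : Cover X) : d * c * d ∈ S := X.sub.conj c X.cS d X.dS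

theorem qv_mem {v : Fin m → F} (hv : Iso v) : C.qv v ∈ S := X.sub.conj _ C.dcd_mem _ (C.y_mem_S hv)

theorem row_qv {v : Fin m → F} (hv : Iso v) : C.Row (C.qv v) v := by
  have := C.row_conj (C.row_d C.row_c) hv 1
  rwa [C.near_one, h_zero_right hF, add_zero, map_one, one_smul, zero_add] at this

theorem row_T {v : Fin m → F} (hv : Iso v) : C.Row (C.y v * c * C.y v) v := by
  have := C.row_conj C.row_c hv 1
  rwa [C.near_one, h_zero_right hF, add_zero, map_one, one_smul, zero_add] at this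

theorem qv_c {v : Fin m → F} (hv : Iso v) : Commute c (C.qv v) := by
  have hD := X.hD
  have hd := X.dD
  have hc := X.sub.sub X.cS
  have hy := X.fib_D hv (C.mem v hv)
  have cy := mul_mul_cancel_self (mul_self hD hy)
  rw [← commute_conj_iff hD hy (u := c), show C.y v * C.qv v * C.y v = d * c * d by
      simp only [qv, mul_assoc, cy, mul_self hD hy, mul_one],
    braid hD hd hc X.dc, braid hD hy hc (X.fib_c hv (C.mem v hv)), commute_conj_iff hD hc]
  exact (X.fib_d hv (C.mem v hv)).symm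

theorem qv_pt {u v : Fin m → F} (hu : Iso u) (hv : Iso v) : Commute (X.M.pt u) (C.qv v) ↔ h u v = 0 := by
  have := C.row_qv hv u 0 hu
  rwa [C.near_zero, zero_add] at this

theorem qv_fib {v : Fin m → F} (hv : Iso v) : C.qv v ∈ X.swap.fib v := by
  have hD := X.hD
  have hqS := C.qv_mem hv
  have hqc : C.qv v ≠ c := fun e => hv.1 (C.row_unique (C.row_qv hv) (by rw [e]; exact C.row_c))
  have hqp : C.qv v ≠ X.M.pt v := fun e =>
    C.row_far hqS (C.row_qv hv) (e ▸ (X.pt_ds hv).2.2)
  have hqd : C.qv v ∈ Ds D c := ⟨X.sub.sub hqS, hqc, C.qv_c hv⟩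
  refine ⟨?_, hqc, by rw [X.swap_pt hv]; exact hqp⟩
  rw [X.swap_pt hv]
  obtain ⟨p, hp, hpl⟩ := Sub.exists_lk X.pol X.sub X.cS X.dS (fun e => X.dc e.symm) hqS hqd
  rw [lk_swap] at hp
  obtain ⟨u, hu, rfl⟩ := X.M.pt_surj hp
  have hl := line_eq X.pol (X.sub.sub X.cS) hqd (left_mem (X.sub.sub X.cS)) hpl
    (Sub.lk_ne X.pol X.sub X.dS X.cS X.dc (X.pt_lk hu)).2.2.1.symm
  suffices X.M.pt u = X.M.pt v by rw [← this, hl]; exact right_mem hqd.1
  by_contra hne
  have hpq : Commute (X.M.pt u) (C.qv v) :=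
    line_commute hqd (X.sub.sub X.cS) hpl (right_mem hqd.1)
  have hcom : Commute (X.M.pt u) (X.M.pt v) := (X.M.pt_comm hu hv).mpr ((C.qv_pt hu hv).mp hpq)
  obtain ⟨l, hl', hlu, hlv⟩ := (X.sub.lk_sub X.pol X.dS X.cS X.dc).exists_far X.pol (X.pt_lk hu) (X.pt_lk hv)
    ⟨(X.pt_ds hv).1, fun e => hne e.symm, hcom⟩
  obtain ⟨x, hx, rfl⟩ := X.M.pt_surj hl'
  have h1 : h x u = 0 := (X.M.pt_comm hx hu).mp hlu.2.2.symm
  have h2 : Commute (X.M.pt x) (C.qv v) := by
    have hlcu : c ≠ X.M.pt u := (Sub.lk_ne X.pol X.sub X.dS X.cS X.dc (X.pt_lk hu)).2.2.1.symm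
    exact commute_line X.pol (X.sub.sub X.cS) hqd (left_mem (X.sub.sub X.cS)) hpl hlcu (right_mem hqd.1)
      (X.pt_ds hx).1 (X.pt_lk hx).2.2.symm ((X.M.pt_comm hx hu).mpr h1)
  exact hlv ((X.M.pt_comm hx hv).mpr ((C.qv_pt hx hv).mp h2))

/-- The labelling of the lines through the second member. -/
noncomputable def swap : Cover X.swap where
  y := C.qv
  mem _ hu := C.qv_fib hu
  inj u a hu ha e := by
    have := C.row_unique (C.row_qv (hu.smul hF ha)) (e ▸ C.row_qv hu)
    exact smul_left_injective F hu.1 (this.trans (one_smul F u).symm)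
  R u v hu hv huv := by
    have hD := X.hD
    have n : h u v ≠ 0 := by rw [huv]; exact one_ne_zero
    set r := X.M.pt v * X.M.pt u * X.M.pt v with hr
    have hrD : r ∈ D := cj_mem X.pol (X.pt_ds hu).1 (X.pt_ds hv).1
    have hrl : r ∈ lk S d c := by rw [hr, X.M.pt_conj hu hv]; exact X.pt_lk (tr_iso hF hu hv)
    have rd : r * d * r = d := by rw [hrl.2.1.symm.eq, mul_assoc, mul_self hD hrD, mul_one]
    have rc : r * c * r = c := by rw [hrl.2.2.symm.eq, mul_assoc, mul_self hD hrD, mul_one]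
    have ry : r * C.y u * r = C.y v := C.R u v hu hv huv
    have cr := mul_mul_cancel_self (mul_self hD hrD)
    rw [Setting.phi, X.swap_pt hu, X.swap_pt hv, ← hr]
    calc r * C.qv u * r = (r * C.y u * r) * ((r * d * r) * (r * c * r) * (r * d * r)) * (r * C.y u * r) := by
          simp only [qv, mul_assoc, cr]
      _ = C.qv v := by rw [ry, rd, rc]; rfl

theorem swap_y (v : Fin m → F) : C.swap.y v = C.qv v := rfl

theorem swap_zero {u : Fin m → F} (hu : Iso u) : C.swap.near u 0 = X.M.pt u := by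
  rw [near_zero, X.swap_pt hu]

theorem row'_y {v : Fin m → F} (hv : Iso v) : C.swap.Row (C.y v) v := by
  intro u μ hu
  by_cases hμ : μ = 0
  · rw [hμ, C.swap_zero hu, zero_add]
    have := C.near_pt hv hu 1
    rw [C.near_one] at this
    exact ⟨fun e => h_comm_zero hF (this.mp e.symm), fun e => (this.mpr (h_comm_zero hF e)).symm⟩
  have hu' : Iso (μ⁻¹ • u) := hu.smul hF (inv_ne_zero hμ)
  rw [show C.swap.near u μ = C.qv (μ⁻¹ • u) from if_neg hμ]
  have := C.row_qv hu' v 1 hv
  rw [C.near_one] at this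
  refine ⟨fun e => ?_, fun e => (this.mpr ?_).symm⟩
  · have e1 := congrArg σ (this.mp e.symm)
    rw [map_add, map_one, map_zero, h_swap hF, h_smul_left] at e1
    linear_combination μ * e1 - mul_inv_cancel₀ hμ * h u v
  · have e1 : μ⁻¹ * h u v = 1 := by
      rw [(eq_of_add hF e).symm, inv_mul_cancel₀ hμ]
    rw [← h_smul_left] at e1
    rw [← h_swap hF, e1, map_one, add_self hF]

/-- The coordinates `(l, w, 1)` of a member not commuting with the first one. -/
structure FarC (t : G) (l : F) (w : Fin m → F) : Prop where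
  mem : t ∈ S
  row : C.Row t w
  trace : l + frob hF l = Cfsg.hermForm m F 2 w w
  zero : l = 0 → Commute c t
  nonzero : l ≠ 0 → ¬ Commute c t ∧ C.swap.Row t (frob hF l • w)

theorem farC_unique {t : G} {l l' : F} {w w' : Fin m → F} (e : C.FarC t l w) (e' : C.FarC t l' w') :
    l = l' ∧ w = w' := by
  have hw := C.row_unique e.row e'.row
  subst hw
  refine ⟨?_, rfl⟩
  by_cases h0 : l = 0
  · by_contra hne
    exact (e'.nonzero (fun e => hne (h0.trans e.symm))).1 (e.zero h0)
  by_cases h0' : l' = 0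
  · exact absurd (e'.zero h0') (e.nonzero h0).1
  have hs := C.swap.row_unique (e.nonzero h0).2 (e'.nonzero h0').2
  by_cases hw : w = 0
  · subst hw
    have t0 := e.trace
    have t0' := e'.trace
    rw [h_zero_left hF] at t0 t0'
    rw [(trace_zero hF t0).resolve_left h0, (trace_zero hF t0').resolve_left h0']
  · exact (frob hF).injective (smul_left_injective F hw hs)

/-- The generators of the subspace. -/
structure Closed (X : Setting hF D S d c m) (P : G → Prop) : Prop where
  first : P d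
  second : P c
  near : ∀ t ∈ S, t ∈ Ds D d → P t
  conj : ∀ a ∈ S, ∀ b ∈ S, P a → P b → P (b * a * b)

theorem exists_farC {l : F} {w : Fin m → F} (ht : l + σ l = h w w) :
    ∃ t, C.FarC t l w ∧ ∀ P : G → Prop, Closed X P → P t := by
  have hD := X.hD
  have hdcd : ∀ P : G → Prop, Closed X P → P (d * c * d) := fun P hP => hP.conj c X.cS d X.dS hP.second hP.first
  have hy : ∀ {v : Fin m → F}, Iso v → ∀ P : G → Prop, Closed X P → P (C.y v) := fun hv P hP =>
    hP.near _ (C.y_mem_S hv) (X.fib_line hv (C.mem _ hv)).1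
  have hq : ∀ {v : Fin m → F}, Iso v → ∀ P : G → Prop, Closed X P → P (C.qv v) := fun hv P hP =>
    hP.conj _ C.dcd_mem _ (C.y_mem_S hv) (hdcd P hP) (hy hv P hP)
  by_cases hl0 : l = 0
  · have hQ : h w w = 0 := by rw [← ht, hl0, map_zero, add_zero]
    by_cases hw : w = 0
    · exact ⟨c, ⟨X.cS, hw ▸ C.row_c, ht, fun _ => Commute.refl c, fun e => absurd hl0 e⟩, fun P hP => hP.second⟩
    · have hw' : Iso w := ⟨hw, hQ⟩
      exact ⟨C.qv w, ⟨C.qv_mem hw', C.row_qv hw', ht, fun _ => C.qv_c hw', fun e => absurd hl0 e⟩, hq hw'⟩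
  suffices ∃ t, (t ∈ S ∧ C.Row t w ∧ C.swap.Row t (σ l • w)) ∧ ∀ P : G → Prop, Closed X P → P t by
    obtain ⟨t, ⟨h1, h2, h3⟩, h4⟩ := this
    exact ⟨t, ⟨h1, h2, ht, fun e => absurd e hl0, fun _ => ⟨C.swap.row_far h1 h3, h3⟩⟩, h4⟩
  by_cases hl1 : l = 1
  · have hQ : h w w = 0 := by rw [← ht, hl1, map_one, add_self hF]
    rw [hl1, map_one, one_smul]
    by_cases hw : w = 0
    · refine ⟨d * c * d, ⟨C.dcd_mem, hw ▸ C.row_d C.row_c, ?_⟩, hdcd⟩
      rw [braid hD X.dD (X.sub.sub X.cS) X.dc, hw]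
      exact C.swap.row_d C.swap.row_c
    · have hw' : Iso w := ⟨hw, hQ⟩
      refine ⟨C.y w * c * C.y w, ⟨X.sub.conj c X.cS _ (C.y_mem_S hw'), C.row_T hw', ?_⟩,
        fun P hP => hP.conj c X.cS _ (C.y_mem_S hw') hP.second (hy hw' P hP)⟩
      rw [braid hD (X.fib_D hw' (C.mem w hw')) (X.sub.sub X.cS) (X.fib_c hw' (C.mem w hw'))]
      exact C.swap.row_d (C.row'_y hw')
  have htr := trace_one hF hl0 hl1
  have hQ : h w w = 1 := ht.symm.trans htr
  have hl' : 1 + l ≠ 0 := fun e => hl1 (eq_of_add hF e).symm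
  obtain ⟨x, hx, hwx⟩ := iso_value hF X.M.two hQ hl'
  have hx' : Iso x := ⟨fun e => hl' (by rw [← hwx, e, h_zero_right hF]), hx⟩
  set v := w + l • x with hv
  have hxw : h x w = σ (1 + l) := h_swap_eq (hF := hF) hwx
  have hvv : h v v = 0 := by
    rw [hv, diag_add hF, diag_smul hF hl0, hx, hQ, h_smul_right hF, hwx, map_mul, frob_frob hF, map_add, map_one]
    linear_combination (l * σ l) * two_zero hF + htr + (1 : F) * two_zero hF - (σ l + l) * 0
  have hv' : Iso v := ⟨fun e => one_ne_zero (α := F) (by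
    have : w = l • x := funext fun i => eq_of_add hF (congrFun e i)
    rw [← hQ, this, diag_smul hF hl0, hx]), hvv⟩
  have hxv : h x v = σ (1 + l) := by rw [hv, h_add_right hF, h_smul_right hF, hx, mul_zero, add_zero, hxw]
  have hvx : h v x = 1 + l := by rw [hv, h_add_left, h_smul_left, hx, mul_zero, add_zero, hwx]
  refine ⟨C.y x * C.qv v * C.y x, ⟨X.sub.conj _ (C.qv_mem hv') _ (C.y_mem_S hx'), ?_, ?_⟩,
    fun P hP => hP.conj _ (C.qv_mem hv') _ (C.y_mem_S hx') (hq hv' P hP) (hy hx' P hP)⟩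
  · have := C.row_conj (C.row_qv hv') hx' 1
    rw [C.near_one] at this
    rw [hxv] at this
    convert this using 1
    funext i
    simp only [ map_add, map_one, frob_frob hF, Pi.add_apply, Pi.smul_apply, smul_eq_mul, hv]
    linear_combination -(x i + l * x i) * two_zero hF
  · have hn : ¬ Commute (C.y x) (C.qv v) := fun e => by
      have := (C.row_qv hv' x 1 hx').mp (by rwa [C.near_one])
      rw [hxv, map_add, map_one] at this
      exact hl0 ((frob hF).injective (by rw [map_zero]; linear_combination this - (1 : F) * two_zero hF))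
    rw [braid hD (X.fib_D hx' (C.mem x hx')) (X.sub.sub (C.qv_mem hv')) hn]
    have := C.swap.row_conj (C.row'_y hx') hv' 1
    rw [C.swap.near_one, swap_y] at this
    rw [hvx] at this
    convert this using 1
    funext i
    have hl2 : σ l * l = 1 := norm_fix hF hl0
    simp only [ map_add, map_one, Pi.add_apply, Pi.smul_apply, smul_eq_mul, hv]
    linear_combination -(x i) * hl2 - x i * two_zero hF - σ l * 0 * w i - (w i + x i * l) * two_zero hF

theorem far_count (_C : Cover X) : {t | t ∈ S ∧ ¬ Commute d t}.ncard = 2 * 4 ^ m := by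
  obtain ⟨u0, hu0, hu⟩ := exists_isotropic (F := F) hF X.M.two
  rw [Sub.far_card X.pol X.sub X.dS X.cS X.dc X.five X.M.far ⟨_, X.M.pt_mem ⟨hu0, hu⟩⟩]
  obtain ⟨k, rfl⟩ := Nat.exists_eq_add_of_le X.M.two
  rw [Nat.add_sub_cancel_left, pow_add]
  ring

/-- One member for each pair of coordinates, and every far member is one of them. -/
theorem far_list : ∃ (f : Bool × (Fin m → F) → G) (L : Bool × (Fin m → F) → F),
    (∀ p p', L p = L p' → p.2 = p'.2 → p = p') ∧
    (∀ p, C.FarC (f p) (L p) p.2 ∧ ∀ P : G → Prop, Closed X P → P (f p)) ∧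
    ∀ t ∈ S, ¬ Commute d t → ∃ p, t = f p := by
  classical
  haveI := Fintype.ofFinite G
  set L : Bool × (Fin m → F) → F := fun p => h p.2 p.2 * ω + cond p.1 1 0 with hL
  have hLt : ∀ p, L p + σ (L p) = h p.2 p.2 := fun p => by
    rcases diag_cases hF p.2 with e | e <;> rcases p with ⟨_ | _, w⟩ <;>
      simp only [hL, e, zero_mul, one_mul, cond, map_add, map_zero, map_one, frob_om, add_zero, zero_add]
    · exact add_self hF 1
    · linear_combination ω * two_zero hF
    · linear_combination (ω + 1) * two_zero hF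
  have hLi : ∀ p p', L p = L p' → p.2 = p'.2 → p = p' := by
    rintro ⟨b, w⟩ ⟨b', w'⟩ e1 e2
    simp only at e2
    subst e2
    simp only [hL, add_right_inj] at e1
    cases b <;> cases b' <;> simp at e1 ⊢
  choose f hf hfP using fun p => C.exists_farC (hLt p)
  have hinj : Function.Injective f := fun p p' e => by
    obtain ⟨e1, e2⟩ := C.farC_unique (e ▸ hf p) (hf p')
    exact hLi p p' e1 e2
  have heq : Set.range f = {t | t ∈ S ∧ ¬ Commute d t} := by
    refine Set.eq_of_subset_of_ncard_le ?_ ?_ (Set.toFinite _)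
    · rintro _ ⟨p, rfl⟩; exact ⟨(hf p).mem, C.row_far (hf p).mem (hf p).row⟩
    · rw [C.far_count, Set.ncard_range_of_injective hinj, Nat.card_eq_fintype_card, Fintype.card_prod,
        Fintype.card_bool, Fintype.card_fun, Fintype.card_fin, hF]
      norm_num
  refine ⟨f, L, hLi, fun p => ⟨hf p, hfP p⟩, fun t ht hdt => ?_⟩
  have : t ∈ Set.range f := by rw [heq]; exact ⟨ht, hdt⟩
  obtain ⟨p, rfl⟩ := this
  exact ⟨p, rfl⟩

theorem farC_all {t : G} (ht : t ∈ S) (hdt : ¬ Commute d t) :
    ∃ l w, C.FarC t l w ∧ ∀ P : G → Prop, Closed X P → P t := by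
  obtain ⟨f, L, -, hf, hsurj⟩ := C.far_list
  obtain ⟨p, rfl⟩ := hsurj t ht hdt
  exact ⟨_, _, hf p⟩

theorem farC_inj {t t' : G} {l : F} {w : Fin m → F} (e : C.FarC t l w) (e' : C.FarC t' l w) : t = t' := by
  obtain ⟨f, L, hLi, hf, hsurj⟩ := C.far_list
  obtain ⟨p, rfl⟩ := hsurj t e.mem (C.row_far e.mem e.row)
  obtain ⟨p', rfl⟩ := hsurj t' e'.mem (C.row_far e'.mem e'.row)
  obtain ⟨a1, a2⟩ := C.farC_unique (hf p).1 e
  obtain ⟨b1, b2⟩ := C.farC_unique (hf p').1 e'
  rw [hLi p p' (a1.trans b1.symm) (a2.trans b2.symm)]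

end Cover

end CfsgThreeTrans.Polar
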