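/-
A coordinatisation of the link gives one of the subspace, two dimensions larger.
-/
import Cfsg.Agent.Lib.ThreeTrans.Polar.Far

set_option autoImplicit false
set_option linter.unusedSectionVars false

namespace CfsgThreeTrans.Polar

open Cfsg CfsgLib CfsgThreeTrans CfsgLib.UnitaryTransvection CfsgLib.UnitarySimple
open CfsgUniqueTT.Unitary (two_zero add_self vadd_self cube norm_one fixed norm_fix h_zero_right h_zero_left)

universe u v

variable {G : Type u} [Group G] [Finite G] {F : Type v} [Field F] [Fintype F] [DecidableEq F]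
  {hF : Fintype.card F = 2 ^ 2} {D S : Set G} {d c : G} {m n : ℕ}

local notation "σ" => frob hF

section Transvections

variable (hF)

local notation "hn" => Cfsg.hermForm n F 2

omit [Fintype F] [DecidableEq F] in
theorem tr_add (b x y : Fin n → F) : tr b (x + y) = tr b x + tr b y := by
  simp only [tr, h_add_left, add_smul]; abel

omit [Fintype F] [DecidableEq F] in
theorem tr_lin (b x : Fin n → F) (a : F) : tr b (a • x) = a • tr b x := by
  simp only [tr, h_smul_left, smul_add, smul_smul]

include hF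

theorem tr_smul (b x : Fin n → F) {a : F} (ha : a ≠ 0) : tr (a • b) x = tr b x := by
  simp only [tr, h_smul_right hF, smul_smul]
  rw [mul_right_comm, norm_fix hF ha, one_mul]

theorem tr_tr {b : Fin n → F} (hb : hn b b = 0) (x : Fin n → F) : tr b (tr b x) = x := by
  simp only [tr, h_add_left, h_smul_left, hb, mul_zero, add_zero]
  rw [add_assoc, vadd_self hF, add_zero]

theorem tr_h {b : Fin n → F} (hb : hn b b = 0) (x y : Fin n → F) : hn (tr b x) (tr b y) = hn x y := by
  simp only [tr, h_add_left, h_add_right hF, h_smul_left, h_smul_right hF, hb, h_swap hF y b, mul_zero, add_zero]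
  linear_combination (hn x b * hn b y) * two_zero hF

theorem tr_comp {a b : Fin n → F} (hb : hn b b = 0) (x : Fin n → F) :
    tr b (tr a (tr b x)) = tr (tr b a) x := by
  have e : hn (tr b x) a = hn x (tr b a) := by
    rw [← tr_h hF hb (tr b x) a, tr_tr hF hb]
  conv_lhs => rw [show tr a (tr b x) = tr b x + hn (tr b x) a • a from rfl]
  rw [tr_add, tr_lin, tr_tr hF hb, e]
  rfl

end Transvections

local notation "h" => Cfsg.hermForm m F 2
local notation "hh" => Cfsg.hermForm (m + 2) F 2

include hF in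
theorem trace_diff {l l' e : F} (h1 : l + σ l = e) (h2 : l' + σ l' = e) (hne : l' ≠ l) : l' = l + 1 := by
  rcases trace_zero (hF := hF) (a := l' + l) (by
    rw [map_add]; linear_combination h1 + h2 + e * two_zero hF) with e0 | e0
  · exact absurd (eq_of_add hF e0) hne
  · linear_combination e0 - l * two_zero hF

namespace Cover

variable {X : Setting hF D S d c m} (C : Cover X)

/-- A vector of a member. -/
def At (t : G) (x : Fin (m + 2) → F) : Prop :=
  ∃ k : F, k ≠ 0 ∧ ((t = d ∧ x = k • big hF 1 (0 : Fin m → F) 0) ∨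
    (∃ u μ, Iso u ∧ t = C.near u μ ∧ x = k • big hF μ u 0) ∨
    ∃ l w, C.FarC t l w ∧ x = k • big hF l w 1)

theorem at_d : C.At d (big hF 1 (0 : Fin m → F) 0) := ⟨1, one_ne_zero, Or.inl ⟨rfl, (one_smul F _).symm⟩⟩

theorem at_near {u : Fin m → F} (hu : Iso u) (μ : F) : C.At (C.near u μ) (big hF μ u 0) :=
  ⟨1, one_ne_zero, Or.inr (Or.inl ⟨u, μ, hu, rfl, (one_smul F _).symm⟩)⟩

theorem at_far {t : G} {l : F} {w : Fin m → F} (e : C.FarC t l w) : C.At t (big hF l w 1) :=
  ⟨1, one_ne_zero, Or.inr (Or.inr ⟨l, w, e, (one_smul F _).symm⟩)⟩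

theorem At.smul {t : G} {x : Fin (m + 2) → F} (e : C.At t x) {a : F} (ha : a ≠ 0) : C.At t (a • x) := by
  obtain ⟨k, hk, e⟩ := e
  refine ⟨a * k, mul_ne_zero ha hk, ?_⟩
  rcases e with ⟨e1, e2⟩ | ⟨u, μ, hu, e1, e2⟩ | ⟨l, w, e1, e2⟩
  · exact Or.inl ⟨e1, by rw [e2, smul_smul]⟩
  · exact Or.inr (Or.inl ⟨u, μ, hu, e1, by rw [e2, smul_smul]⟩)
  · exact Or.inr (Or.inr ⟨l, w, e1, by rw [e2, smul_smul]⟩)

theorem farC_c : C.FarC c 0 0 :=
  ⟨X.cS, C.row_c, by rw [map_zero, add_zero, h_zero_left hF], fun _ => Commute.refl c, fun e => absurd rfl e⟩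

theorem farC_dcd : C.FarC (c * d * c) 1 0 := by
  have hr : C.swap.Row (c * d * c) (σ 1 • (0 : Fin m → F)) := by
    rw [smul_zero]; exact C.swap.row_d C.swap.row_c
  have hm := X.sub.conj d X.dS c X.cS
  refine ⟨hm, ?_, by rw [map_one, add_self hF, h_zero_left hF], fun e => absurd e one_ne_zero,
    fun _ => ⟨C.swap.row_far hm hr, hr⟩⟩
  rw [← braid X.hD X.dD (X.sub.sub X.cS) X.dc]
  exact C.row_d C.row_c

theorem farC_T {v : Fin m → F} (hv : Iso v) : C.FarC (c * C.y v * c) 1 v := by
  have hy := C.y_mem_S hv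
  have hm := X.sub.conj _ hy c X.cS
  have hr : C.swap.Row (c * C.y v * c) (σ 1 • v) := by
    rw [map_one, one_smul]; exact C.swap.row_d (C.row'_y hv)
  refine ⟨hm, ?_, by rw [map_one, add_self hF, hv.2], fun e => absurd e one_ne_zero,
    fun _ => ⟨C.swap.row_far hm hr, hr⟩⟩
  rw [← braid X.hD (X.fib_D hv (C.mem v hv)) (X.sub.sub X.cS) (X.fib_c hv (C.mem v hv))]
  exact C.row_T hv

theorem farC_q {v : Fin m → F} (hv : Iso v) : C.FarC (C.qv v) 0 v :=
  ⟨C.qv_mem hv, C.row_qv hv, by rw [map_zero, add_zero, hv.2], fun _ => C.qv_c hv, fun e => absurd rfl e⟩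

theorem at_exists {t : G} (ht : t ∈ S) : ∃ x, C.At t x := by
  by_cases e : t = d
  · subst e; exact ⟨_, C.at_d⟩
  by_cases hc : Commute d t
  · obtain ⟨u, μ, hu, rfl⟩ := C.near_surj ht ⟨X.sub.sub ht, e, hc⟩
    exact ⟨_, C.at_near hu μ⟩
  · obtain ⟨l, w, e, -⟩ := C.farC_all ht hc
    exact ⟨_, C.at_far e⟩

theorem At.iso {t : G} {x : Fin (m + 2) → F} (e : C.At t x) : Iso x := by
  obtain ⟨k, hk, e⟩ := e
  rcases e with ⟨-, rfl⟩ | ⟨u, μ, hu, -, rfl⟩ | ⟨l, w, e1, rfl⟩ <;> refine Iso.smul hF ⟨?_, ?_⟩ hk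
  · intro e
    exact one_ne_zero (big_inj hF (e.trans (by funext i; simp [big]; refine Fin.cases ?_ (fun i => Fin.cases ?_ (fun i => ?_) i) i <;> simp) :
      big hF 1 (0 : Fin m → F) 0 = big hF 0 (0 : Fin m → F) 0)).1
  · rw [h_big, h_zero_left hF, map_zero]; ring
  · intro e
    exact hu.1 (big_inj hF (e.trans (by funext i; simp [big]; refine Fin.cases ?_ (fun i => Fin.cases ?_ (fun i => ?_) i) i <;> simp) :
      big hF μ u 0 = big hF 0 (0 : Fin m → F) 0)).2.1
  · rw [h_big, hu.2, map_zero]; ring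
  · intro e
    exact one_ne_zero (big_inj hF (e.trans (by funext i; simp [big]; refine Fin.cases ?_ (fun i => Fin.cases ?_ (fun i => ?_) i) i <;> simp) :
      big hF l w 1 = big hF 0 (0 : Fin m → F) 0)).2.2
  · rw [h_big, map_one, mul_one, one_mul, e1.trace, add_self hF]

theorem at_unique {t : G} {x y : Fin (m + 2) → F} (e : C.At t x) (e' : C.At t y) : ∃ k : F, k ≠ 0 ∧ y = k • x := by
  obtain ⟨a, ha, e⟩ := e
  obtain ⟨b, hb, e'⟩ := e'
  suffices ∀ {x0 y0 : Fin (m + 2) → F} {k : F}, x = a • x0 → y = b • y0 → k ≠ 0 → y0 = k • x0 →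
      ∃ k : F, k ≠ 0 ∧ y = k • x by
    rcases e with ⟨e1, e2⟩ | ⟨u, μ, hu, e1, e2⟩ | ⟨l, w, e1, e2⟩ <;>
      rcases e' with ⟨e1', e2'⟩ | ⟨u', μ', hu', e1', e2'⟩ | ⟨l', w', e1', e2'⟩
    · exact this e2 e2' one_ne_zero (one_smul F _).symm
    · exact absurd (e1'.symm.trans e1) (C.near_line hu' μ').2.2.2.1
    · exact absurd (e1 ▸ Commute.refl d) (C.row_far e1'.mem e1'.row)
    · exact absurd (e1.symm.trans e1') (C.near_line hu μ).2.2.2.1
    · have hl := (C.near_line hu μ).1
      have hl' := (C.near_line hu' μ').1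
      rw [← e1] at hl
      rw [← e1'] at hl'
      have ht : t ∈ Ds D d := e1 ▸ (C.near_line hu μ).2.2
      have l1 := line_eq X.pol X.dD (X.pt_ds hu) (left_mem X.dD) hl ht.2.1.symm
      have l2 := line_eq X.pol X.dD (X.pt_ds hu') (left_mem X.dD) hl' ht.2.1.symm
      have ep := Sub.lk_unique X.pol X.sub X.dS X.cS X.dc ht (X.pt_lk hu) (X.pt_lk hu')
        (by rw [l1]; exact right_mem (X.pt_ds hu).1) (by rw [l2]; exact right_mem (X.pt_ds hu').1)
      obtain ⟨k, hk, ek⟩ := X.M.pt_inj hu' hu ep.symm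
      subst ek
      refine this e2 e2' hk ?_
      have e3 : C.near u μ = C.near u (μ' / k) := by
        rw [← C.near_smul hu hk (μ' / k), mul_div_cancel₀ μ' hk, ← e1', e1]
      rw [C.near_inj hu e3, big_smul, mul_zero, mul_div_cancel₀ μ' hk]
    · exact absurd (by rw [e1]; exact (C.near_line hu μ).2.2.2.2) (C.row_far e1'.mem e1'.row)
    · exact absurd (e1' ▸ Commute.refl d) (C.row_far e1.mem e1.row)
    · exact absurd (by rw [e1']; exact (C.near_line hu' μ').2.2.2.2) (C.row_far e1.mem e1.row)
    · obtain ⟨rfl, rfl⟩ := C.farC_unique e1 e1'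
      exact this e2 e2' one_ne_zero (one_smul F _).symm
  intro x0 y0 k hx hy hk hxy
  exact ⟨b * k / a, div_ne_zero (mul_ne_zero hb hk) ha, by
    rw [hx, hy, hxy, smul_smul, smul_smul, div_mul_cancel₀ _ ha]⟩

theorem at_inj {s t : G} {x : Fin (m + 2) → F} (e : C.At s x) (e' : C.At t x) : s = t := by
  obtain ⟨a, ha, e⟩ := e
  obtain ⟨b, hb, e'⟩ := e'
  have key : ∀ {l l' μ μ' : F} {w w' : Fin m → F}, x = a • big hF l w μ → x = b • big hF l' w' μ' →
      a * l = b * l' ∧ a • w = b • w' ∧ a * μ = b * μ' := fun e1 e2 => by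
    have e3 := e1.symm.trans e2
    rw [big_smul, big_smul] at e3
    exact big_inj hF e3
  have hne : ∀ {u : Fin m → F}, Iso u → ∀ {k : F}, k ≠ 0 → k • u ≠ 0 := fun hu k hk => smul_ne_zero hk hu.1
  rcases e with ⟨e1, e2⟩ | ⟨u, μ, hu, e1, e2⟩ | ⟨l, w, e1, e2⟩ <;>
    rcases e' with ⟨e1', e2'⟩ | ⟨u', μ', hu', e1', e2'⟩ | ⟨l', w', e1', e2'⟩ <;>
    obtain ⟨k1, k2, k3⟩ := key e2 e2'
  · exact e1.trans e1'.symm
  · rw [smul_zero] at k2; exact absurd k2.symm (hne hu' hb)
  · rw [mul_zero, mul_one] at k3; exact absurd k3.symm hb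
  · rw [smul_zero] at k2; exact absurd k2 (hne hu ha)
  · have eu : u' = (a / b) • u := by
      rw [div_eq_inv_mul, mul_smul, k2, inv_smul_smul₀ hb]
    have eμ : μ' = (a / b) * μ := by rw [div_mul_eq_mul_div, k1, mul_div_cancel_left₀ _ hb]
    rw [e1, e1', eu, eμ, C.near_smul hu (div_ne_zero ha hb)]
  · rw [mul_zero, mul_one] at k3; exact absurd k3.symm hb
  · rw [mul_one, mul_zero] at k3; exact absurd k3 ha
  · rw [mul_one, mul_zero] at k3; exact absurd k3 ha
  · rw [mul_one, mul_one] at k3
    subst k3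
    rw [mul_left_cancel₀ ha k1, smul_right_injective _ ha k2] at e1
    exact C.farC_inj e1 e1'

theorem at_surj {x : Fin (m + 2) → F} (hx : Iso x) : ∃ t ∈ S, C.At t x := by
  obtain ⟨l, w, μ, rfl⟩ := big_surj hF x
  have hx2 := hx.2
  rw [h_big] at hx2
  by_cases hμ : μ = 0
  · subst hμ
    simp only [map_zero, mul_zero, zero_mul, zero_add] at hx2
    by_cases hw : w = 0
    · subst hw
      have hl : l ≠ 0 := fun e => hx.1 (by funext i; subst e; refine Fin.cases ?_ (fun i => Fin.cases ?_ (fun i => ?_) i) i <;> simp [big])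
      exact ⟨d, X.dS, l, hl, Or.inl ⟨rfl, by rw [big_smul, mul_one, smul_zero, mul_zero]⟩⟩
    · exact ⟨_, (C.near_line ⟨hw, hx2⟩ l).2.1, C.at_near ⟨hw, hx2⟩ l⟩
  · obtain ⟨t, ht, -⟩ := C.exists_farC (l := l / μ) (w := μ⁻¹ • w) (by
      rw [diag_smul hF (inv_ne_zero hμ), map_div₀, sigma_inv hμ]
      have e : μ * μ⁻¹ = 1 := mul_inv_cancel₀ hμ
      field_simp
      have hs : σ μ * μ = 1 := norm_fix hF hμ
      have h3 : μ ^ 3 = 1 := cube hF hμ
      rw [sigma_inv hμ] at hx2
      field_simp at hx2
      linear_combination hx2 - μ * h w w * two_zero hF)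
    refine ⟨t, ht.mem, μ, hμ, Or.inr (Or.inr ⟨_, _, ht, ?_⟩)⟩
    rw [big_smul, mul_div_cancel₀ l hμ, smul_inv_smul₀ hμ, mul_one]

theorem at_comm_near {t : G} {x : Fin (m + 2) → F} (e : C.At t x) {u : Fin m → F} (hu : Iso u) (μ : F) :
    Commute (C.near u μ) t ↔ hh (big hF μ u 0) x = 0 := by
  obtain ⟨k, hk, e⟩ := e
  have hk' : σ k ≠ 0 := (map_ne_zero _).mpr hk
  rcases e with ⟨rfl, rfl⟩ | ⟨v, ν, hv, rfl, rfl⟩ | ⟨l, w, e1, rfl⟩ <;>
    rw [h_smul_right hF, mul_eq_zero, or_iff_right hk', h_big]
  · refine iff_of_true (C.near_line hu μ).2.2.2.2.symm ?_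
    rw [h_zero_right hF, map_zero]; ring
  · rw [C.near_comm hu hv, map_zero, mul_zero, zero_mul, zero_add, zero_add]
  · rw [e1.row u μ hu, map_one, mul_one, zero_mul, add_zero]

/-- The conjugation by a member is the transvection at its vector. -/
def Good (g : G) : Prop :=
  ∀ x, C.At g x → ∀ t ∈ S, ∀ y, C.At t y → C.At (g * t * g) (tr x y)

theorem good_of {g : G} {x : Fin (m + 2) → F} (hg : C.At g x)
    (hd : C.At (g * d * g) (tr x (big hF 1 (0 : Fin m → F) 0)))
    (hn : ∀ u μ, Iso u → C.At (g * C.near u μ * g) (tr x (big hF μ u 0)))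
    (hf : ∀ t l w, C.FarC t l w → C.At (g * t * g) (tr x (big hF l w 1))) : C.Good g := by
  intro x' hx' t ht y hy
  obtain ⟨k, hk, rfl⟩ := C.at_unique hg hx'
  rw [tr_smul hF _ _ hk]
  obtain ⟨a, ha, hy⟩ := hy
  rcases hy with ⟨rfl, rfl⟩ | ⟨u, μ, hu, rfl, rfl⟩ | ⟨l, w, e, rfl⟩ <;> rw [tr_lin]
  · exact hd.smul C ha
  · exact (hn u μ hu).smul C ha
  · exact (hf t l w e).smul C ha

theorem good_first : C.Good d := by
  have hd := X.dD
  have md := mul_self X.hD hd
  refine C.good_of C.at_d ?_ (fun u μ hu => ?_) (fun t l w e => ?_)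
  · rw [md, one_mul]
    convert C.at_d using 1
    rw [tr, h_big, h_zero_left hF, map_zero]; simp
  · rw [(C.near_line hu μ).2.2.2.2.eq, mul_assoc, md, mul_one]
    convert C.at_near hu μ using 1
    rw [tr, h_big, h_zero_right hF, map_zero]; simp
  · have hmem := X.sub.conj t e.mem d X.dS
    have hfar : ¬ Commute d (d * t * d) := fun h1 => C.row_far e.mem e.row (by
      have := (commute_conj_iff X.hD hd (u := d) (v := d * t * d)).mpr h1
      simpa only [mul_assoc, mul_mul_cancel_self md, md, mul_one, one_mul] using this)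
    obtain ⟨l', w', e', -⟩ := C.farC_all hmem hfar
    have hw := C.row_unique e'.row (C.row_d e.row)
    subst hw
    have hne : l' ≠ l := fun h1 => C.row_far e.mem e.row (by
      subst h1
      have := C.farC_inj e' e
      show d * t = t * d
      calc d * t = d * t * d * d := by rw [mul_assoc _ d d, md, mul_one]
        _ = t * d := by rw [this])
    convert C.at_far e' using 1
    rw [trace_diff (hF := hF) e.trace e'.trace hne, tr, h_big, h_zero_right hF, map_zero, map_one, big_smul, big_add,
      smul_zero, add_zero]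
    congr 1 <;> ring

theorem good_second : C.Good c := by
  have hD := X.hD
  have hcD := X.sub.sub X.cS
  have mc := mul_self hD hcD
  have cc := mul_mul_cancel_self mc
  have hv : ∀ (l : F) (w : Fin m → F) (μ : F),
      tr (big hF 0 (0 : Fin m → F) 1) (big hF l w μ) = big hF l w (μ + l) := fun l w μ => by
    rw [tr, h_big, h_zero_right hF, map_zero, map_one, big_smul, big_add, smul_zero, add_zero, mul_one, mul_zero,
      mul_zero, add_zero, add_zero, mul_one]
  refine C.good_of (C.at_far C.farC_c) ?_ (fun u μ hu => ?_) (fun t l w e => ?_) <;> rw [hv]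
  · rw [zero_add]; exact C.at_far C.farC_dcd
  · by_cases hμ : μ = 0
    · subst hμ
      rw [((C.near_c hu 0).mpr rfl).symm.eq, mul_assoc, mc, mul_one, add_zero]
      exact C.at_near hu 0
    · have hu' : Iso (μ⁻¹ • u) := hu.smul hF (inv_ne_zero hμ)
      rw [show C.near u μ = C.y (μ⁻¹ • u) from if_neg hμ]
      convert (C.at_far (C.farC_T hu')).smul C hμ using 1
      rw [big_smul, smul_inv_smul₀ hμ, mul_one, zero_add]
  · by_cases hl : l = 0
    · subst hl
      rw [(e.zero rfl).eq, mul_assoc, mc, mul_one, add_zero]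
      exact C.at_far e
    by_cases hl1 : l = 1
    · subst hl1
      rw [add_self hF]
      by_cases hw : w = 0
      · subst hw
        rw [C.farC_inj e C.farC_dcd, show c * (c * d * c) * c = d by simp only [mul_assoc, cc, mc, mul_one]]
        exact C.at_d
      · have hw' : Iso w := ⟨hw, by rw [← e.trace, map_one, add_self hF]⟩
        rw [C.farC_inj e (C.farC_T hw'),
          show c * (c * C.y w * c) * c = C.y w by simp only [mul_assoc, cc, mc, mul_one], ← C.near_one]
        exact C.at_near hw' 1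
    have ht1 := trace_one hF hl hl1
    have hQ : h w w = 1 := e.trace.symm.trans ht1
    have hw0 : w ≠ 0 := fun h1 => one_ne_zero (α := F) (by rw [← hQ, h1, h_zero_left hF])
    obtain ⟨hct, hrow⟩ := e.nonzero hl
    have hmem := X.sub.conj t e.mem c X.cS
    have hct' : ¬ Commute c (c * t * c) := fun h1 => hct (by
      have := (commute_conj_iff hD hcD (u := c) (v := c * t * c)).mpr h1
      simpa only [mul_assoc, cc, mc, mul_one, one_mul] using this)
    -- the image is again far
    have hfar : ¬ Commute d (c * t * c) := by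
      intro h1
      have h3 : Commute (c * d * c) t := by
        have := (commute_conj_iff hD hcD (u := d) (v := c * t * c)).mpr h1
        simpa only [mul_assoc, cc, mc, mul_one, one_mul] using this
      rw [← braid hD X.dD hcD X.dc] at h3
      have h4 : Commute c (d * t * d) := by
        have := (commute_conj_iff hD X.dD).mpr h3
        simpa only [mul_assoc, mul_mul_cancel_self (mul_self hD X.dD), mul_self hD X.dD, mul_one, one_mul] using this
      have hg := C.good_first _ C.at_d t e.mem _ (C.at_far e)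
      obtain ⟨l', w', e', -⟩ := C.farC_all (X.sub.conj t e.mem d X.dS) (fun h5 => C.row_far e.mem e.row (by
        have := (commute_conj_iff hD X.dD (u := d) (v := d * t * d)).mpr h5
        simpa only [mul_assoc, mul_mul_cancel_self (mul_self hD X.dD), mul_self hD X.dD, mul_one, one_mul] using this))
      obtain ⟨k, hk, ek⟩ := C.at_unique (C.at_far e') hg
      rw [tr, h_big, h_zero_right hF, map_zero, map_one, big_smul, big_add, big_smul] at ek
      obtain ⟨k1, -, k3⟩ := big_inj hF ek
      simp only [mul_zero, zero_add, mul_one, add_zero] at k1 k3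
      have hl'0 : l' ≠ 0 := fun h6 => hl1 (eq_of_add hF (by rw [k1, h6, mul_zero]))
      exact (e'.nonzero hl'0).1 h4
    obtain ⟨l', w', e', -⟩ := C.farC_all hmem hfar
    have hl'0 : l' ≠ 0 := fun h1 => hct' (e'.zero h1)
    have hr := C.swap.row_unique (e'.nonzero hl'0).2 (C.swap.row_d hrow)
    have hw' : w' = (l' * σ l) • w := by
      rw [mul_smul, ← hr, smul_smul, norm_one hF hl'0, one_smul]
    have hne : l' ≠ l := fun h1 => hct (by
      subst h1
      rw [norm_one hF hl, one_smul] at hw'
      subst hw'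
      have := C.farC_inj e' e
      show c * t = t * c
      calc c * t = c * t * c * c := by rw [mul_assoc _ c c, mc, mul_one]
        _ = t * c := by rw [this])
    have hl' : l' = l + 1 := trace_diff (hF := hF) e.trace (by
      rw [e'.trace, hw', diag_smul hF (mul_ne_zero hl'0 ((map_ne_zero _).mpr hl))]) hne
    have hl1' : l + 1 ≠ 0 := hl' ▸ hl'0
    have hsq : l * l + l = 1 := by rw [← ht1, frob_sq hF]; ring
    convert (C.at_far e').smul C hl1' using 1
    have e1 : l * (l + 1) = 1 := by linear_combination hsq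
    rw [big_smul, hw', hl', smul_smul, frob_sq hF, mul_one, add_comm 1 l,
      show (l + 1) * ((l + 1) * (l * l)) = 1 by linear_combination (l * (l + 1) + 1) * e1,
      one_smul, show (l + 1) * (l + 1) = l by linear_combination hsq + (1 + (1 : F) * 0) * two_zero hF + (l - 1) * 0 +
        (l * 0)]

theorem good_near {v : Fin m → F} (hv : Iso v) (ν : F) : C.Good (C.near v ν) := by
  have hD := X.hD
  set g := C.near v ν with hg
  obtain ⟨-, hgS, hgd⟩ := C.near_line hv ν
  rw [← hg] at hgS hgd
  have hgD := hgd.1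
  have mg := mul_self hD hgD
  have cg := mul_mul_cancel_self mg
  have hb : hh (big hF ν v 0) (big hF ν v 0) = 0 := by rw [h_big, hv.2, map_zero]; ring
  refine C.good_of (C.at_near hv ν) ?_ (fun u μ hu => ?_) (fun t l w e => ?_)
  · rw [hgd.2.2.symm.eq, mul_assoc, mg, mul_one]
    convert C.at_d using 1
    rw [tr, h_big, h_zero_left hF, map_zero]; simp
  · rw [C.near_conj hu hv μ ν]
    convert C.at_near (tr_iso hF hu hv) (μ + h u v * ν) using 1
    rw [tr, h_big, map_zero, big_smul, big_add, tr]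
    congr 1 <;> ring_nf
  set a := σ ν + h w v with ha
  have hwv : σ (ν + h v w) = a := by rw [map_add, h_swap hF]
  have htr : tr (big hF ν v 0) (big hF l w 1) = big hF (l + a * ν) (w + a • v) 1 := by
    rw [tr, h_big, map_zero, big_smul, big_add]
    rw [mul_zero, zero_add, one_mul, mul_zero, add_zero]
  rw [htr]
  set p := l + a * ν
  set w1 := w + a • v
  have hmem := X.sub.conj t e.mem g hgS
  have hfar : ¬ Commute d (g * t * g) := fun h1 => C.row_far e.mem e.row (by
    have := (commute_conj_iff hD hgD (u := d) (v := g * t * g)).mpr h1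
    rw [show g * d * g = d by rw [hgd.2.2.symm.eq, mul_assoc, mg, mul_one]] at this
    simpa only [mul_assoc, cg, mg, mul_one, one_mul] using this)
  obtain ⟨l', w', e', -⟩ := C.farC_all hmem hfar
  have hw : w' = w1 := C.row_unique e'.row (by
    have := C.row_conj e.row hv ν
    rwa [hwv] at this)
  subst hw
  suffices l' = p by rw [← this]; exact C.at_far e'
  have htp : p + σ p = h w1 w1 := by
    have h1 := tr_h hF hb (big hF l w 1) (big hF l w 1)
    rw [htr, h_big, h_big, map_one, mul_one, one_mul, mul_one, one_mul, e.trace, add_self hF] at h1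
    exact eq_of_add hF h1
  have q_comm : ∀ {t : G} {l : F} {w : Fin m → F}, C.FarC t l w → ∀ {z : Fin m → F}, Iso z →
      (Commute (C.qv z) t ↔ σ l + h z w = 0) := by
    intro t l w e z hz
    by_cases hl : l = 0
    · subst hl
      rw [map_zero, zero_add]
      have hw0 : h w w = 0 := by rw [← e.trace, map_zero, add_zero]
      by_cases hw : w = 0
      · subst hw
        rw [C.farC_inj e C.farC_c, h_zero_right hF]
        exact iff_of_true (C.qv_c hz).symm rfl
      · rw [C.farC_inj e (C.farC_q ⟨hw, hw0⟩)]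
        have := C.swap.near_comm hz (v := w) ⟨hw, hw0⟩ 1 1
        rwa [C.swap.near_one, C.swap.near_one, swap_y, swap_y] at this
    · have := (e.nonzero hl).2 z 1 hz
      rw [C.swap.near_one, swap_y] at this
      rw [this, h_smul_right hF, frob_frob hF]
      constructor
      · intro h1
        linear_combination σ l * h1 - h z w * norm_fix hF hl
      · intro h1
        linear_combination l * h1 - CfsgUniqueTT.Unitary.norm_one hF hl
  by_cases hν : ν = 0
  · have hg0 : g = X.M.pt v := by rw [hg, hν, near_zero]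
    have hgc : Commute g c := (C.near_c hv ν).mpr hν
    have hcfix : g * c * g = c := by rw [hgc.eq, mul_assoc, mg, mul_one]
    have hp : p = l := by simp only [p, hν, mul_zero, add_zero]
    rw [hp]
    have hiff : Commute c (g * t * g) ↔ Commute c t := by
      conv_lhs => rw [← hcfix]
      exact commute_conj_iff hD hgD
    by_cases hl : l = 0
    · rw [hl]
      by_contra h0
      exact (e'.nonzero h0).1 (hiff.mpr (e.zero hl))
    have hl' : l' ≠ 0 := fun h0 => (e.nonzero hl).1 (hiff.mp (e'.zero h0))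
    have hr := C.swap.row_conj (e.nonzero hl).2 hv 0
    rw [C.swap_zero hv, ← hg0, zero_add, h_smul_right hF, map_mul, frob_frob hF, h_swap hF, mul_smul,
      ← smul_add] at hr
    have hru := C.swap.row_unique (e'.nonzero hl').2 hr
    have hw1 : w + h w v • v = w1 := by simp only [w1, ha, hν, map_zero, zero_add]
    rw [hw1] at hru
    by_cases hw0 : w1 = 0
    · have t1 := e'.trace
      rw [hp] at htp
      rw [hw0, h_zero_left hF] at t1 htp
      rw [(trace_zero hF t1).resolve_left hl', (trace_zero hF htp).resolve_left hl]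
    · exact (frob hF).injective (smul_left_injective F hw0 hru)
  rcases diag_cases hF w1 with hQ | hQ
  · have t1 := trace_zero hF (e'.trace.trans hQ)
    have t2 := trace_zero hF (htp.trans hQ)
    suffices l' = 0 ↔ p = 0 by
      rcases t1 with a1 | a1 <;> rcases t2 with a2 | a2 <;> rw [a1, a2] at this ⊢
      · exact absurd (this.mp rfl) one_ne_zero
      · exact absurd (this.mpr rfl) one_ne_zero
    have i1 : l' = 0 ↔ Commute c (g * t * g) :=
      ⟨e'.zero, fun h1 => by by_contra h0; exact (e'.nonzero h0).1 h1⟩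
    have hyc : ¬ Commute g c := fun h1 => hν ((C.near_c hv ν).mp h1)
    have i2 : Commute c (g * t * g) ↔ Commute g (c * t * c) := by
      rw [← commute_conj_iff hD hgD (u := c)]
      simp only [mul_assoc, cg, mg, mul_one]
      rw [← mul_assoc g c g, braid hD hgD (X.sub.sub X.cS) hyc, ← commute_conj_iff hD (X.sub.sub X.cS)]
      simp only [mul_assoc, mul_mul_cancel_self (mul_self hD (X.sub.sub X.cS)), mul_self hD (X.sub.sub X.cS),
        mul_one]
    have i3 := C.at_comm_near (C.good_second _ (C.at_far C.farC_c) t e.mem _ (C.at_far e)) hv ν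
    rw [i1, i2, hg, i3, tr, h_big, h_zero_right hF, map_zero, map_one, big_smul, big_add, h_big]
    simp only [smul_zero, mul_one, mul_zero, zero_add, add_zero, zero_mul]
    have hs : σ ν * ν = 1 := norm_fix hF hν
    have key : σ (ν * σ (1 + l) + h v w) * ν = p := by
      simp only [p, ha, map_add, map_mul, map_one, frob_frob hF, h_swap hF]
      linear_combination l * hs
    constructor
    · intro h1
      rw [← key, h1, map_zero, zero_mul]
    · intro h1
      rw [← key] at h1
      have := (frob hF).injective (((mul_eq_zero.mp h1).resolve_right hν).trans (map_zero _).symm)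
      simpa using this
  obtain ⟨z, hz, hzv, hz1, hz2⟩ := exists_witness hF (hv.smul hF (inv_ne_zero hν)).1
    (hv.smul hF (inv_ne_zero hν)).2 hQ
  rw [h_smul_right hF, sigma_inv (inv_ne_zero hν), inv_inv] at hzv
  have hzv' : h z v = σ ν := by
    rw [sigma_inv hν]; exact eq_inv_of_mul_eq_one_right hzv
  have hz' : Iso z := ⟨fun h1 => (map_ne_zero (frob hF)).mpr hν (by rw [← hzv', h1, h_zero_left hF]), hz⟩
  have hfix : g * C.qv z * g = C.qv z := by
    have : Commute g (C.qv z) := (C.row_qv hz' v ν hv).mpr (by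
      rw [← h_swap hF z v, hzv', frob_frob hF, add_self hF])
    rw [this.eq, mul_assoc, mg, mul_one]
  have hiff : σ l' + h z w1 = 0 ↔ σ p + h z w1 = 0 := by
    rw [← q_comm e' hz']
    conv_lhs => rw [← hfix]
    rw [commute_conj_iff hD hgD, q_comm e hz']
    have e4 : σ p + h z w1 = σ l + h z w := by
      simp only [p, w1, map_add, map_mul, h_add_right hF, h_smul_right hF, hzv']
      linear_combination (σ a * σ ν) * two_zero hF
    rw [e4]
  by_contra hne
  have hp := trace_diff (hF := hF) htp e'.trace hne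
  have he : h z w1 + σ (h z w1) = 1 := by
    rw [h_swap hF]
    have := trace_one hF hz1 hz2
    rw [h_swap hF] at this
    linear_combination this
  have hs : σ p + σ (σ p) = 1 := by
    rw [frob_frob hF, ← hQ, ← htp]; ring
  rw [hp, map_add, map_one] at hiff
  rcases trace_zero (hF := hF) (a := σ p + h z w1) (by
    rw [map_add (frob hF) (σ p)]; linear_combination hs + he + two_zero hF) with h1 | h1
  · exact one_ne_zero (α := F) (by linear_combination hiff.mpr h1 - h1)
  · have h3 : σ p + 1 + h z w1 = 0 := by linear_combination h1 + two_zero hF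
    exact one_ne_zero (α := F) (h1.symm.trans (hiff.mp h3))

theorem good_all {g : G} (hg : g ∈ S) : C.Good g := by
  have hP : Closed X (fun g => C.Good g) := by
    refine ⟨C.good_first, C.good_second, fun t ht htd => ?_, fun a ha b hb hA hB => ?_⟩
    · obtain ⟨u, μ, hu, rfl⟩ := C.near_surj ht htd
      exact C.good_near hu μ
    · obtain ⟨va, hva⟩ := C.at_exists ha
      obtain ⟨vb, hvb⟩ := C.at_exists hb
      intro x hx t ht y hy
      obtain ⟨k, hk, rfl⟩ := C.at_unique (hB vb hvb a ha va hva) hx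
      rw [tr_smul hF _ _ hk, ← tr_comp hF (hvb.iso C).2,
        show b * a * b * t * (b * a * b) = b * (a * (b * t * b) * a) * b by simp only [mul_assoc]]
      have h1 := hB vb hvb t ht y hy
      have h2 := hA va hva _ (X.sub.conj t ht b hb) _ h1
      exact hB vb hvb _ (X.sub.conj _ (X.sub.conj t ht b hb) a ha) _ h2
  by_cases e : g = d
  · exact e ▸ C.good_first
  by_cases hc : Commute d g
  · exact hP.near g hg ⟨X.sub.sub hg, e, hc⟩
  · obtain ⟨l, w, -, hP'⟩ := C.farC_all hg hc
    exact hP' _ hP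

include C in
/-- The coordinatisation of the subspace. -/
theorem exists_model : Nonempty (Model hF S (m + 2)) := by
  classical
  choose! vec hvec using fun t (ht : t ∈ S) => C.at_exists ht
  have conj : ∀ a ∈ S, ∀ b ∈ S, ∃ k : F, k ≠ 0 ∧ vec (b * a * b) = k • tr (vec b) (vec a) := fun a ha b hb =>
    C.at_unique (C.good_all hb _ (hvec b hb) a ha _ (hvec a ha)) (hvec _ (X.sub.conj a ha b hb))
  have inj : ∀ a ∈ S, ∀ b ∈ S, ∀ k : F, vec a = k • vec b → a = b := fun a ha b hb k e => by
    have hk : k ≠ 0 := fun h0 => ((hvec a ha).iso C).1 (by rw [e, h0, zero_smul])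
    exact C.at_inj (hvec a ha) (e ▸ (hvec b hb).smul C hk)
  refine ⟨⟨vec, Nat.le_add_left 2 m, fun a ha => (hvec a ha).iso C, fun u hu => ?_, inj, fun a ha b hb => ?_, conj,
    X.sub.conj, fun a ha => ?_⟩⟩
  · obtain ⟨t, ht, e⟩ := C.at_surj hu
    exact ⟨t, ht, C.at_unique e (hvec t ht)⟩
  · obtain ⟨k, hk, ek⟩ := conj a ha b hb
    have mb := mul_self X.hD (X.sub.sub hb)
    constructor
    · intro hc
      rw [show b * a * b = a by rw [hc.symm.eq, mul_assoc, mb, mul_one]] at ek
      by_contra h0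
      have h1 : k ≠ 1 := by
        intro h1
        rw [h1, one_smul, tr, left_eq_add] at ek
        exact h0 ((smul_eq_zero.mp ek).resolve_right ((hvec b hb).iso C).1)
      have e2 : (1 - k) • vec a = (k * hh (vec a) (vec b)) • vec b := by
        rw [sub_smul, one_smul]
        nth_rewrite 1 [ek]
        rw [tr, smul_add, smul_smul]; abel
      refine h0 ?_
      rw [show vec a = ((1 - k)⁻¹ * (k * hh (vec a) (vec b))) • vec b by
        rw [mul_smul, ← e2, inv_smul_smul₀ (sub_ne_zero.mpr h1.symm)], h_smul_left, ((hvec b hb).iso C).2, mul_zero]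
    · intro h0
      rw [tr, h0, zero_smul, add_zero] at ek
      have e := inj _ (X.sub.conj a ha b hb) _ ha k ek
      show a * b = b * a
      calc a * b = b * a * b * b := by rw [e]
        _ = b * a := by rw [mul_assoc _ b b, mb, mul_one]
  · obtain ⟨g, hg, rfl⟩ := Sub.trans X.pol X.sub X.dS ha
    rw [Nat.add_sub_cancel, ← C.far_count]
    have : {b | b ∈ S ∧ ¬ Commute (g * d * g⁻¹) b} = (fun z => g * z * g⁻¹) '' {t | t ∈ S ∧ ¬ Commute d t} := by
      ext z
      constructor
      · rintro ⟨hz, hn⟩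
        refine ⟨g⁻¹ * z * g⁻¹⁻¹, ⟨Sub.mem_cj X.pol X.sub (inv_mem hg) hz, fun hc => hn ?_⟩, cj_inv g z⟩
        have := (commute_cj_iff g).mpr hc
        rwa [cj_inv] at this
      · rintro ⟨z, ⟨hz, hn⟩, rfl⟩
        exact ⟨Sub.mem_cj X.pol X.sub hg hz, fun hc => hn ((commute_cj_iff g).mp hc)⟩
    rw [this, Set.ncard_image_of_injective _ (cj_injective g)]

end Cover

end CfsgThreeTrans.Polar
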