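/-
Every non-degenerate subspace with a commuting pair is coordinatised.
-/
import Cfsg.Agent.Lib.ThreeTrans.Polar.Step
import Cfsg.Agent.Lib.ThreeTrans.Polar.Base

set_option autoImplicit false

namespace CfsgThreeTrans.Polar

open Cfsg CfsgLib CfsgThreeTrans

universe u v

variable {G : Type u} [Group G] [Finite G] {F : Type v} [Field F] [Fintype F] [DecidableEq F]
  (hF : Fintype.card F = 2 ^ 2) {D : Set G}

include hF in
/-- The coordinatisation, with the dimension bounded when the link has no commuting pair. -/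
theorem exists_model_of_pair (h : IsPolar D) (h5 : Five D) : ∀ (N : ℕ) {S : Set G}, S.ncard ≤ N → Sub D S →
    (∃ a ∈ S, ∃ b ∈ S, b ∈ Ds D a) → ∀ {d c : G}, d ∈ S → c ∈ S → ¬ Commute d c →
      ∃ m, 2 ≤ m ∧ Nonempty (Model hF S (m + 2)) ∧ (Apart (lk S d c) → m ≤ 3) := by
  intro N
  induction N with
  | zero =>
    intro S hS hs hpair d c hd hc hdc
    rw [Nat.le_zero, Set.ncard_eq_zero] at hS
    rw [hS] at hd
    exact absurd hd (Set.notMem_empty d)
  | succ N ih =>
    intro S hS hs hpair d c hd hc hdc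
    have hsub := Sub.lk_sub h hs hd hc hdc
    suffices ∃ m, Nonempty (Model hF (lk S d c) m) ∧ (Apart (lk S d c) → m ≤ 3) by
      obtain ⟨m, ⟨M⟩, hm⟩ := this
      let X : Setting hF D S d c m := ⟨h, h5, hs, hd, hc, hdc, M⟩
      obtain ⟨C⟩ := exists_cover X
      exact ⟨m, M.two, C.exists_model, hm⟩
    by_cases hA : Apart (lk S d c)
    · have hcl : ∀ a ∈ lk S d c, ∀ b ∈ lk S d c, op a b ∈ lk S d c := fun a ha b hb => hsub.conj b hb a ha
      rcases Sub.base_card h hs hd hc hdc hA h5 hpair with h3 | h9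
      · exact ⟨2, model_three h.cls.1 hsub.sub hA hcl h3, fun _ => by norm_num⟩
      · exact ⟨3, model_nine h.cls.1 hsub.sub hA hcl h9, fun _ => le_rfl⟩
    · have hA' := hA
      simp only [Apart, not_forall, not_not] at hA'
      obtain ⟨a, ha, b, hb, hne, hab⟩ := hA'
      obtain ⟨c', hc', hac⟩ := hsub.nondeg a ha
      have hlt := Sub.lk_ncard_lt h hs hd hc hdc
      obtain ⟨m, -, hM, -⟩ := ih (S := lk S d c) (by omega) hsub
        ⟨a, ha, b, hb, hsub.sub hb, fun e => hne e.symm, hab⟩ ha hc' hac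
      exact ⟨m + 2, hM, fun h' => absurd h' hA⟩

include hF in
theorem exists_coord (h : IsPolar D) (h5 : Five D) {d c : G} (hd : d ∈ D) (hc : c ∈ D) (hdc : ¬ Commute d c) :
    ∃ m, 2 ≤ m ∧ Nonempty (Model hF D (m + 2)) ∧ (Apart (lk D d c) → m ≤ 3) := by
  obtain ⟨a, ha, b, hb, hne, hab⟩ := h.pair
  exact exists_model_of_pair hF h h5 D.ncard le_rfl (Sub.univ_sub h) ⟨a, ha, b, hb, hb, fun e => hne e.symm, hab⟩
    hd hc hdc

end CfsgThreeTrans.Polar
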