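/-
A non-central two-core in the subgroup of the partners gives lines with a third point.
-/
import Cfsg.Agent.Lib.ThreeTrans.Polar.Lines
import Cfsg.Agent.Lib.ThreeTrans.Fischer

set_option autoImplicit false

namespace CfsgThreeTrans.Polar

open Cfsg CfsgLib CfsgThreeTrans

universe u

variable {G : Type u} [Group G] [Finite G] {D : Set G}

theorem of_core (hD : IsThreeTranspositionClass D) (hp : IsPrimitiveUnderConj D)
    (hw : ∃ a ∈ D, ∃ b ∈ D, a ≠ b ∧ Commute a b) {x : G} (hx : x ∈ D)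
    (h : ¬ pCore 2 ↥(Subgroup.closure (Ds D x)) ≤ Subgroup.center ↥(Subgroup.closure (Ds D x))) :
    IsPolar D := by
  set H := Subgroup.closure (Ds D x) with hH
  set S : Set ↥H := H.subtype ⁻¹' Ds D x with hS
  obtain ⟨e0, he0⟩ := exists_partner hD hw hx
  have hScls : IsThreeTranspositionClass S := by
    refine ⟨⟨fun a ha => ?_, fun a ha b hb => ?_⟩, ⟨⟨e0, Subgroup.subset_closure he0⟩, he0, Set.ext fun y => ⟨fun hy => ?_, fun hy => ?_⟩⟩, ?_⟩
    · rw [← Subgroup.orderOf_coe]; exact hD.1.1 _ (show (a : G) ∈ Ds D x from ha).1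
    · rcases hD.1.2 _ (show (a : G) ∈ Ds D x from ha).1 _ (show (b : G) ∈ Ds D x from hb).1 with h | h
      · exact Or.inl (Subtype.ext (by simpa using h))
      · exact Or.inr (Subtype.ext (by simpa using h))
    · obtain ⟨g, hg, hge⟩ := Ds_transitive hD hp hw hx e0 he0 _ (show (y : G) ∈ Ds D x from hy)
      exact isConj_iff.2 ⟨⟨g, hg⟩, Subtype.ext hge⟩
    · obtain ⟨g, rfl⟩ := isConj_iff.1 (show IsConj _ y from hy)
      show (g : G) * e0 * (g : G)⁻¹ ∈ Ds D x
      have hgx : (g : G) * x * (g : G)⁻¹ = x := by rw [(closure_Ds_commute g.2).eq, mul_inv_cancel_right]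
      rw [← hgx, ← cj_Ds hD]; exact ⟨e0, he0, rfl⟩
    · rw [hS]; exact Subgroup.closure_closure_coe_preimage
  obtain ⟨k, hk, e, he, hne⟩ : ∃ k ∈ pCore 2 ↥H, ∃ e ∈ S, k * e * k⁻¹ ≠ e := by
    by_contra hno
    push Not at hno
    refine h fun k hk => Subgroup.mem_center_iff.mpr fun g => ?_
    have hle : Subgroup.closure S ≤ Subgroup.centralizer ({k} : Set ↥H) := (Subgroup.closure_le _).mpr fun e he =>
      Subgroup.mem_centralizer_singleton_iff.mpr (mul_inv_eq_iff_eq_mul.mp (hno k hk e he)).symm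
    exact Subgroup.mem_centralizer_singleton_iff.mp (hle (hScls.2.2.symm ▸ Subgroup.mem_top g))
  have hmem : k * e * k⁻¹ ∈ S := cls_conj hScls k he
  have hV := mem_Vs_of_two hScls he hmem (by
    have h1 := mul_mem ((inferInstance : (pCore 2 ↥H).Normal).conj_mem' k hk e) (inv_mem hk)
    rwa [show e⁻¹ * k * e * k⁻¹ = e⁻¹ * (k * e * k⁻¹) by group] at h1)
  set c : G := ((k * e * k⁻¹ : ↥H) : G) with hc
  have hce : c ≠ e := fun hh => hne (Subtype.ext hh)
  have heD : (e : G) ∈ Ds D x := he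
  have hcD : c ∈ Ds D x := hmem
  have hec : Commute (e : G) c := by
    have := congrArg Subtype.val (Vs_comm (⟨he, fun _ _ => Iff.rfl⟩ : e ∈ Vs S e) hV).eq
    exact this
  have hline : c ∈ line D x e := by
    refine ⟨hcD.1, fun u hu h1 h2 => ?_⟩
    by_cases hux : u = x
    · exact hux ▸ hcD.2.2
    have huD : u ∈ Ds D x := ⟨hu, hux, h1.symm⟩
    have h3 : Commute e (⟨u, Subgroup.subset_closure huD⟩ : ↥H) := Subtype.ext h2.symm.eq
    have h4 := (hV.2 ⟨u, Subgroup.subset_closure huD⟩ huD).mpr h3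
    exact (show Commute c u from congrArg Subtype.val h4.eq).symm
  refine ⟨hD, hp, hw, fun a ha b hb => ?_⟩
  obtain ⟨g, rfl⟩ := cls_exists_conj hD hx ha
  have he' : g * (e : G) * g⁻¹ ∈ Ds D (g * x * g⁻¹) :=
    ⟨cls_conj hD g heD.1, fun h => heD.2.1 (cj_injective g h), (commute_cj_iff g).mpr heD.2.2⟩
  obtain ⟨g2, hg2, rfl⟩ := rank_three_near hD hp hw (cls_conj hD g hx) _ he' b hb
  have hg2x : g2 * (g * x * g⁻¹) * g2⁻¹ = g * x * g⁻¹ := by rw [hg2.eq, mul_inv_cancel_right]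
  refine ⟨g2 * (g * c * g⁻¹) * g2⁻¹, ?_, ?_, ?_⟩
  · have := cj_line_mem hD g2 (cj_line_mem hD g hline)
    rwa [hg2x] at this
  · intro hh
    exact hcD.2.1 (cj_injective g (cj_injective g2 (hh.trans hg2x.symm)))
  · exact fun hh => hce (cj_injective g (cj_injective g2 hh))

end CfsgThreeTrans.Polar
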