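/-
A polar class with lines of three points is the class of transvections of a symplectic group over two elements.
-/
import Cfsg.Agent.Lib.ThreeTrans.Polar.Three
import Cfsg.Agent.Lib.SympSimple

set_option autoImplicit false

namespace CfsgThreeTrans.Polar

open Cfsg CfsgLib CfsgThreeTrans Matrix CfsgLib.SympTransvection
open CfsgLib.SympGen (B tv_apply eq_one_of_fix TV_eq_top bas)

universe u

variable {G : Type u} [Group G] [Finite G] {D : Set G}

/-- The noncommuting row of a member. -/
noncomputable def row (D : Set G) (a : G) : ↥D → ZMod 2 := fun t =>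
  haveI := Classical.propDecidable (Commute a (t : G))
  if Commute a (t : G) then 0 else 1

theorem row_of_commute {a : G} {t : ↥D} (h : Commute a (t : G)) : row D a t = 0 := by
  simp [row, h]

theorem row_of_not {a : G} {t : ↥D} (h : ¬ Commute a (t : G)) : row D a t = 1 := by
  simp [row, h]

theorem row_injective (h : IsPolar D) {a b : G} (ha : a ∈ D) (hb : b ∈ D) (e : row D a = row D b) : a = b := by
  have : b ∈ Vs D a := by
    refine ⟨hb, fun t ht => ?_⟩
    have e' := congrFun e ⟨t, ht⟩
    by_cases h1 : Commute a t <;> by_cases h2 : Commute b t <;> simp [row, h1, h2] at e' ⊢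
  rw [Vs_trivial h.cls h.prim ha] at this
  exact (Set.mem_singleton_iff.mp this).symm

theorem row_add_far (h : IsPolar D) (ht : Thin D) {a b : G} (ha : a ∈ D) (hb : b ∈ D) (hab : ¬ Commute a b) :
    row D (a * b * a) = row D a + row D b := by
  funext t
  have hD := h.cls.1
  have ma := mul_self hD ha
  have mb := mul_self hD hb
  by_cases h1 : Commute a (t : G)
  · have hta : a * (t : G) * a = t := by rw [h1.eq, mul_assoc, ma, mul_one]
    have hiff : Commute (a * b * a) (t : G) ↔ Commute b (t : G) := by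
      conv_lhs => rw [← hta]
      exact commute_conj_iff hD ha
    by_cases h2 : Commute b (t : G)
    · simp [row, h1, h2, hiff.mpr h2]
    · simp [row, h1, h2, mt hiff.mp h2]
  by_cases h2 : Commute b (t : G)
  · have htb : b * (t : G) * b = t := by rw [h2.eq, mul_assoc, mb, mul_one]
    have h3 : ¬ Commute (a * b * a) (t : G) := by
      rw [braid hD ha hb hab, ← htb]
      exact fun c => h1 ((commute_conj_iff hD hb).mp c)
    simp [row, h1, h2, h3]
  · have h3 : Commute (a * b * a) (t : G) :=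
      (triple h ht ha hb t.2 hab (fun c => h1 c.symm) (fun c => h2 c.symm)).symm
    simp [row, h1, h2, h3]
    decide

theorem row_add_near (h : IsPolar D) (ht : Thin D) {a b : G} (ha : a ∈ D) (hb : b ∈ Ds D a) :
    ∃ c ∈ D, row D c = row D a + row D b := by
  obtain ⟨c, hc, hca, hcb⟩ := h.third a ha b hb
  refine ⟨c, hc.1, funext fun t => ?_⟩
  obtain ⟨p, hp, htp⟩ := exists_proj h ha hb t.2
  have hall : ∀ z ∈ line D a b, ∀ w ∈ line D a b, z ≠ w → Commute (t : G) z → Commute (t : G) w →
      Commute (t : G) a ∧ Commute (t : G) b ∧ Commute (t : G) c := fun z hz w hw hne h1 h2 =>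
    ⟨(mem_of_two h ha hb hz hw hne t.2 h1 h2).1, (mem_of_two h ha hb hz hw hne t.2 h1 h2).2,
      commute_line h ha hb hz hw hne hc t.2 h1 h2⟩
  by_cases h1 : Commute a (t : G) <;> by_cases h2 : Commute b (t : G) <;> by_cases h3 : Commute c (t : G)
  · simp [row, h1, h2, h3]
  · exact absurd (hall a (left_mem ha) b (right_mem hb.1) hb.2.1.symm h1.symm h2.symm).2.2.symm h3
  · exact absurd (hall a (left_mem ha) c hc hca.symm h1.symm h3.symm).2.1.symm h2
  · simp [row, h1, h2, h3]
  · exact absurd (hall b (right_mem hb.1) c hc hcb.symm h2.symm h3.symm).1.symm h1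
  · simp [row, h1, h2, h3]
  · simp [row, h1, h2, h3]
    decide
  · exfalso
    rcases ht a ha b hb c hc hca hcb p hp with e | e | e <;> subst e
    exacts [h1 htp.symm, h2 htp.symm, h3 htp.symm]

/-- The space of rows. -/
def space (h : IsPolar D) (ht : Thin D) : Submodule (ZMod 2) (↥D → ZMod 2) where
  carrier := {f | f = 0 ∨ ∃ a ∈ D, f = row D a}
  zero_mem' := Or.inl rfl
  add_mem' := by
    rintro f g (rfl | ⟨a, ha, rfl⟩) (rfl | ⟨b, hb, rfl⟩)
    · exact Or.inl (add_zero _)
    · exact Or.inr ⟨b, hb, zero_add _⟩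
    · exact Or.inr ⟨a, ha, add_zero _⟩
    by_cases hab : a = b
    · subst hab
      exact Or.inl (funext fun _ => CharTwo.add_self_eq_zero _)
    by_cases hc : Commute a b
    · obtain ⟨c, hc', e⟩ := row_add_near h ht ha ⟨hb, Ne.symm hab, hc⟩
      exact Or.inr ⟨c, hc', e.symm⟩
    · exact Or.inr ⟨_, cj_mem h hb ha, (row_add_far h ht ha hb hc).symm⟩
  smul_mem' := by
    intro c f hf
    rcases (by decide : ∀ c : ZMod 2, c = 0 ∨ c = 1) c with rfl | rfl
    · exact Or.inl (zero_smul _ f)
    · rw [one_smul]; exact hf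

theorem row_mem (h : IsPolar D) (ht : Thin D) {a : G} (ha : a ∈ D) : row D a ∈ space h ht := Or.inr ⟨a, ha, rfl⟩

/-- A family of members paired like a symplectic basis. -/
structure Frame (D : Set G) (m : ℕ) where
  pt : Fin m ⊕ Fin m → ↥D
  gram : ∀ i j, row D (pt i : G) (pt j) = Matrix.J (Fin m) (ZMod 2) i j

/-- The combination of the rows of a frame. -/
noncomputable def comb {m : ℕ} (F : Frame D m) (v : Fin m ⊕ Fin m → ZMod 2) : ↥D → ZMod 2 :=
  ∑ i, v i • row D (F.pt i : G)

theorem comb_apply {m : ℕ} (F : Frame D m) (v : Fin m ⊕ Fin m → ZMod 2) (t : ↥D) :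
    comb F v t = ∑ i, v i * row D (F.pt i : G) t := by
  simp [comb, Finset.sum_apply]

theorem comb_pt {m : ℕ} (F : Frame D m) (v : Fin m ⊕ Fin m → ZMod 2) (j : Fin m ⊕ Fin m) :
    comb F v (F.pt j) = B v (Pi.single j 1) := by
  rw [comb_apply]
  simp only [F.gram, B, Matrix.mulVec_single_one, dotProduct, Matrix.col_apply]

theorem comb_injective {m : ℕ} (F : Frame D m) : Function.Injective (comb F) := by
  intro v w e
  by_contra hne
  have hvw : v - w ≠ 0 := sub_ne_zero.mpr hne
  obtain ⟨j, hj⟩ := Function.ne_iff.mp (J_mulVec_ne_zero hvw)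
  apply hj
  have e1 : B v (Pi.single j 1) = B w (Pi.single j 1) := by rw [← comb_pt F v j, ← comb_pt F w j, e]
  have h2 : B (v - w) (Pi.single j 1) = 0 := by rw [SympGen.B_sub_left, e1, sub_self]
  rw [SympGen.B_swap, neg_eq_zero] at h2
  simpa [B, single_dotProduct] using h2

theorem exists_frame (h : IsPolar D) (ht : Thin D) :
    ∃ (m : ℕ) (F : Frame D m), ∀ a ∈ D, ∃ v, comb F v = row D a := by
  classical
  haveI : Finite ↥D := Subtype.finite
  have hbdd : ∀ m, Nonempty (Frame D m) → m ≤ Nat.card ↥D := by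
    rintro m ⟨F⟩
    have hinj : Function.Injective F.pt := by
      intro i j e
      by_contra hne
      refine hne ?_
      have h1 : comb F (Pi.single i 1) = comb F (Pi.single j 1) := by
        funext t
        simp [comb_apply, Pi.single_apply, ite_mul, e]
      have := congrFun (comb_injective F h1) i
      by_contra h2
      simp [h2] at this
    have := Nat.card_le_card_of_injective _ hinj
    simp only [Nat.card_sum, Nat.card_fin] at this
    omega
  have hne : Nonempty (Frame D 0) := ⟨⟨fun i => isEmptyElim i, fun i => isEmptyElim i⟩⟩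
  set m := Nat.findGreatest (fun m => Nonempty (Frame D m)) (Nat.card ↥D) with hm
  have hFm : Nonempty (Frame D m) :=
    Nat.findGreatest_spec (P := fun m => Nonempty (Frame D m)) (Nat.zero_le _) hne
  obtain ⟨F⟩ := hFm
  refine ⟨m, F, fun a ha => ?_⟩
  by_contra hno
  push Not at hno
  -- the residual of a member against the frame
  have hres : ∀ g ∈ D, ∃ (d : ↥D → ZMod 2) (v : Fin m ⊕ Fin m → ZMod 2),
      d = row D g + comb F v ∧ d ∈ space h ht ∧ ∀ j, d (F.pt j) = 0 := by
    intro g hg
    obtain ⟨v, hv⟩ : ∃ v : Fin m ⊕ Fin m → ZMod 2, ∀ j, B v (Pi.single j 1) = row D g (F.pt j) := by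
      refine ⟨Sum.elim (fun i => row D g (F.pt (.inr i))) (fun i => row D g (F.pt (.inl i))), ?_⟩
      rintro (j | j) <;>
        simp [B, Matrix.J, dotProduct, Fintype.sum_sum_type, Matrix.fromBlocks, Matrix.one_apply, Pi.single_apply,
          Matrix.mulVec, CharTwo.neg_eq]
    refine ⟨_, v, rfl, (space h ht).add_mem (row_mem h ht hg) ?_, fun j => ?_⟩
    · exact Submodule.sum_mem _ fun i _ => Submodule.smul_mem _ _ (row_mem h ht (F.pt i).2)
    · simp only [Pi.add_apply, comb_pt, hv, CharTwo.add_self_eq_zero]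
  obtain ⟨r, v, hr, hrm, hr0⟩ := hres a ha
  rcases hrm with hr' | ⟨c, hc, hrc⟩
  · refine hno v ?_
    rw [hr'] at hr
    funext t
    have := congrFun hr t
    exact ((CharTwo.add_eq_zero).mp this.symm).symm
  have hcF : ∀ j, Commute c (F.pt j : G) := fun j => by
    by_contra hn
    have := hr0 j
    rw [hrc, row_of_not hn] at this
    exact one_ne_zero this
  obtain ⟨g, hg, hcg⟩ := exists_noncommute h.cls h.prim.2.1 hc
  obtain ⟨r', v', hr', hrm', hr0'⟩ := hres g hg
  have hrc' : r' ⟨c, hc⟩ = 1 := by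
    rw [hr', Pi.add_apply, row_of_not (t := ⟨c, hc⟩) (fun e => hcg e.symm), comb_apply,
      Finset.sum_eq_zero (fun i _ => by rw [row_of_commute (t := ⟨c, hc⟩) (hcF i).symm, mul_zero]), add_zero]
  rcases hrm' with e | ⟨d, hd, e⟩
  · rw [e] at hrc'; exact zero_ne_one hrc'
  have hdF : ∀ j, Commute d (F.pt j : G) := fun j => by
    by_contra hn
    have := hr0' j
    rw [e, row_of_not hn] at this
    exact one_ne_zero this
  have hdc : ¬ Commute d c := fun hh => by
    rw [e, row_of_commute (t := ⟨c, hc⟩) hh] at hrc'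
    exact zero_ne_one hrc'
  let pt' : Fin (m + 1) ⊕ Fin (m + 1) → ↥D :=
    Sum.elim (Fin.cons ⟨c, hc⟩ fun i => F.pt (.inl i)) (Fin.cons ⟨d, hd⟩ fun i => F.pt (.inr i))
  have hbig : Nonempty (Frame D (m + 1)) := by
    refine ⟨⟨pt', ?_⟩⟩
    rintro (i | i) (j | j) <;> induction i using Fin.cases <;> induction j using Fin.cases <;>
      simp [pt', row_of_commute, row_of_not, hcF, hdF, fun k => (hcF k).symm, fun k => (hdF k).symm, hdc,
        show ¬ Commute c d from fun e => hdc (Commute.symm e), Commute.refl, F.gram, Matrix.J, Matrix.fromBlocks, Matrix.one_apply,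
        CharTwo.neg_eq, Fin.succ_ne_zero, eq_comm (a := (0 : Fin (m + 1)))]
  have := Nat.le_findGreatest (P := fun m => Nonempty (Frame D m)) (hbdd _ hbig) hbig
  omega

/-- A spanning frame identifies the group with the symplectic group of its size. -/
theorem symp_iso' (h : IsPolar D) (ht : Thin D) (hZ : Subgroup.center G = ⊥) {m : ℕ} (F : Frame D m)
    (hcov : ∀ a ∈ D, ∃ v, comb F v = row D a) : Nonempty (G ≃* Matrix.symplecticGroup (Fin m) (ZMod 2)) := by
  classical
  have hD := h.cls.1
  choose! v hv using hcov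
  have hB : ∀ a ∈ D, ∀ b (hb : b ∈ D), B (v a) (v b) = row D a ⟨b, hb⟩ := by
    intro a ha b hb
    have h1 : ∀ j, B (v b) (Pi.single j 1) = row D b (F.pt j) := fun j => by
      rw [← comb_pt F, hv b hb]
    rw [← hv a ha, comb_apply]
    have e : ∀ i, row D (F.pt i : G) ⟨b, hb⟩ = row D b (F.pt i) := fun i => by
      by_cases hc : Commute (F.pt i : G) b
      · rw [row_of_commute (t := ⟨b, hb⟩) hc, row_of_commute hc.symm]
      · rw [row_of_not (t := ⟨b, hb⟩) hc, row_of_not fun c => hc c.symm]
    simp only [e, ← h1]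
    refine Finset.sum_congr rfl fun i _ => ?_
    congr 1
    rw [SympGen.B_swap, CharTwo.neg_eq, B, single_dotProduct, one_mul]
  have hv0 : ∀ a ∈ D, v a ≠ 0 := by
    intro a ha e
    obtain ⟨g, hg, hag⟩ := exists_noncommute h.cls h.prim.2.1 ha
    have := hB a ha g hg
    rw [e, row_of_not (t := ⟨g, hg⟩) hag, B, zero_dotProduct] at this
    exact zero_ne_one this
  have hvinj : ∀ a ∈ D, ∀ b ∈ D, v a = v b → a = b := fun a ha b hb e =>
    row_injective h ha hb (by rw [← hv a ha, ← hv b hb, e])
  have hvsurj : ∀ w, w ≠ 0 → ∃ a ∈ D, v a = w := by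
    intro w hw
    have hm : comb F w ∈ space h ht :=
      Submodule.sum_mem _ fun i _ => Submodule.smul_mem _ _ (row_mem h ht (F.pt i).2)
    rcases hm with e | ⟨a, ha, e⟩
    · exact absurd (comb_injective F (e.trans (by funext t; simp [comb_apply]))) hw
    · exact ⟨a, ha, comb_injective F ((hv a ha).trans e.symm)⟩
  have hstep : ∀ a ∈ D, ∀ b ∈ D, (tv (v a) 1).1 *ᵥ v b = v (a * b * a) := by
    intro a ha b hb
    rw [tv_apply, one_mul, hB b hb a ha]
    by_cases hc : Commute b a
    · rw [row_of_commute (t := ⟨a, ha⟩) hc, zero_smul, add_zero, hc.symm.eq, mul_assoc, mul_self hD ha, mul_one]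
    · rw [row_of_not (t := ⟨a, ha⟩) hc, one_smul]
      refine comb_injective F ?_
      rw [hv _ (cj_mem h hb ha), row_add_far h ht ha hb (fun e => hc e.symm), ← hv a ha, ← hv b hb]
      funext t
      simp [comb_apply, add_mul, Finset.sum_add_distrib, add_comm]
  let S : Subgroup (G × Matrix.symplecticGroup (Fin m) (ZMod 2)) :=
    { carrier := {p | ∀ a ∈ D, p.2.1 *ᵥ v a = v (p.1 * a * p.1⁻¹)}
      one_mem' := fun a _ => by simp
      mul_mem' := fun {p q} hp hq a ha => by
        rw [Prod.snd_mul, SympGen.mul_apply, hq a ha, hp _ (cls_conj h.cls q.1 ha), Prod.fst_mul, cj_cj]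
      inv_mem' := fun {p} hp a ha => by
        have h1 := hp _ (cls_conj h.cls p.1⁻¹ ha)
        rw [cj_inv] at h1
        rw [Prod.snd_inv, Prod.fst_inv, ← h1, ← SympGen.mul_apply, inv_mul_cancel, SympGen.one_apply] }
  have hgen : ∀ a ∈ D, ((a, tv (v a) 1) : G × _) ∈ S := fun a ha b hb => by
    rw [hstep a ha b hb, inv_self hD ha]
  let π₁ : S →* G := (MonoidHom.fst _ _).comp S.subtype
  let π₂ : S →* Matrix.symplecticGroup (Fin m) (ZMod 2) := (MonoidHom.snd _ _).comp S.subtype
  have s1 : Function.Surjective π₁ := by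
    rw [← MonoidHom.range_eq_top, eq_top_iff, ← h.cls.2.2, Subgroup.closure_le]
    exact fun a ha => ⟨⟨_, hgen a ha⟩, rfl⟩
  have s2 : Function.Surjective π₂ := by
    rw [← MonoidHom.range_eq_top, eq_top_iff, ← TV_eq_top, SympGen.TV, Subgroup.closure_le]
    rintro A ⟨w, c, hA⟩
    have hA' : A = tv w c := Subtype.ext hA
    subst hA'
    by_cases hw : w = 0
    · subst hw; rw [SympSimple.tv_zero_vec]; exact one_mem _
    rcases (by decide : ∀ c : ZMod 2, c = 0 ∨ c = 1) c with rfl | rfl
    · rw [SympSimple.tv_zero]; exact one_mem _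
    · obtain ⟨a, ha, rfl⟩ := hvsurj w hw
      exact ⟨⟨_, hgen a ha⟩, rfl⟩
  have i1 : Function.Injective π₁ := by
    rw [injective_iff_map_eq_one]
    rintro ⟨⟨g, A⟩, hp⟩ (rfl : g = 1)
    refine Subtype.ext (Prod.ext rfl (eq_one_of_fix A fun i => ?_))
    obtain ⟨a, ha, e⟩ := hvsurj (bas i) (fun e => (one_ne_zero (α := ZMod 2)) (by simpa using congrFun e i))
    rw [← e]
    simpa using hp a ha
  have i2 : Function.Injective π₂ := by
    rw [injective_iff_map_eq_one]
    rintro ⟨⟨g, A⟩, hp⟩ (rfl : A = 1)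
    have : g = 1 := by
      refine Subgroup.mem_bot.mp (hZ ▸ mem_center_of_commute_cls h.cls fun a ha => ?_)
      have h1 := hp a ha
      simp only [SympGen.one_apply] at h1
      exact mul_inv_eq_iff_eq_mul.mp (hvinj a ha _ (cls_conj h.cls g ha) h1).symm
    subst this
    rfl
  exact ⟨(MulEquiv.ofBijective π₁ ⟨i1, s1⟩).symm.trans (MulEquiv.ofBijective π₂ ⟨i2, s2⟩)⟩

/-- The identification with the symplectic group. -/
theorem symp_iso (h : IsPolar D) (ht : Thin D) (hZ : Subgroup.center G = ⊥) :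
    ∃ m : ℕ, Nonempty (G ≃* Matrix.symplecticGroup (Fin m) (ZMod 2)) :=
  let ⟨m, F, hcov⟩ := exists_frame h ht
  ⟨m, symp_iso' h ht hZ F hcov⟩

end CfsgThreeTrans.Polar
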