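/-
The polar case of Fischer's theorem.
-/
import Cfsg.Agent.Lib.ThreeTrans.Polar.Rec
import Cfsg.Agent.Lib.ThreeTrans.Polar.Iso
import Cfsg.Agent.Lib.ThreeTrans.Polar.Symp
import Cfsg.Agent.Lib.ThreeTrans.Polar.Setup
import Cfsg.Agent.Lib.ThreeTrans.Petersen
import Cfsg.Agent.Lib.PSolvable
import Cfsg.Agent.S0245
import Cfsg.Agent.S0247

set_option autoImplicit false

namespace CfsgThreeTrans.Polar

open Cfsg CfsgLib CfsgThreeTrans

universe u

variable {G : Type u} [Group G] [Finite G] {D : Set G}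

theorem center_eq_bot (hsol : ∀ N : Subgroup G, N.Normal → Group.IsSolvable N → N = ⊥) :
    Subgroup.center G = ⊥ :=
  hsol _ inferInstance (Group.isSolvable_of_comm fun a b => Subtype.ext (Subgroup.mem_center_iff.mp b.2 (a : G)))

theorem two_members (hsol : ∀ N : Subgroup G, N.Normal → Group.IsSolvable N → N = ⊥)
    (hD : IsThreeTranspositionClass D) {x : G} (hx : x ∈ D) : ∃ a ∈ D, ∃ b ∈ D, a ≠ b := by
  by_contra hno
  push Not at hno
  have h1 : x = 1 := by
    refine Subgroup.mem_bot.mp (center_eq_bot hsol ▸ mem_center_of_commute_cls hD fun a ha => ?_)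
    rw [hno a ha x hx]
  have := hD.1.1 x hx
  rw [h1, orderOf_one] at this
  exact absurd this (by norm_num)

theorem prim_of_sol (hsol : ∀ N : Subgroup G, N.Normal → Group.IsSolvable N → N = ⊥)
    (hperf : ⁅commutator G, commutator G⁆ = commutator G) (hD : IsThreeTranspositionClass D) {x : G} (hx : x ∈ D) :
    IsPrimitiveUnderConj D ∧ ∃ a ∈ D, ∃ b ∈ D, a ≠ b ∧ Commute a b :=
  fischer_prim hsol hperf hD (two_members hsol hD hx)

/-- The field of four elements. -/
theorem exists_field_four : ∃ (F : Type) (_ : Field F) (_ : Fintype F), Fintype.card F = 4 := by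
  haveI : Fact (Nat.Prime 2) := ⟨Nat.prime_two⟩
  haveI := Fintype.ofFinite (GaloisField 2 2)
  refine ⟨GaloisField 2 2, inferInstance, inferInstance, ?_⟩
  rw [← Nat.card_eq_fintype_card, GaloisField.card 2 2 two_ne_zero]
  norm_num

theorem solvable_all (hD : IsThreeTranspositionClass D) {x : G} (hx : x ∈ D)
    (hs : Group.IsSolvable ↥(Subgroup.closure (Ds D x))) {a : G} (ha : a ∈ D) :
    Group.IsSolvable ↥(Subgroup.closure (Ds D a)) := by
  obtain ⟨g, rfl⟩ := cls_exists_conj hD hx ha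
  have e : (Subgroup.closure (Ds D x)).map (MulAut.conj g).toMonoidHom = Subgroup.closure (Ds D (g * x * g⁻¹)) := by
    rw [MonoidHom.map_closure, ← cj_Ds hD]
    rfl
  rw [← e]
  exact solvable_of_surjective
    (f := ((Subgroup.closure (Ds D x)).equivMapOfInjective _ (MulAut.conj g).injective).toMonoidHom)
    (MulEquiv.surjective _)

/-- With solvable partner subgroups, common partners of noncommuting members do not commute. -/
theorem no_pair (h : IsPolar D) (hs : ∀ a ∈ D, Group.IsSolvable ↥(Subgroup.closure (Ds D a))) {d c : G}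
    (hd : d ∈ D) (hc : c ∈ D) (hdc : ¬ Commute d c) : Apart (lk D d c) := by
  intro y hy z hz hne hyz
  have hD := h.cls.1
  have hyd := (Sub.lk_ne h (Sub.univ_sub h) hd hc hdc hy).1
  have hyc := (Sub.lk_ne h (Sub.univ_sub h) hd hc hdc hy).2
  have hzd := (Sub.lk_ne h (Sub.univ_sub h) hd hc hdc hz).1
  have hdy : d ∈ Ds D y := Ds_symm hd hyd
  have hcy : c ∈ Ds D y := Ds_symm hc hyc
  have hzy : z ∈ Ds D y := ⟨hz.1, fun e => hne e.symm, hyz⟩
  obtain ⟨w, hw, hwy, hwd, hwz⟩ : ∃ w ∈ D, Commute w y ∧ Commute w d ∧ ¬ Commute w z := by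
    by_contra hno
    push Not at hno
    have hzl : z ∈ line D y d := ⟨hz.1, fun u hu h1 h2 => (hno u hu h1 h2)⟩
    exact hdc (commute_line h hy.1 hdy (left_mem hy.1) hzl hne (right_mem hd) hc hy.2.2 hz.2.2).symm
  have hwy' : w ∈ Ds D y := ⟨hw, fun e => hwz (e ▸ hyz), hwy.symm⟩
  suffices ∃ d' p a b : G, d' ∈ Ds D y ∧ p ∈ Ds D y ∧ a ∈ Ds D y ∧ b ∈ Ds D y ∧ ¬ Commute d' p ∧ Commute d' a ∧
      Commute d' b ∧ ¬ Commute p a ∧ Commute p b ∧ ¬ Commute a b ∧ d' ≠ a by
    obtain ⟨d', p, a, b, m1, m2, m3, m4, h1, h2, h3, h4, h5, h6, h7⟩ := this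
    obtain ⟨φ, hφ, -, -, -, -, hr⟩ := Petersen.exists_hom_five hD m1.1 m2.1 m3.1 m4.1 h1 h2 h3 h4 h5 h6 h7
    haveI := hs y hy.1
    have hle : φ.range ≤ Subgroup.closure (Ds D y) := by
      rw [hr]
      refine Subgroup.closure_mono ?_
      rintro _ (rfl | rfl | rfl | rfl) <;> assumption
    exact Equiv.Perm.fin_5_not_solvable (solvable_of_solvable_injective
      (f := φ.codRestrict (Subgroup.closure (Ds D y)) fun s => hle ⟨s, rfl⟩)
      fun a b e => hφ (congrArg Subtype.val e))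
  by_cases hwc : Commute w c
  · obtain ⟨e, he, hed, hez⟩ := h.third d hd z hzd
    have hce : ¬ Commute c e := fun hh => hdc
      (commute_line h hd hzd he (right_mem hz.1) hez (left_mem hd) hc hh hz.2.2).symm
    have hwe : ¬ Commute w e := fun hh => hwz
      (commute_line h hd hzd (left_mem hd) he hed.symm (right_mem hz.1) hw hwd hh)
    have hey : e ∈ Ds D y := ⟨he.1, fun e' => hce (e' ▸ hy.2.2), (he.2 y hy.1 hy.2.1.symm hyz)⟩
    exact ⟨d, c, e, w, hdy, hcy, hey, hwy', hdc, line_commute hzd hd (left_mem hd) he, hwd.symm, hce, hwc.symm,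
      fun hh => hwe hh.symm, hed.symm⟩
  · exact ⟨z, w, c, d, hzy, hwy', hcy, hdy, fun hh => hwz hh.symm, hz.2.2.symm, hz.2.1.symm, hwc, hwd,
      fun hh => hdc hh.symm, fun e => hdc (e ▸ hz.2.1)⟩

theorem thin_solvable (h : IsPolar D) (ht : Thin D) (hs : ∀ a ∈ D, Group.IsSolvable ↥(Subgroup.closure (Ds D a)))
    (hZ : Subgroup.center G = ⊥) : Nonempty (G ≃* Equiv.Perm (Fin 6)) := by
  classical
  obtain ⟨m, F, hcov⟩ := exists_frame h ht
  obtain ⟨φ⟩ := symp_iso' h ht hZ F hcov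
  have hcomm : ∀ i j, Commute (F.pt i : G) (F.pt j) ↔ Matrix.J (Fin m) (ZMod 2) i j = 0 := fun i j => by
    rw [← F.gram i j]
    by_cases hc : Commute (F.pt i : G) (F.pt j)
    · exact iff_of_true hc (row_of_commute hc)
    · exact iff_of_false hc (by rw [row_of_not hc]; exact one_ne_zero)
  rcases (show m ≤ 1 ∨ m = 2 ∨ 3 ≤ m by omega) with hm | rfl | hm
  · exfalso
    obtain ⟨a, ha, b, hb, hab, hc⟩ := h.pair
    have hcard : Nat.card G ∣ 6 := by
      rw [Nat.card_congr φ.toEquiv, Cfsg.Agent.S0245.result (ZMod.card 2) m]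
      interval_cases m <;> decide
    haveI : Fact (Nat.Prime 3) := ⟨Nat.prime_three⟩
    set C := Subgroup.centralizer ({a} : Set G)
    have haC : a ∈ C := Subgroup.mem_centralizer_singleton_iff.mpr rfl
    have hdvd := (Subgroup.card_subgroup_dvd_card C).trans hcard
    have h2 : 2 ∣ Nat.card C := by
      rw [← h.cls.1.1 a ha, ← Subgroup.orderOf_mk a haC]
      exact orderOf_dvd_natCard _
    have hne1 : a ≠ 1 := fun e => by
      have := h.cls.1.1 a ha
      rw [e, orderOf_one] at this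
      exact absurd this (by norm_num)
    have hne1' : b ≠ 1 := fun e => by
      have := h.cls.1.1 b hb
      rw [e, orderOf_one] at this
      exact absurd this (by norm_num)
    have h3 : 3 ≤ Nat.card C := by
      have : ({1, a, b} : Set G) ⊆ C := by
        rintro _ (rfl | rfl | rfl)
        · exact one_mem C
        · exact haC
        · exact Subgroup.mem_centralizer_singleton_iff.mpr hc.symm
      have h4 := Set.ncard_le_ncard this (Set.toFinite _)
      rw [Set.ncard_insert_of_notMem (by simp [hne1.symm, hne1'.symm]), Set.ncard_pair hab] at h4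
      exact h4
    have hC6 : Nat.card C = 6 := by
      have := Nat.le_of_dvd (by norm_num) hdvd
      interval_cases hh : Nat.card C <;> omega
    have hC : C = ⊤ := Subgroup.eq_top_of_card_eq _
      (le_antisymm (Subgroup.card_le_card_group C) (hC6 ▸ Nat.le_of_dvd (by norm_num) hcard))
    exact hne1 (Subgroup.mem_bot.mp (hZ ▸ Subgroup.mem_center_iff.mpr fun g =>
      Subgroup.mem_centralizer_singleton_iff.mp (hC ▸ Subgroup.mem_top g : g ∈ C)))
  · exact ⟨φ.trans (Classical.choice (Cfsg.Agent.S0247.result (ZMod.card 2)))⟩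
  · exfalso
    let i0 : Fin m := ⟨0, by omega⟩
    let i1 : Fin m := ⟨1, by omega⟩
    let i2 : Fin m := ⟨2, by omega⟩
    have hdc : ¬ Commute (F.pt (.inl i0) : G) (F.pt (.inr i0)) := by
      rw [hcomm]; simp [Matrix.J, Matrix.fromBlocks]
    have hmem : ∀ i : Fin m, i ≠ i0 → (F.pt (.inl i) : G) ∈ lk D (F.pt (.inl i0) : G) (F.pt (.inr i0) : G) := by
      refine fun i hi => ⟨(F.pt (.inl i)).2, ?_, ?_⟩ <;>
        rw [hcomm] <;> simp [Matrix.J, Matrix.fromBlocks, hi, hi.symm]
    refine no_pair h hs (F.pt (.inl i0)).2 (F.pt (.inr i0)).2 hdc _ (hmem i1 ?_) _ (hmem i2 ?_) (fun e => ?_) ?_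
    · simp [i0, i1]
    · simp [i0, i2]
    · have h1 : ¬ Commute (F.pt (.inl i1) : G) (F.pt (.inr i1)) := by rw [hcomm]; simp [Matrix.J, Matrix.fromBlocks]
      apply h1
      rw [e, hcomm]
      simp [Matrix.J, Matrix.fromBlocks, i1, i2]
    · rw [hcomm]; simp [Matrix.J, Matrix.fromBlocks]

theorem polar_iso (h : IsPolar D) (hZ : Subgroup.center G = ⊥) {x : G} (hx : x ∈ D) :
    (∃ n : ℕ, Nonempty (G ≃* Matrix.symplecticGroup (Fin n) (ZMod 2))) ∨
      ∃ (F : Type) (_ : Field F) (_ : Fintype F) (n : ℕ), Fintype.card F = 4 ∧ Nonempty (G ≃* Cfsg.PSU n F 2) := by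
  classical
  by_cases ht : Thin D
  · exact Or.inl (symp_iso h ht hZ)
  · obtain ⟨F, i1, i2, hF⟩ := exists_field_four
    have hF' : Fintype.card F = 2 ^ 2 := by rw [hF]; norm_num
    obtain ⟨c, hc, hxc⟩ := exists_noncommute h.cls h.prim.2.1 hx
    obtain ⟨m, hm, ⟨M⟩, -⟩ := exists_coord hF' h (five_of_not_thin h ht) hx hc hxc
    exact Or.inr ⟨F, i1, i2, m + 2, hF, unitary_iso h (by omega) M hZ⟩

theorem polar_solvable (h : IsPolar D) (hZ : Subgroup.center G = ⊥) {x : G} (hx : x ∈ D)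
    (hs : Group.IsSolvable ↥(Subgroup.closure (Ds D x))) :
    Nonempty (G ≃* Equiv.Perm (Fin 6)) ∨ ∃ (F : Type) (_ : Field F) (_ : Fintype F),
      Fintype.card F = 4 ∧ (Nonempty (G ≃* Cfsg.PSU 4 F 2) ∨ Nonempty (G ≃* Cfsg.PSU 5 F 2)) := by
  classical
  have hall : ∀ a ∈ D, Group.IsSolvable ↥(Subgroup.closure (Ds D a)) := fun a ha => solvable_all h.cls hx hs ha
  by_cases ht : Thin D
  · exact Or.inl (thin_solvable h ht hall hZ)
  · obtain ⟨F, i1, i2, hF⟩ := exists_field_four
    have hF' : Fintype.card F = 2 ^ 2 := by rw [hF]; norm_num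
    obtain ⟨c, hc, hxc⟩ := exists_noncommute h.cls h.prim.2.1 hx
    obtain ⟨m, hm, ⟨M⟩, hb⟩ := exists_coord hF' h (five_of_not_thin h ht) hx hc hxc
    have := unitary_iso h (by omega) M hZ
    have := hb (no_pair h hall hx hc hxc)
    refine Or.inr ⟨F, i1, i2, hF, ?_⟩
    interval_cases m
    · exact Or.inl (by assumption)
    · exact Or.inr (by assumption)

/-- Central cores leave no room for partners. -/
theorem cores_central_false (hsol : ∀ N : Subgroup G, N.Normal → Group.IsSolvable N → N = ⊥)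
    (hD : IsThreeTranspositionClass D) (hp : IsPrimitiveUnderConj D)
    (hw : ∃ a ∈ D, ∃ b ∈ D, a ≠ b ∧ Commute a b) {x : G} (hx : x ∈ D)
    (hs : Group.IsSolvable ↥(Subgroup.closure (Ds D x)))
    (h2 : pCore 2 ↥(Subgroup.closure (Ds D x)) ≤ Subgroup.center ↥(Subgroup.closure (Ds D x)))
    (hodd : oddCore ↥(Subgroup.closure (Ds D x)) ≤ Subgroup.center ↥(Subgroup.closure (Ds D x))) : False := by
  set H := Subgroup.closure (Ds D x) with hH
  haveI := hs
  have hF : fittingSubgroup ↥H ≤ Subgroup.center ↥H := by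
    rw [fittingSubgroup_eq_iSup_pCore]
    refine iSup_le fun q => ?_
    by_cases e : (q : ℕ) = 2
    · rw [e]; exact h2
    · exact (pCore_le_pPrimeCore_of_ne Nat.prime_two q.2 (fun e' => e e'.symm)).trans hodd
  have hab : ∀ u v : ↥H, v * u = u * v := fun u v => by
    have hu : u ∈ Subgroup.centralizer (fittingSubgroup ↥H : Set ↥H) := fun w hw =>
      (Subgroup.mem_center_iff.mp (hF hw) u).symm
    exact Subgroup.mem_center_iff.mp (hF (centralizer_fitting_le hu)) v
  have huniq : ∀ a ∈ D, ∀ e ∈ Ds D a, ∀ e' ∈ Ds D a, e = e' := by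
    intro a ha e he e' he'
    obtain ⟨g, rfl⟩ := cls_exists_conj hD hx ha
    have hpre : ∀ {e}, e ∈ Ds D (g * x * g⁻¹) → ∃ e0 ∈ Ds D x, g * e0 * g⁻¹ = e := fun he => by
      rw [← cj_Ds hD] at he; exact he
    obtain ⟨e0, he0, rfl⟩ := hpre he
    obtain ⟨e1, he1, rfl⟩ := hpre he'
    obtain ⟨k, hk, hke⟩ := Ds_transitive hD hp hw hx e0 he0 e1 he1
    have hc : k * e0 = e0 * k := congrArg Subtype.val (hab ⟨e0, Subgroup.subset_closure he0⟩ ⟨k, hk⟩)
    rw [← hke, hc, mul_inv_cancel_right]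
  obtain ⟨e, he⟩ := exists_partner hD hw hx
  have hsub : D ⊆ {x, e} := by
    refine eq_cls_of_closed hD hp hw hx (S := {x, e}) (Or.inl rfl) fun u hu v hv hc => ?_
    rcases hu with rfl | rfl
    · by_cases h1 : v = u
      · exact Or.inl h1
      · exact Or.inr (huniq u hx v ⟨hv, h1, hc⟩ e he)
    · by_cases h1 : v = u
      · exact Or.inr h1
      · exact Or.inl (huniq u he.1 v ⟨hv, h1, hc⟩ x (Ds_symm hx he))
  have hcomm : ∀ a ∈ D, Commute x a := fun a ha => by
    rcases hsub ha with rfl | rfl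
    · exact Commute.refl _
    · exact he.2.2
  obtain ⟨c, hc, hn⟩ := exists_noncommute hD hp.2.1 hx
  exact hn (hcomm c hc)

end CfsgThreeTrans.Polar
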